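import Groth.Agent.L25.AffRed.Adjoint
import Groth.Agent.L19.AlgGrpBasic.EtaleTangent
import Groth.Agent.L25.Locus.Transporter
import Groth.Agent.L25.Dyn.CentConn
import Groth.Agent.L25.RedField.Radical

/-!
# Tori killed by the adjoint representation are central
-/

set_option autoImplicit false
set_option linter.unusedSectionVars false
set_option linter.style.haveILetI false
set_option backward.isDefEq.respectTransparency.types false
set_option backward.isDefEq.respectTransparency false
set_option maxHeartbeats 1000000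

universe u

open CategoryTheory CategoryTheory.Limits MonoidalCategory CartesianMonoidalCategory MonObj GrpObj AlgebraicGeometry
open LieS Groth.L09.Patch
open Groth.L25.NilAction (toBase ofBase toBase_ofBase ofBase_toBase toBase_mul toBase_one ofBase_comp)

attribute [-instance] CategoryTheory.Hom.commGroup
noncomputable section

namespace Groth.L25.AffRed

variable {A : Type u} [CommRing A] {G : Over (Spec (CommRingCat.of A))} [GrpObj G] (C : Chart G)

/-- points killed by the adjoint representation act trivially on the Lie algebra -/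
theorem Ad_eq_self_of_comp_adjoint {B : Type u} [CommRing B]
    (f : Spec (CommRingCat.of B) ⟶ Spec (CommRingCat.of A)) (g : pt B f ⟶ G) (h : g ≫ adjoint C = 1)
    (v : Lie G B f) : LieS.Ad G B f g v = v := by
  refine (adMat_eq_one_iff C B f g).1 ?_ v
  letI : Algebra A B := (bse f).toAlgebra
  have hf : stm A B = f := spec_bse (f := f)
  let g' : pt B (stm A B) ⟶ G := Over.homMk g.left ((Over.w g).trans hf.symm)
  have h' : g' ≫ adjoint C = 1 := Over.OverMorphism.ext ((congrArg (fun z => z.left) h).trans (by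
    show (toUnit (pt B f)).left ≫ _ = (toUnit (pt B (stm A B))).left ≫ _
    congr 1
    exact ((Category.comp_id _).symm.trans (Over.w (toUnit (pt B f)))).trans
      (hf.symm.trans ((Category.comp_id _).symm.trans (Over.w (toUnit (pt B (stm A B))))).symm)))
  rw [← adMat_congr C B (stm A B) hf g' g rfl]
  exact (adMat_eq_one_iff C B (stm A B) g').2 ((comp_adjoint_eq_one_iff C g').1 h')

variable {K : Type u} [Field K] [IsAlgClosed K] (b : Spec (CommRingCat.of K) ⟶ Spec (CommRingCat.of A))
  {T : Over (Spec (CommRingCat.of K))} [GrpObj T] (iT : T ⟶ Red.bc b G) [IsMonHom iT]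

/-- first order points commute with points killed by the adjoint representation -/
theorem tangent_commutes (hkill : iT ≫ (Over.pullback b).map (adjoint C) = 1)
    (v : Groth.L25.GrpDeriv.sp (K := K) (DualNumber K) ⟶ Red.bc b G)
    (hv : Groth.L25.GrpDeriv.spMap (TrivSqZeroExt.fstHom K K K) ≫ v = 1)
    {X : Over (Spec (CommRingCat.of K))} (x : X ⟶ Groth.L25.GrpDeriv.sp (K := K) (DualNumber K)) (h : X ⟶ T) :
    (x ≫ v) * (h ≫ iT) = (h ≫ iT) * (x ≫ v) := by
  refine Groth.L19.AlgGrpBasic.hom_ext_affinePoints _ _ fun B _ _ y => ?_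
  rw [MonObj.comp_mul, MonObj.comp_mul]
  -- the two points over the ground ring
  let fB : Spec (CommRingCat.of B) ⟶ Spec (CommRingCat.of A) := Spec.map (CommRingCat.ofHom (algebraMap K B)) ≫ b
  obtain ⟨φ, hφ⟩ := Spec.map_surjective (y ≫ x).left
  let e : DualNumber K →+* B := φ.hom
  have hek : e.comp (algebraMap K (DualNumber K)) = algebraMap K B := by
    refine (congrArg CommRingCat.Hom.hom (Spec.map_injective
      (a₁ := CommRingCat.ofHom (algebraMap K (DualNumber K)) ≫ φ) (a₂ := CommRingCat.ofHom (algebraMap K B)) ?_) :)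
    rw [Spec.map_comp, hφ]
    exact Over.w (y ≫ x)
  let ε : B := e DualNumber.eps
  have hε : ε * ε = 0 := by rw [← map_mul, eps_sq, map_zero]
  let sE : DualNumber B →+* B := dualHom (RingHom.id B) ε hε
  have hsE : sE.comp (algebraMap B (DualNumber B)) = RingHom.id B := dualHom_comp_algebraMap _ _ _
  have hsec : sE.comp (LieS.bcHom (algebraMap K B)) = e := by
    refine RingHom.ext fun t => ?_
    have ht : t = algebraMap K (DualNumber K) t.fst + algebraMap K (DualNumber K) t.snd * DualNumber.eps := by
      refine TrivSqZeroExt.ext ?_ ?_ <;> simp [TrivSqZeroExt.algebraMap_eq_inl']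
    conv_rhs => rw [ht, map_add, map_mul]
    show sE (LieS.bcHom (algebraMap K B) t) = _
    have e1 : ∀ c : K, e (algebraMap K (DualNumber K) c) = algebraMap K B c := fun c => RingHom.congr_fun hek c
    rw [e1, e1]
    simp [sE, LieS.bcHom, TrivSqZeroExt.algebraMap_eq_inl', ε]
  -- the first order point over the ground ring
  let f₀ : Spec (CommRingCat.of K) ⟶ Spec (CommRingCat.of A) := b
  let v₀ : dpt K f₀ ⟶ G := toBase b v
  have hv₀ : v₀ ∈ Lie G K f₀ := by
    rw [mem_Lie_iff]
    refine Over.OverMorphism.ext ?_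
    have h1 := congrArg (fun z => z.left ≫ pullback.fst G.hom b) hv
    have h2 : ((1 : Groth.L25.GrpDeriv.sp (K := K) K ⟶ Red.bc b G)).left ≫ pullback.fst G.hom b =
        b ≫ η[G].left := by
      show ((toUnit (Groth.L25.GrpDeriv.sp (K := K) K)).left ≫ η[Red.bc b G].left) ≫ pullback.fst G.hom b = _
      rw [Category.assoc, Groth.L25.SmoothUnit.eta_bc_fst b G, show (toUnit (Groth.L25.GrpDeriv.sp (K := K) K)).left =
        𝟙 _ from (Category.comp_id _).symm.trans ((Over.w (toUnit (Groth.L25.GrpDeriv.sp (K := K) K))).trans (by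
          show Spec.map _ = _
          rw [Algebra.algebraMap_self, CommRingCat.ofHom_id]
          exact Spec.map_id _))]
      exact Category.id_comp _
    show Spec.map _ ≫ v.left ≫ pullback.fst G.hom b = (toUnit (pt K f₀)).left ≫ η[G].left
    rw [show (toUnit (pt K f₀)).left = b from (Category.comp_id _).symm.trans (Over.w (toUnit (pt K f₀))), ← h2]
    simp only [Over.comp_left, Category.assoc] at h1
    exact h1
  let xL : Lie G K f₀ := ⟨v₀, hv₀⟩
  let g : pt B fB ⟶ G := toBase b (y ≫ h ≫ iT)
  have hg : g ≫ adjoint C = 1 := by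
    rw [← toBase_one b (Y := VecGrp.pt K B) (G := GLA C.d A)]
    refine (Groth.L08.Borel.toBase_map' b (y ≫ h ≫ iT) (adjoint C)).symm.trans ?_
    congr 1
    simp only [Category.assoc, hkill, MonObj.comp_one]
  have hAd := congrArg Subtype.val (Ad_eq_self_of_comp_adjoint C fB g hg (pull G f₀ (algebraMap K B) xL))
  let s : pt B fB ⟶ dpt B fB := Over.homMk (sp sE) (by
    show sp sE ≫ sp (algebraMap B (DualNumber B)) ≫ fB = fB
    rw [← Category.assoc, sp_comp, hsE, sp_id, Category.id_comp])
  have hsp : s ≫ proj B fB = 𝟙 _ := Over.OverMorphism.ext ((sp_comp _ _).trans ((congrArg sp hsE).trans sp_id))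
  have hcomm : (proj B fB ≫ g) * (pull G f₀ (algebraMap K B) xL).1 =
      (pull G f₀ (algebraMap K B) xL).1 * (proj B fB ≫ g) := mul_inv_eq_iff_eq_mul.1 hAd
  have h3 := congrArg (s ≫ ·) hcomm
  simp only [MonObj.comp_mul, reassoc_of% hsp] at h3
  have h4 : s ≫ (pull G f₀ (algebraMap K B) xL).1 = toBase b (y ≫ x ≫ v) := by
    refine Over.OverMorphism.ext ?_
    show sp sE ≫ sp (LieS.bcHom (algebraMap K B)) ≫ v.left ≫ pullback.fst G.hom b =
      (y.left ≫ x.left ≫ v.left) ≫ pullback.fst G.hom b
    rw [← Category.assoc, sp_comp, hsec]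
    show Spec.map φ ≫ _ = _
    rw [hφ, Over.comp_left]
    simp only [Category.assoc]
  rw [h4] at h3
  refine Groth.L08.Borel.toBase_injective b _ _ ?_
  rw [toBase_mul, toBase_mul]
  exact h3.symm

/-- **a torus killed by the adjoint representation is central** -/
theorem central_of_killed (hG : Red.IsReductiveOver K (Red.bc b G)) (hT : Red.IsTorus T) [IsClosedImmersion iT.left]
    (hkill : iT ≫ (Over.pullback b).map (adjoint C) = 1) (X : Over (Spec (CommRingCat.of K))) (t : X ⟶ T)
    (g : X ⟶ Red.bc b G) : (t ≫ iT) * g = g * (t ≫ iT) := by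
  haveI := hG.1; haveI := hG.2.1; haveI := hG.2.2.1
  haveI : QuasiCompact (Red.bc b G).hom := quasiCompact_of_compactSpace _
  obtain ⟨Z, gZ, c, hc, hcl, hZs⟩ := Groth.L25.Locus.exists_smooth_centralizer
    (Groth.L25.Locus.locally_of_multTypeFT (Groth.L25.Locus.isMultTypeFT_of_isTorus hT)) iT
  haveI := hc.1; haveI := hc.2.1; haveI := hcl; haveI := hZs
  obtain ⟨W, j, hj, hone, het⟩ := Groth.L19.AlgGrpBasic.exists_etale_nhd_of_tangent c
    (fun v v' _ _ e => (cancel_mono c).1 e) fun v hv => by
      obtain ⟨w, hw⟩ := (hc.2.2 _ v).2 fun X' x h => tangent_commutes C b iT hkill v hv x h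
      refine ⟨w, ?_, hw⟩
      rw [← cancel_mono c, Category.assoc, hw, hv, MonObj.one_comp]
  haveI := het
  haveI : IsLocallyNoetherian (Red.bc b G).left := LocallyOfFiniteType.isLocallyNoetherian (Red.bc b G).hom
  haveI : IrreducibleSpace (Red.bc b G).left := Groth.L25.Component.irreducibleSpace (Red.bc b G)
  haveI : IsReduced (Red.bc b G).left := Groth.Agent.AV.isReduced_of_smooth_field (k := K) (Red.bc b G).hom
  haveI : Surjective c.left := by
    refine ⟨Set.range_eq_univ.1 (le_antisymm (Set.subset_univ _) ?_)⟩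
    have hop : IsOpen (Set.range (j ≫ c.left)) := (j ≫ c.left).isOpenMap.isOpen_range
    obtain ⟨w, -⟩ := hone
    have hd : Dense (Set.range (j ≫ c.left)) := hop.dense ⟨_, w, rfl⟩
    rw [← hd.closure_eq]
    refine closure_minimal ?_ c.left.isClosedEmbedding.isClosed_range
    rintro _ ⟨z, rfl⟩
    exact ⟨j z, (Scheme.Hom.comp_apply _ _ _).symm⟩
  haveI : IsIso c.left := isIso_of_isClosedImmersion_of_surjective c.left
  haveI : IsIso ((Over.forget _).map c) := ‹IsIso c.left›
  haveI : IsIso c := isIso_of_reflects_iso c (Over.forget _)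
  have h := (hc.2.2 X g).1 ⟨g ≫ inv c, by rw [Category.assoc, IsIso.inv_hom_id, Category.comp_id]⟩ X (𝟙 X) t
  rw [Category.id_comp] at h
  exact h.symm

/-- **tori killed by the adjoint representation of a semisimple group are trivial** -/
theorem isTrivialGrp_of_killed (hG : Red.IsSemisimpleOver K (Red.bc b G)) (hT : Red.IsTorus T)
    [IsClosedImmersion iT.left] (hkill : iT ≫ (Over.pullback b).map (adjoint C) = 1) : Red.IsTrivialGrp T :=
  hG.2 T iT inferInstance (fun X g x => ⟨x, by
    rw [← central_of_killed C b iT hG.1 hT hkill X x g, mul_inv_cancel_right]⟩) hT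

end Groth.L25.AffRed
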