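import Groth.Agent.L25.AffRed.LieCoords
import Groth.Agent.L15.MuGL.Pts
import Groth.Agent.L19.AlgGrpBasic.NatMor
import Mathlib.LinearAlgebra.Matrix.ToLin
import Mathlib.RingTheory.FinitePresentation

/-!
# The adjoint representation of a smooth group scheme over a local base
-/

set_option autoImplicit false
set_option linter.unusedSectionVars false
set_option linter.style.haveILetI false
set_option backward.isDefEq.respectTransparency.types false
set_option backward.isDefEq.respectTransparency false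
set_option maxHeartbeats 1000000
set_option synthInstance.maxHeartbeats 40000

universe u

open CategoryTheory CategoryTheory.Limits MonoidalCategory CartesianMonoidalCategory MonObj GrpObj AlgebraicGeometry
open LieS Groth.L06.Lie Groth.L09.Patch

attribute [-instance] CategoryTheory.Hom.commGroup
noncomputable section

namespace Groth.L25.AffRed

/-- the general linear group over a ring -/
abbrev GLA (n : ℕ) (A : Type u) [CommRing A] : Over (Spec (CommRingCat.of A)) := CoactBr.sp A (CoordGrp.GLn n A)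

instance isAffineHom_GLA (n : ℕ) (A : Type u) [CommRing A] : IsAffineHom (GLA n A).hom :=
  inferInstanceAs (IsAffineHom (Spec.map _))

theorem finitePresentation_GLn (n : ℕ) (A : Type u) [CommRing A] :
    Algebra.FinitePresentation A (CoordGrp.GLn n A) := by
  haveI : Algebra.FinitePresentation A (CoordGrp.GLb n A) := by
    unfold CoordGrp.GLb
    infer_instance
  show Algebra.FinitePresentation A (CoordGrp.GLb n A ⧸ CoordGrp.GLb.relIdeal n A)
  exact Algebra.FinitePresentation.quotient (Submodule.fg_span_singleton _)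

instance locallyOfFinitePresentation_GLA (n : ℕ) (A : Type u) [CommRing A] :
    LocallyOfFinitePresentation (GLA n A).hom :=
  (HasRingHomProperty.Spec_iff (P := @LocallyOfFinitePresentation)).2
    (RingHom.finitePresentation_algebraMap.2 (finitePresentation_GLn n A))

variable {A : Type u} [CommRing A] {G : Over (Spec (CommRingCat.of A))} [GrpObj G] (C : Chart G)

section General

variable (B : Type u) [CommRing B] (f : Spec (CommRingCat.of B) ⟶ Spec (CommRingCat.of A))

/-- coordinates as a linear equivalence -/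
def cdEquiv : LA G B f ≃ₗ[B] (Fin C.d → B) :=
  LinearEquiv.ofBijective
    ({ toFun := fun a => cd C a.pnt
       map_add' := fun a b => cd_mul C a.pnt b.pnt
       map_smul' := fun b a => cd_smul C a.pnt b } : LA G B f →ₗ[B] (Fin C.d → B))
    ⟨fun _ _ h => LA.ext (cd_injective C h), fun c => by
      obtain ⟨v, hv⟩ := cd_surjective (f := f) C c
      exact ⟨⟨v⟩, hv⟩⟩

theorem cdEquiv_apply (a : LA G B f) : cdEquiv C B f a = cd C a.pnt := rfl

/-- the adjoint action as a linear endomorphism -/
def adEnd : (pt B f ⟶ G) →* Module.End B (LA G B f) where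
  toFun g :=
    { toFun := fun a => ⟨LieS.Ad G B f g a.pnt⟩
      map_add' := fun a b => LA.ext (map_mul _ _ _)
      map_smul' := fun b a => LA.ext (Ad_smul g b a.pnt) }
  map_one' := LinearMap.ext fun a => LA.ext (Subtype.ext (by
    show (proj B f ≫ 1) * a.pnt.1 * (proj B f ≫ 1)⁻¹ = a.pnt.1
    rw [MonObj.comp_one, inv_one, _root_.one_mul, _root_.mul_one]))
  map_mul' g g' := LinearMap.ext fun a => LA.ext (Subtype.ext (by
    show (proj B f ≫ (g * g')) * a.pnt.1 * (proj B f ≫ (g * g'))⁻¹ =
      (proj B f ≫ g) * ((proj B f ≫ g') * a.pnt.1 * (proj B f ≫ g')⁻¹) * (proj B f ≫ g)⁻¹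
    rw [MonObj.comp_mul]
    group))

/-- the matrix of the adjoint action -/
def adMat : (pt B f ⟶ G) →* Matrix (Fin C.d) (Fin C.d) B :=
  ((LinearMap.toMatrixAlgEquiv' : _ ≃ₐ[B] Matrix (Fin C.d) (Fin C.d) B).toMonoidHom.comp
    ((cdEquiv C B f).conjAlgEquiv B).toMonoidHom).comp (adEnd B f)

theorem adMat_apply (g : pt B f ⟶ G) (i j : Fin C.d) :
    adMat C B f g i j = cd C (LieS.Ad G B f g ((cdEquiv C B f).symm (Pi.single j 1)).pnt) i := by
  show LinearMap.toMatrixAlgEquiv' ((cdEquiv C B f).conjAlgEquiv B (adEnd B f g)) i j = _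
  rw [LinearMap.toMatrixAlgEquiv'_apply]
  simp only [LinearEquiv.conjAlgEquiv_apply]
  rfl

theorem adMat_eq_one_iff (g : pt B f ⟶ G) : adMat C B f g = 1 ↔ ∀ v : Lie G B f, LieS.Ad G B f g v = v := by
  show LinearMap.toMatrixAlgEquiv' ((cdEquiv C B f).conjAlgEquiv B (adEnd B f g)) = 1 ↔ _
  rw [EmbeddingLike.map_eq_one_iff, EmbeddingLike.map_eq_one_iff]
  refine ⟨fun h v => congrArg LA.pnt (LinearMap.congr_fun h ⟨v⟩), fun h => LinearMap.ext fun a => LA.ext (h a.pnt)⟩

variable {B} in
theorem pull_Ad (g : pt B f ⟶ G) {B' : Type u} [CommRing B'] (h : B →+* B') (v : Lie G B f) :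
    pull G f h (LieS.Ad G B f g v) =
      LieS.Ad G B' (Spec.map (CommRingCat.ofHom h) ≫ f) (ptMap f h ≫ g) (pull G f h v) := by
  refine Subtype.ext ?_
  show dptMap f h ≫ ((proj B f ≫ g) * v.1 * (proj B f ≫ g)⁻¹) =
    (proj B' _ ≫ ptMap f h ≫ g) * (dptMap f h ≫ v.1) * (proj B' _ ≫ ptMap f h ≫ g)⁻¹
  have e : dptMap f h ≫ proj B f = proj B' _ ≫ ptMap f h :=
    Over.OverMorphism.ext (((sp_comp _ _).trans (congrArg sp (bcHom_comp_algebraMap h))).trans (sp_comp _ _).symm)
  rw [MonObj.comp_mul, MonObj.comp_mul, GrpObj.comp_inv, ← Category.assoc (dptMap f h) (proj B f), e, Category.assoc]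

theorem adMat_natural {B' : Type u} [CommRing B'] (h : B →+* B') (g : pt B f ⟶ G) :
    adMat C B' (Spec.map (CommRingCat.ofHom h) ≫ f) (ptMap f h ≫ g) = (adMat C B f g).map h := by
  ext i j
  rw [Matrix.map_apply, adMat_apply, adMat_apply]
  have e : ((cdEquiv C B' (Spec.map (CommRingCat.ofHom h) ≫ f)).symm (Pi.single j 1)).pnt =
      pull G f h ((cdEquiv C B f).symm (Pi.single j 1)).pnt := by
    refine cd_injective C ?_
    show cd C _ = cd C _
    rw [cd_pull, ← cdEquiv_apply, LinearEquiv.apply_symm_apply]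
    funext k
    rw [← cdEquiv_apply C B f, LinearEquiv.apply_symm_apply, Pi.single_apply, Pi.single_apply]
    split <;> simp
  rw [e, ← pull_Ad, cd_pull]

theorem adMat_congr {f' : Spec (CommRingCat.of B) ⟶ Spec (CommRingCat.of A)} (hf : f = f') (g : pt B f ⟶ G)
    (g' : pt B f' ⟶ G) (hg : g.left = g'.left) : adMat C B f g = adMat C B f' g' := by
  subst hf
  rw [show g = g' from Over.OverMorphism.ext hg]

end General

/-- the structure map of an algebra -/
abbrev stm (A B : Type u) [CommRing A] [CommRing B] [Algebra A B] :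
    Spec (CommRingCat.of B) ⟶ Spec (CommRingCat.of A) := Spec.map (CommRingCat.ofHom (algebraMap A B))

/-- the points of `GL` given by the adjoint action -/
def adPt (B : Type u) [CommRing B] [Algebra A B] :
    (VecGrp.pt A B ⟶ G) →* (CoactBr.sp A B ⟶ GLA C.d A) :=
  ((Groth.L15.MuGL.glPtsSp A C.d).pt B).toMonoidHom.comp (adMat C B (stm A B)).toHomUnits

theorem adPt_natural {B B' : Type u} [CommRing B] [Algebra A B] [CommRing B'] [Algebra A B'] (φ : B →ₐ[A] B')
    (g : VecGrp.pt A B ⟶ G) : VecGrp.ptMap φ ≫ adPt C B g = adPt C B' (VecGrp.ptMap φ ≫ g) := by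
  refine ((Groth.L15.MuGL.glPtsSp A C.d).natural φ _).trans ?_
  show (Groth.L15.MuGL.glPtsSp A C.d).pt B' _ = (Groth.L15.MuGL.glPtsSp A C.d).pt B' _
  congr 1
  refine Units.ext ?_
  show (adMat C B (stm A B) g).map φ = adMat C B' (stm A B') (VecGrp.ptMap φ ≫ g)
  refine (adMat_natural C B (stm A B) (φ : B →+* B') g).symm.trans (adMat_congr C B' _ ?_ _ _ rfl)
  show Spec.map _ ≫ Spec.map _ = Spec.map _
  rw [← Spec.map_comp, ← CommRingCat.ofHom_comp]
  congr 2
  exact φ.comp_algebraMap

theorem exists_adjoint :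
    ∃ ρ : G ⟶ GLA C.d A, IsMonHom ρ ∧ ∀ (B : Type u) [CommRing B] [Algebra A B] (g : VecGrp.pt A B ⟶ G),
      g ≫ ρ = adPt C B g := by
  obtain ⟨ρ, hρ⟩ := Groth.L19.AlgGrpBasic.exists_hom_of_natural (G := G) (T := GLA C.d A)
    (fun B _ _ => adPt C B) (fun φ g => adPt_natural C φ g)
  refine ⟨ρ, Groth.L19.AlgGrpBasic.isMonHom_of_affinePoints ρ fun B _ _ a b => ?_, hρ⟩
  rw [hρ, hρ, hρ, map_mul]

/-- the adjoint representation -/
def adjoint : G ⟶ GLA C.d A := (exists_adjoint C).choose

instance isMonHom_adjoint : IsMonHom (adjoint C) := (exists_adjoint C).choose_spec.1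

/-- **kernel of the adjoint representation** -/
theorem comp_adjoint_eq_one_iff {B : Type u} [CommRing B] [Algebra A B] (g : VecGrp.pt A B ⟶ G) :
    g ≫ adjoint C = 1 ↔ ∀ v : Lie G B (stm A B), LieS.Ad G B (stm A B) g v = v := by
  rw [← adMat_eq_one_iff C, show g ≫ adjoint C = adPt C B g from (exists_adjoint C).choose_spec.2 B g]
  show (Groth.L15.MuGL.glPtsSp A C.d).pt B ((adMat C B (stm A B)).toHomUnits g) = 1 ↔ _
  rw [EmbeddingLike.map_eq_one_iff, ← Units.val_inj]
  rfl

end Groth.L25.AffRed
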