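import Groth.Agent.L25.RedField.CentralChar
import Groth.Agent.L25.SplitSub.Image
import Groth.Agent.L25.SplitSub.Map
import Groth.Agent.L08.MonoRed.Acts
import Groth.Agent.L08.AbelianGrp
import Groth.Agent.L24.GrpdField.SubGrpd
import Groth.Agent.L08.Borel.MaxTori

/-!
# Finitely many characters separate the central tori
-/

set_option autoImplicit false
set_option linter.unusedSectionVars false
set_option linter.style.haveILetI false
set_option backward.isDefEq.respectTransparency.types false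
set_option maxHeartbeats 1000000

universe u

open CategoryTheory CategoryTheory.Limits MonoidalCategory CartesianMonoidalCategory MonObj GrpObj AlgebraicGeometry

noncomputable section

namespace Groth.L25.AffRed

variable {k : Type u} [Field k] [IsAlgClosed k]

local notation "SK" => Spec (CommRingCat.of k)

/-- finitely many characters combine to one homomorphism into a split torus -/
theorem exists_vec {G : Over SK} [GrpObj G] {m : ℕ} (χ : Fin m → (G ⟶ Red.Gm SK)) (hχ : ∀ i, IsMonHom (χ i)) :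
    ∃ f : G ⟶ Red.DS SK (Fin m → ℤ), IsMonHom f ∧
      ∀ i, f ≫ Red.DSmap SK (AddMonoidHom.single (fun _ : Fin m => ℤ) i) = χ i := by
  classical
  haveI : ∀ {M N : Type} [AddCommGroup M] [AddCommGroup N] (φ : M →+ N), IsMonHom (Red.DSmap SK φ) :=
    fun φ => Groth.L25.TorusTorsion.isMonHom_DSmap _ φ
  suffices ∀ s : Finset (Fin m), ∃ f : G ⟶ Red.DS SK (Fin m → ℤ), IsMonHom f ∧
      ∀ i, f ≫ Red.DSmap SK (AddMonoidHom.single (fun _ : Fin m => ℤ) i) = if i ∈ s then χ i else 1 by
    obtain ⟨f, hf, h⟩ := this Finset.univ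
    exact ⟨f, hf, fun i => by simpa using h i⟩
  intro s
  induction s using Finset.induction_on with
  | empty => exact ⟨1, inferInstance, fun i => by simp [MonObj.one_comp]⟩
  | insert a s ha ih =>
    obtain ⟨f, hf, h⟩ := ih
    haveI := hf; haveI := hχ a
    let g : G ⟶ Red.DS SK (Fin m → ℤ) := χ a ≫ Red.DSmap SK (Pi.evalAddMonoidHom (fun _ : Fin m => ℤ) a)
    refine ⟨f * g, ?_, fun i => ?_⟩
    · refine Groth.L25.SplitSub.isMonHom_of_mul (f * g : G ⟶ Red.DS SK (Fin m → ℤ)) fun T x y => ?_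
      simp only [MonObj.comp_mul, MonObj.mul_comp]
      rw [_root_.mul_assoc, _root_.mul_assoc]
      congr 1
      rw [← _root_.mul_assoc, Groth.L08.MonoRed.DS_comm (y ≫ f) (x ≫ g), _root_.mul_assoc]
    rw [MonObj.mul_comp, h]
    show _ * ((χ a ≫ Red.DSmap SK _) ≫ Red.DSmap SK _) = _
    rw [Category.assoc, Groth.L25.TorusTorsion.DSmap_comp]
    by_cases hia : i = a
    · subst hia
      rw [show (Pi.evalAddMonoidHom (fun _ : Fin m => ℤ) i).comp (AddMonoidHom.single (fun _ : Fin m => ℤ) i) =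
        AddMonoidHom.id ℤ from AddMonoidHom.ext fun z => by simp, Groth.L25.TorusTorsion.DSmap_id, Category.comp_id,
        if_neg ha, _root_.one_mul, if_pos (Finset.mem_insert_self _ _)]
    · rw [show (Pi.evalAddMonoidHom (fun _ : Fin m => ℤ) a).comp (AddMonoidHom.single (fun _ : Fin m => ℤ) i) = 0
        from AddMonoidHom.ext fun z => by simp [Pi.single_eq_of_ne (Ne.symm hia)],
        Groth.Agent.S14754.DSmap_zero, MonObj.comp_one, _root_.mul_one]
      simp [hia]

/-- **finitely many characters kill no nontrivial central torus** -/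
theorem exists_chars {G : Over SK} [GrpObj G] [IsAffine G.left] [LocallyOfFiniteType G.hom] :
    ∃ (m : ℕ) (f : G ⟶ Red.DS SK (Fin m → ℤ)), IsMonHom f ∧
      ∀ (T : Over SK) [GrpObj T] (i : T ⟶ G) [IsMonHom i] [IsClosedImmersion i.left], Red.IsTorus T →
        (∀ (X : Over SK) (t : X ⟶ T) (g : X ⟶ G), (t ≫ i) * g = g * (t ≫ i)) →
        i ≫ f = 1 → Red.IsTrivialGrp T := by
  classical
  haveI : QuasiCompact G.hom := quasiCompact_of_compactSpace _
  haveI : IsLocallyNoetherian G.left := LocallyOfFiniteType.isLocallyNoetherian G.hom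
  haveI : AlgebraicGeometry.IsNoetherian G.left := { }
  haveI : TopologicalSpace.NoetherianSpace G.left := IsNoetherian.noetherianSpace
  let Ch := {χ : G ⟶ Red.Gm SK // IsMonHom χ}
  have hker : ∀ c : Ch, ∃ (K : Over SK) (i : K ⟶ G), IsClosedImmersion i.left ∧ i ≫ c.1 = 1 ∧
      ∀ (X : Over SK) (a : X ⟶ G), a ≫ c.1 = 1 → Set.range a.left ⊆ Set.range i.left := fun c => by
    haveI := c.2
    obtain ⟨K, gK, i, -, hic, -, sq⟩ := Groth.L08.AbelianGrp.exists_kernel c.1
    refine ⟨K, i, hic, sq.w.trans Hom.one_def.symm, fun X a ha => ?_⟩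
    obtain ⟨z, hz, -⟩ := sq.exists_lift a (toUnit X) (by rw [ha, Hom.one_def])
    rw [← hz]
    rintro _ ⟨x, rfl⟩
    exact ⟨z.left x, (Scheme.Hom.comp_apply _ _ _).symm⟩
  choose K i hic hik hsub using hker
  let Z : Finset Ch → TopologicalSpace.Closeds G.left := fun s =>
    ⟨⋂ c ∈ s, Set.range (i c).left, isClosed_biInter fun c _ => (hic c).isClosedEmbedding.isClosed_range⟩
  obtain ⟨_, ⟨s, rfl⟩, hmin⟩ := wellFounded_lt.has_min (Set.range Z) ⟨_, ⟨∅, rfl⟩⟩
  obtain ⟨f, hf, hfi⟩ := exists_vec (m := s.card) (fun n => (s.equivFin.symm n).1.1) fun n => (s.equivFin.symm n).1.2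
  refine ⟨s.card, f, hf, fun T _ j _ _ hT hcent hkill => ?_⟩
  by_contra hne
  haveI : Mono j := Over.mono_of_mono_left j
  obtain ⟨χ, hχ, hχne⟩ := Groth.L25.RedField.exists_char_ne_one hT hne j hcent
  have hZ : Z (insert ⟨χ, hχ⟩ s) = Z s := by
    refine eq_of_le_of_not_lt (fun x hx => ?_) (hmin _ ⟨_, rfl⟩)
    simp only [Z, TopologicalSpace.Closeds.mem_mk, Set.mem_iInter] at hx ⊢
    exact fun c hc => hx c (Finset.mem_insert_of_mem hc)
  have hjs : Set.range j.left ⊆ Z s := by
    intro x hx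
    simp only [Z, TopologicalSpace.Closeds.coe_mk, Set.mem_iInter]
    intro c hc
    refine hsub c T j ?_ hx
    have := hfi (s.equivFin ⟨c, hc⟩)
    simp only [Equiv.symm_apply_apply] at this
    rw [← this, ← Category.assoc, hkill, MonObj.one_comp]
  rw [← hZ] at hjs
  let c₀ : Ch := ⟨χ, hχ⟩
  have hjK : Set.range j.left ⊆ Set.range (i c₀).left := fun x hx => by
    have := hjs hx
    simp only [Z, TopologicalSpace.Closeds.coe_mk, Set.mem_iInter] at this
    exact this c₀ (Finset.mem_insert_self _ _)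
  obtain ⟨hTa, hTs, -⟩ := Groth.L08.Borel.torus_props hT
  haveI := hTs
  haveI : IsReduced T.left := Groth.Agent.AV.isReduced_of_smooth_field (k := k) T.hom
  haveI : IsClosedImmersion (i c₀).left := hic c₀
  obtain ⟨l, hl⟩ := Groth.L24.GrpdField.exists_lift_of_range_subset (i c₀).left j.left hjK
  refine hχne ?_
  have hl' : l ≫ (K c₀).hom = T.hom := by rw [← Over.w (i c₀), reassoc_of% hl]; exact Over.w j
  have e : (Over.homMk l hl' : T ⟶ K c₀) ≫ i c₀ = j := Over.OverMorphism.ext hl
  rw [← e, Category.assoc, show i c₀ ≫ χ = 1 from hik c₀, MonObj.comp_one]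

end Groth.L25.AffRed
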