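import Groth.Agent.L25.AffRed.QuotDiag

/-!
# Quotients by clopen equivalence relations
-/

set_option autoImplicit false
set_option backward.isDefEq.respectTransparency false
set_option backward.isDefEq.respectTransparency.types false
set_option linter.style.haveILetI false
set_option maxHeartbeats 800000

universe u

open CategoryTheory CategoryTheory.Limits AlgebraicGeometry Opposite AlgSp

noncomputable section

namespace Groth.L25.AffRed

open Groth.L23

variable {S : Scheme.{u}}

/-- quotients of smooth schemes by clopen relations are separated étale schemes -/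
theorem exists_clopen_quot {R U : Over S} (s t : R ⟶ U) (hrel : IsEqvRel s t) [Smooth U.hom]
    [Flat s.left] [LocallyOfFinitePresentation s.left] [Surjective s.left]
    [Flat t.left] [LocallyOfFinitePresentation t.left]
    (ho : IsOpenImmersion (prod.lift t s).left) (hc : IsClosedImmersion (prod.lift t s).left) :
    ∃ (E : Over S) (q : U ⟶ E), IsPullback t s q q ∧ Surjective q.left ∧ Flat q.left ∧
      LocallyOfFinitePresentation q.left ∧ IsSeparated E.hom ∧ Etale E.hom := by
  let Q : Sp S := quotSp ((yon S).map s) ((yon S).map t)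
  have hQ : IsAlgSpace Q := (Groth.L24.Boot.isAlgSpace_quot_of_flat hrel).of_iso (Groth.L24.Boot.quotIso s t)
  let π : (yon S).obj U ⟶ Q := quotSpπ _ _
  have sq : IsPullback ((yon S).map t) ((yon S).map s) π π :=
    Groth.L24.Boot.isPullback_quotSpπ (Groth.L24.Boot.isEqvRelSp_of_isEqvRel hrel)
  haveI : Epi π := inferInstanceAs (Epi (coequalizer.π _ _))
  haveI : Sheaf.IsLocallySurjective π := (Sheaf.isLocallySurjective_iff_epi' _ π).2 ‹_›
  haveI := isLocalAtTarget_fppf (@IsClosedImmersion.{u})
  haveI := isLocalAtTarget_fppf (@IsOpenImmersion.{u})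
  haveI := isLocalAtTarget_fppf (@Flat.{u})
  haveI := isLocalAtTarget_fppf (@LocallyOfFinitePresentation.{u})
  haveI := isLocalAtTarget_fppf (@Surjective.{u})
  have hdo : RepWith @IsOpenImmersion (Limits.diag Q) := repWith_diag_quot hQ sq _ ho
  have hdc : IsSeparatedSp Q := repWith_diag_quot hQ sq _ hc
  have hπr : Representable π := hQ.representable_from_yon π
  have h₁ : RepWith @Flat π := repWith_of_locallySurjective hπr sq (repWith_map ‹Flat s.left›)
  have h₂ : RepWith @LocallyOfFinitePresentation π :=
    repWith_of_locallySurjective hπr sq (repWith_map ‹LocallyOfFinitePresentation s.left›)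
  have h₃ : RepWith @Surjective π := repWith_of_locallySurjective hπr sq (repWith_map ‹Surjective s.left›)
  have hT : IsTerminal ((yon S).obj (Over.mk (𝟙 S))) := IsTerminal.isTerminalObj (yon S) _ Over.mkIdTerminal
  let g : Q ⟶ (yon S).obj (Over.mk (𝟙 S)) := hT.from Q
  obtain ⟨V, η, hη, hηs⟩ := hQ.atlas
  haveI : Etale V.hom := etale_chart hQ h₁ h₂ h₃ hdo η hη
  have hι : LocP (@LocallyQuasiFinite ⊓ @LocallyOfFiniteType) g :=
    locP_of_chart etLocal_lqfLft hη hηs (b := 𝟙 _) (repWith_of_isIso _) (h := Over.homMk V.hom (Category.comp_id _))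
      (hT.hom_ext _ _) ⟨Groth.L24.QuotAff.locallyQuasiFinite_of_unramified V.hom,
        (inferInstance : LocallyOfFiniteType V.hom)⟩
  obtain ⟨E, θ, hθ⟩ := Groth.L23.Lqf.exists_scheme_of_lqf hQ g hι ((isSeparatedMor_base_iff Q g).2 hdc)
  obtain ⟨q, hq⟩ := (yon S).map_surjective (π ≫ inv θ)
  have sq' : IsPullback ((yon S).map t) ((yon S).map s) ((yon S).map q) ((yon S).map q) :=
    sq.of_iso (Iso.refl _) (Iso.refl _) (Iso.refl _) (asIso θ).symm (by simp) (by simp) (by simp [hq]) (by simp [hq])
  have key : ∀ (P : MorphismProperty Scheme.{u}) [P.IsStableUnderBaseChange], RepWith P π → P q.left := by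
    intro P _ h
    haveI : P.RespectsIso := MorphismProperty.IsStableUnderBaseChange.respectsIso
    refine (repWith_yon_map_iff _ _).1 ?_
    rw [hq]
    exact (MorphismProperty.cancel_right_of_respectsIso (RepWith P) _ _).2 h
  haveI : Surjective q.left := key _ h₃
  haveI : Flat q.left := key _ h₁
  haveI : LocallyOfFinitePresentation q.left := key _ h₂
  refine ⟨E, q, IsPullback.of_map (yon S) ((yon S).map_injective (by rw [Functor.map_comp, Functor.map_comp, sq'.w]))
    sq', inferInstance, inferInstance, inferInstance, ?_, ?_⟩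
  · have h : IsSeparatedSp ((yon S).obj E) :=
      repWith_of_isPullback (isPullback_diag (IsKernelPair.id_of_mono θ : IsPullback (𝟙 _) (𝟙 _) θ θ)) hdc
    exact ⟨(repWith_diag_yon_iff _ _).1 h⟩
  · exact etale_chart hQ h₁ h₂ h₃ hdo θ (repWith_of_isIso _)

end Groth.L25.AffRed
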