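import Mathlib.Algebra.MonoidAlgebra.MapDomain
import Mathlib.Algebra.MonoidAlgebra.NoZeroDivisors
import Mathlib.RingTheory.Valuation.ValuationRing
import Mathlib.RingTheory.IntegralClosure.IsIntegral.Basic
import Mathlib.RingTheory.Localization.FractionRing
import Mathlib.RingTheory.LocalRing.ResidueField.Basic
import Mathlib.RingTheory.Polynomial.ScaleRoots

/-!
# Group algebras over valuation rings

The group algebra over a valuation ring is saturated with respect to the elements of unit content, and integrally
closed in the group algebra over the fraction field.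
-/

set_option autoImplicit false

universe u v

noncomputable section

namespace Groth.L25.AffRed

open MonoidAlgebra

variable {V : Type u} [CommRing V] [IsDomain V] [ValuationRing V] {K : Type u} [Field K] [Algebra V K]
  [IsFractionRing V K] {G : Type v} [CommMonoid G] [UniqueProds G]

/-- extension of scalars of group algebras -/
abbrev ext (V K : Type u) [CommRing V] [CommRing K] [Algebra V K] (G : Type v) [CommMonoid G] :
    MonoidAlgebra V G →+* MonoidAlgebra K G :=
  mapRingHom G (algebraMap V K)

/-- reduction of group algebras -/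
abbrev red (V : Type u) [CommRing V] [IsLocalRing V] (G : Type v) [CommMonoid G] :
    MonoidAlgebra V G →+* MonoidAlgebra (IsLocalRing.ResidueField V) G :=
  mapRingHom G (IsLocalRing.residue V)

/-- every nonzero element is a scalar multiple of one with unit content -/
theorem exists_primitive {x : MonoidAlgebra K G} (hx : x ≠ 0) :
    ∃ (c : K) (x₀ : MonoidAlgebra V G), red V G x₀ ≠ 0 ∧ x = c • ext V K G x₀ := by
  classical
  let v := ValuationRing.valuation V K
  have hne : x.coeff.support.Nonempty := by
    rw [Finsupp.support_nonempty_iff]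
    exact fun h => hx (MonoidAlgebra.ext (h.trans MonoidAlgebra.coeff_zero.symm))
  obtain ⟨m₀, hm₀, hmax⟩ := Finset.exists_max_image x.coeff.support (fun m => v (x.coeff m)) hne
  have h0 : x.coeff m₀ ≠ 0 := Finsupp.mem_support_iff.1 hm₀
  have hle : ∀ m, ∃ a : V, algebraMap V K a = x.coeff m / x.coeff m₀ := fun m => by
    by_cases h : x.coeff m = 0
    · exact ⟨0, by rw [h, map_zero, zero_div]⟩
    · refine (ValuationRing.mem_integer_iff V K _).1 ?_
      show v (x.coeff m / x.coeff m₀) ≤ 1
      rw [map_div₀, div_le_one₀ (zero_lt_iff.2 (v.ne_zero_iff.2 h0))]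
      exact hmax m (Finsupp.mem_support_iff.2 h)
  choose a ha using hle
  let x₀ : MonoidAlgebra V G := ∑ m ∈ x.coeff.support, single m (a m)
  have hx₀ : ∀ m ∈ x.coeff.support, x₀.coeff m = a m := fun m hm => by
    simp [x₀, MonoidAlgebra.coeff_sum, Finsupp.single_apply, Finsupp.coe_finset_sum, Finset.sum_apply, hm]
  refine ⟨x.coeff m₀, x₀, fun h => ?_, ?_⟩
  · have h1 : IsLocalRing.residue V (a m₀) = 0 := by
      rw [← hx₀ m₀ hm₀]
      simpa [MonoidAlgebra.coeff_mapRingHom] using congrArg (fun z => z.coeff m₀) h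
    have h2 : a m₀ = 1 := IsFractionRing.injective V K (by rw [ha, map_one, div_self h0])
    rw [h2, map_one] at h1
    exact one_ne_zero h1
  · refine MonoidAlgebra.ext (Finsupp.ext fun m => ?_)
    simp only [MonoidAlgebra.coeff_smul, Finsupp.smul_apply, MonoidAlgebra.coeff_mapRingHom, smul_eq_mul]
    by_cases hm : m ∈ x.coeff.support
    · rw [hx₀ m hm, ha, mul_div_cancel₀ _ h0]
    · have : x₀.coeff m = 0 := by
        simp [x₀, MonoidAlgebra.coeff_sum, Finsupp.single_apply, Finsupp.coe_finset_sum, Finset.sum_apply]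
        intro h; exact absurd (Finsupp.mem_support_iff.2 h) hm
      rw [this, map_zero, mul_zero]
      exact Finsupp.notMem_support_iff.1 hm

theorem ext_injective : Function.Injective (ext V K G) := fun y z hyz =>
  MonoidAlgebra.ext (Finsupp.ext fun m => IsFractionRing.injective V K (by
    simpa [MonoidAlgebra.coeff_mapRingHom] using congrArg (fun w : MonoidAlgebra K G => w.coeff m) hyz))

/-- an element is integral or becomes of unit content after multiplication by a non-unit -/
theorem mem_or_exists_scale (x : MonoidAlgebra K G) :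
    (∃ q, ext V K G q = x) ∨ ∃ (s x₀ : MonoidAlgebra V G),
      red V G s = 0 ∧ red V G x₀ ≠ 0 ∧ ext V K G s * x = ext V K G x₀ := by
  by_cases hx : x = 0
  · exact Or.inl ⟨0, by rw [hx, map_zero]⟩
  obtain ⟨c, x₀, hx₀, rfl⟩ := exists_primitive (V := V) hx
  rcases ValuationRing.isInteger_or_isInteger V c with ⟨a, ha⟩ | ⟨a, ha⟩
  · exact Or.inl ⟨a • x₀, by rw [← ha, Algebra.smul_def, map_mul, algebraMap_smul, Algebra.smul_def]; simp⟩
  have hc : c ≠ 0 := fun h0 => hx (by rw [h0, zero_smul])
  by_cases hu : IsUnit a
  · obtain ⟨b, hb⟩ := hu.exists_left_inv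
    refine Or.inl ⟨b • x₀, ?_⟩
    have h1 : algebraMap V K b = c := by
      have h2 := congrArg (algebraMap V K) hb
      rw [map_mul, ha, map_one, mul_inv_eq_one₀ hc] at h2
      exact h2
    rw [← h1, Algebra.smul_def, map_mul, algebraMap_smul, Algebra.smul_def]; simp
  refine Or.inr ⟨single 1 a, x₀, by simp [(IsLocalRing.residue_eq_zero_iff a).2 hu], hx₀, ?_⟩
  rw [Algebra.smul_def]
  simp only [MonoidAlgebra.coe_algebraMap, Function.comp_apply, mapRingHom_single, Algebra.algebraMap_self,
    RingHom.id_apply]
  rw [← mul_assoc, single_mul_single, ha, inv_mul_cancel₀ hc, _root_.one_mul, ← MonoidAlgebra.one_def,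
    _root_.one_mul]

/-- **saturation at elements of unit content** -/
theorem exists_of_primitive_mul {ρ σ : MonoidAlgebra V G} (hρ : red V G ρ ≠ 0) {x : MonoidAlgebra K G}
    (h : ext V K G ρ * x = ext V K G σ) : ∃ q, ext V K G q = x := by
  rcases mem_or_exists_scale (V := V) x with hq | ⟨s, x₀, hs, hx₀, hsx⟩
  · exact hq
  have h2 : ρ * x₀ = s * σ := ext_injective (K := K) (by rw [map_mul, map_mul, ← hsx, ← h]; ring)
  have h3 := congrArg (red V G) h2
  rw [map_mul, map_mul, hs, zero_mul] at h3
  exact absurd h3 (mul_ne_zero hρ hx₀)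

/-- **integral closedness** -/
theorem exists_of_isIntegral {x : MonoidAlgebra K G}
    (h : (ext V K G).IsIntegralElem x) : ∃ q, ext V K G q = x := by
  rcases mem_or_exists_scale (V := V) x with hq | ⟨s, x₀, hs, hx₀, hsx⟩
  · exact hq
  obtain ⟨p, hp, hpx⟩ := h
  have hroot : Polynomial.eval₂ (ext V K G) (ext V K G s * x) (p.scaleRoots s) = 0 :=
    Polynomial.scaleRoots_eval₂_eq_zero _ hpx
  rw [hsx, Polynomial.eval₂_at_apply] at hroot
  have h0 : (p.scaleRoots s).eval x₀ = 0 := ext_injective (K := K) (by rw [map_zero]; exact hroot)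
  have h1 := congrArg (red V G) h0
  rw [map_zero, Polynomial.eval_eq_sum_range, map_sum, Polynomial.natDegree_scaleRoots] at h1
  rw [Finset.sum_range_succ, Finset.sum_eq_zero (fun i hi => by
    rw [map_mul, Polynomial.coeff_scaleRoots, map_mul, map_pow (red V G) s, hs,
      zero_pow (Nat.sub_ne_zero_of_lt (Finset.mem_range.1 hi)), mul_zero, zero_mul]), zero_add, map_mul,
    Polynomial.coeff_scaleRoots_natDegree, hp.leadingCoeff, map_one, _root_.one_mul, map_pow] at h1
  exact absurd (eq_zero_of_pow_eq_zero h1) hx₀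

end Groth.L25.AffRed
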