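import Groth.Agent.L25.AffRed.Extend
import Groth.Agent.L08.MonoRed.Core
import Groth.Agent.L25.RedField.Subtorus

/-!
# Points sent to integral points by a quasi-finite homomorphism are integral

For a reductive group with a split maximal torus over a valuation ring with algebraically closed fraction field.
-/

set_option autoImplicit false
set_option linter.unusedSectionVars false
set_option linter.style.haveILetI false
set_option backward.isDefEq.respectTransparency.types false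
set_option maxHeartbeats 1000000
set_option linter.deprecated false

universe u

open CategoryTheory CategoryTheory.Limits MonoidalCategory CartesianMonoidalCategory MonObj GrpObj AlgebraicGeometry
open Groth.L25.SplitSub (bcDS bcHom char_bcDS char_DSmap isMonHom_bcHom bcDS_hom_bcHom)
open Groth.L25.NilAction (toBase ofBase toBase_ofBase ofBase_toBase toBase_one)
open Groth.L08.Borel (toBase_comp toBase_map' toBase_injective)
open Groth.L08.MonoRed (baseMap closedMap bcPt toBase_bcPt comp_conj map_conj conj_conj conj_one bcPt_mul bcPt_inv bcHom_comp mono_of_generic exists_conj_lift exists_weyl_lift mem_of_closedPoint)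

noncomputable section

namespace Groth.L25.AffRed

variable {V : Type u} [CommRing V] [IsDomain V] [ValuationRing V] [HenselianLocalRing V]
  [IsAlgClosed (IsLocalRing.ResidueField V)] {K : Type u} [Field K] [IsAlgClosed K] [Algebra V K] [IsFractionRing V K]
  {G H : Over (Spec (CommRingCat.of V))} [GrpObj G] [GrpObj H] [IsAffineHom G.hom] [Smooth G.hom]
  [IsAffineHom H.hom] [LocallyOfFinitePresentation H.hom] {r : ℕ}
  (i : Red.DS (Spec (CommRingCat.of V)) (Fin r → ℤ) ⟶ G) [IsMonHom i] [Mono i]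
  (hgK : Red.IsReductiveOver K (Red.bc (baseMap V K) G))
  (hgk : Red.IsReductiveOver (IsLocalRing.ResidueField V) (Red.bc (closedMap V) G))
  (hTK : AGF.IsMaxTorus (bcHom (baseMap V K) i)) (hTk : AGF.IsMaxTorus (bcHom (closedMap V) i))
  (u : G ⟶ H) [IsMonHom u] [LocallyQuasiFinite ((Over.pullback (closedMap V)).map u).left]

omit [IsDomain V] [ValuationRing V] [HenselianLocalRing V] [IsAlgClosed (IsLocalRing.ResidueField V)] in
/-- schemes finite over a field are zero-dimensional -/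
theorem dim_le_zero_of_isFinite {F : Type u} [Field F] {X : Scheme.{u}} (f : X ⟶ Spec (CommRingCat.of F))
    [IsFinite f] : topologicalKrullDim X ≤ 0 := by
  haveI : IsAffine X := isAffine_of_isAffineHom f
  let φ : CommRingCat.of F ⟶ Γ(X, ⊤) := (Scheme.ΓSpecIso (CommRingCat.of F)).inv ≫ f.appTop
  letI : Algebra F Γ(X, ⊤) := φ.hom.toAlgebra
  haveI : Module.Finite F Γ(X, ⊤) :=
    RingHom.Finite.comp (f.finite_app (U := ⊤) (isAffineOpen_top _))
      (RingHom.Finite.of_surjective _ (ConcreteCategory.bijective_of_isIso (Scheme.ΓSpecIso (CommRingCat.of F)).inv).2)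
  haveI : IsArtinianRing Γ(X, ⊤) := .of_finite F _
  rw [IsHomeomorph.topologicalKrullDim_eq _ (Scheme.homeoOfIso X.isoSpec).isHomeomorph]
  refine le_of_eq_of_le (PrimeSpectrum.topologicalKrullDim_eq_ringKrullDim _) ?_
  exact Ring.krullDimLE_iff.1 (inferInstance : Ring.KrullDimLE 0 Γ(X, ⊤))

/-- the characters killing the kernel on the torus have finite index -/
theorem exists_good_torsion :
    ∃ A : AddSubgroup (Fin r → ℤ), (∀ m, ∃ n : ℕ, 0 < n ∧ n • m ∈ A) ∧
      Groth.L25.SplitSub.Good (i ≫ u) Set.univ A := by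
  haveI : QuasiCompact H.hom := inferInstance
  haveI : IsSeparated H.hom := inferInstance
  haveI : IsMonHom (i ≫ u) := inferInstance
  obtain ⟨U, hU, -, A, -, hgood⟩ := Groth.L25.SplitSub.exists_good_clopen (i ≫ u) (IsLocalRing.closedPoint V)
  refine ⟨A, ?_, fun T _ t => hgood T (fun y => mem_of_closedPoint hU _) t⟩
  obtain ⟨d, π, -, n, hn, hπ, -, -, hker⟩ :=
    Groth.L25.RedField.exists_free_quotient ((Fin r → ℤ) ⧸ A) inferInstance
  rcases Nat.eq_zero_or_pos d with rfl | hd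
  · exact fun m => ⟨n, hn, (QuotientAddGroup.eq_zero_iff _).1 (hker (m : (Fin r → ℤ) ⧸ A) (Subsingleton.elim _ _))⟩
  exfalso
  let S₀ := Spec (CommRingCat.of V)
  let κ := closedMap V
  let π' : (Fin r → ℤ) →+ (Fin d → ℤ) := π.comp (QuotientAddGroup.mk' A)
  have hπ' : Function.Surjective π' := hπ.comp (QuotientAddGroup.mk'_surjective A)
  let c := Red.DSmap S₀ π'
  haveI : Mono c := Groth.L25.SplitSub.mono_DSmap π' hπ'
  have hc : c ≫ i ≫ u = 1 := (hgood _ (fun y => mem_of_closedPoint hU _) c).2 fun a ha => by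
    have h1 : π' a = 0 := by
      show π ((a : (Fin r → ℤ) ⧸ A)) = 0
      rw [(QuotientAddGroup.eq_zero_iff a).2 ha, map_zero]
    rw [← Category.id_comp c, char_DSmap]
    show DSPts.char (𝟙 _) (Multiplicative.ofAdd (π' a)) = 1
    rw [h1, ofAdd_zero, map_one]
  -- in the closed fibre
  let Tk := Red.bc κ (Red.DS S₀ (Fin d → ℤ))
  haveI : IsMonHom c := Groth.L25.TorusTorsion.isMonHom_DSmap _ _
  haveI hci : IsMonHom (c ≫ i) := inferInstance
  let w : Tk ⟶ Red.bc κ G := (Over.pullback κ).map (c ≫ i)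
  haveI : IsMonHom w := @Groth.L25.MonoClosed.isMonHom_pullbackMap _ _ κ _ _ _ _ (c ≫ i) hci
  haveI : Mono (c ≫ i) := mono_comp _ _
  haveI : Mono w := Functor.map_mono _ _
  haveI : Smooth (Red.bc κ G).hom := inferInstanceAs (Smooth (pullback.snd G.hom κ))
  haveI : IsAffineHom (Red.bc κ G).hom := MorphismProperty.pullback_snd (P := @IsAffineHom) G.hom κ inferInstance
  haveI : IsSeparated (Red.bc κ G).hom := inferInstance
  haveI : QuasiCompact (Red.bc κ G).hom := inferInstance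
  have hTr := Groth.L01.Unip.isTorus_DS S₀ d
  haveI : IsClosedImmersion w.left :=
    Groth.L25.MonoClosed.isClosedImmersion_of_mono
      (Groth.L25.Locus.isMultTypeFT_of_isTorus (Groth.L25.Locus.isTorus_bc hTr κ)) w
  haveI : IsMonHom ((Over.pullback κ).map u) := Groth.L25.MonoClosed.isMonHom_pullbackMap _ _
  have h1 : w ≫ (Over.pullback κ).map u = 1 := by
    rw [← Functor.map_comp, Category.assoc, hc]
    exact map_one (Over.pullback κ).homMonoidHom
  have h2 : w.left ≫ ((Over.pullback κ).map u).left = Tk.hom ≫ η[Red.bc κ H].left := by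
    rw [← Over.comp_left, h1]
    show (toUnit Tk).left ≫ _ = _
    congr 1
  haveI : LocallyQuasiFinite (Tk.hom ≫ η[Red.bc κ H].left) := by rw [← h2]; infer_instance
  haveI : LocallyQuasiFinite Tk.hom := LocallyQuasiFinite.of_comp Tk.hom η[Red.bc κ H].left
  haveI : IsAffineHom Tk.hom := by
    rw [← Over.w w]
    infer_instance
  haveI : LocallyOfFiniteType Tk.hom := by rw [← Over.w w]; infer_instance
  haveI : IsFinite Tk.hom := IsFinite.of_locallyQuasiFinite Tk.hom
  have hdim : topologicalKrullDim ↥Tk.left = (d : WithBot ℕ∞) := by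
    have e : topologicalKrullDim ↥Tk.left =
        topologicalKrullDim ↥(Red.DS (Spec (CommRingCat.of (IsLocalRing.ResidueField V))) (Fin d → ℤ)).left :=
      IsHomeomorph.topologicalKrullDim_eq _ (Scheme.homeoOfIso ((Over.forget _).mapIso (bcDS κ))).isHomeomorph
    rw [e, Groth.L08.Borel.dim_DS]
  haveI : IsAffine Tk.left := isAffine_of_isAffineHom Tk.hom
  have h0 : topologicalKrullDim ↥Tk.left ≤ 0 := dim_le_zero_of_isFinite Tk.hom
  rw [hdim] at h0
  exact Nat.ne_of_gt hd (Nat.le_zero.1 (by exact_mod_cast h0))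

include i in
/-- the character of a point of the torus with integral image is integral -/
theorem val_eq_one_qf {b : Spec (CommRingCat.of V) ⟶ Spec (CommRingCat.of V)}
    (χ : Multiplicative (Fin r → ℤ) →* K) {x : Groth.L25.Cocycle.X b V ⟶ H}
    (hx : Groth.L25.Cocycle.mor b (Algebra.ofId V K) ≫ x = Groth.L25.MonoClosed.imgPt b (i ≫ u) χ) :
    ∀ m, ValuationRing.valuation V K (χ m) = 1 := by
  obtain ⟨A, hA, hgood⟩ := exists_good_torsion i u
  haveI : IsMonHom (i ≫ u) := inferInstance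
  obtain ⟨v', hv'm, hv'mono, hv'⟩ := Groth.L25.SplitSub.exists_factor (i ≫ u) hgood
  haveI := hv'm; haveI := hv'mono
  haveI : Module.Finite ℤ A :=
    Module.Finite.iff_addGroup_fg.2 (AddGroup.fg_iff_addSubgroup_fg _ |>.2 (AddSubgroup.toIntSubmodule A |>.fg_iff_addSubgroup_fg.1 (IsNoetherian.noetherian _)))
  let χA : Multiplicative A →* K := χ.comp (AddMonoidHom.toMultiplicative A.subtype)
  have hall := Groth.L25.MonoClosed.val_eq_one (u := v') χA (x := x) (by
    rw [hx, ← hv']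
    show (Groth.L25.SplitSub.stdChart b _).pt χ ≫ Groth.L25.SplitSub.incl _ A ≫ v' = _
    rw [← Category.assoc, Groth.L25.SplitSub.stdChart_pt_DSmap]
    rfl)
  intro m
  obtain ⟨n, hn, hnm⟩ := hA m.toAdd
  have h := hall (Multiplicative.ofAdd ⟨n • m.toAdd, hnm⟩)
  change ValuationRing.valuation V K (χ (m ^ n)) = 1 at h
  rw [map_pow, map_pow] at h
  exact (pow_eq_one_iff_of_nonneg zero_le' hn.ne').1 h

/-- integral points of the torus -/
theorem exists_integral_torus_point
    (t : 𝟙_ (Over (Spec (CommRingCat.of K))) ⟶ Red.DS (Spec (CommRingCat.of K)) (Fin r → ℤ))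
    (h₂ : 𝟙_ (Over (Spec (CommRingCat.of V))) ⟶ H) (ht : t ≫ bcHom (baseMap V K) (i ≫ u) = bcPt (baseMap V K) h₂) :
    ∃ τ : 𝟙_ (Over (Spec (CommRingCat.of V))) ⟶ Red.DS (Spec (CommRingCat.of V)) (Fin r → ℤ),
      bcPt (baseMap V K) τ = t ≫ (bcDS (baseMap V K)).inv := by
  let ξ := baseMap V K
  let b : Spec (CommRingCat.of V) ⟶ Spec (CommRingCat.of V) := 𝟙 _
  let e : Groth.L25.Cocycle.X b K ⟶ Over.mk ((𝟙_ (Over (Spec (CommRingCat.of K)))).hom ≫ ξ) :=
    Over.homMk (𝟙 (Spec (CommRingCat.of K))) (by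
      show 𝟙 _ ≫ 𝟙 (Spec (CommRingCat.of K)) ≫ ξ = ξ ≫ 𝟙 _
      rw [Category.id_comp, Category.id_comp, Category.comp_id])
  haveI : IsIso e := by
    haveI : IsIso ((Over.forget _).map e) := inferInstanceAs (IsIso (𝟙 (Spec (CommRingCat.of K))))
    exact isIso_of_reflects_iso e (Over.forget _)
  let tS := toBase ξ (t ≫ (bcDS ξ).inv)
  obtain ⟨χ, hχ⟩ := ((Groth.L25.SplitSub.stdChart b (Fin r → ℤ)).bij K).2 (e ≫ tS)
  let c : 𝟙_ (Over (Spec (CommRingCat.of V))) ⟶ Groth.L25.Cocycle.X b V :=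
    Over.homMk (𝟙 (Spec (CommRingCat.of V))) (by
      show 𝟙 _ ≫ Spec.map (CommRingCat.ofHom (algebraMap V V)) ≫ 𝟙 _ = 𝟙 _
      rw [Algebra.algebraMap_self, CommRingCat.ofHom_id, Spec.map_id, Category.id_comp, Category.id_comp])
  have hu : ∀ {Y : Over (Spec (CommRingCat.of V))} (a : Groth.L25.Cocycle.X b K ⟶ Y)
      (a' : 𝟙_ (Over (Spec (CommRingCat.of V))) ⟶ Y), a = toUnit _ ≫ a' → a = e ≫ toUnit _ ≫ a' := fun a a' h => by
    rw [h, ← Category.assoc, toUnit_unique (e ≫ toUnit _) (toUnit _)]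
  have hx : Groth.L25.Cocycle.mor b (Algebra.ofId V K) ≫ toUnit _ ≫ h₂ = Groth.L25.MonoClosed.imgPt b (i ≫ u) χ := by
    rw [Groth.L25.MonoClosed.imgPt, hχ, Category.assoc,
      show tS ≫ i ≫ u = toBase ξ (t ≫ bcHom ξ (i ≫ u)) by rw [← toBase_map', bcHom, Category.assoc], ht, toBase_bcPt]
    exact hu _ h₂ (by rw [← Category.assoc, toUnit_unique (_ ≫ toUnit _) (toUnit _)])
  have hv := val_eq_one_qf i u χ hx
  choose a ha using fun m => (Groth.L25.MonoClosed.integers (R := V) (K := K)).exists_of_le_one (le_of_eq (hv m))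
  let χV : Multiplicative (Fin r → ℤ) →* V :=
    { toFun := a
      map_one' := IsFractionRing.injective V K (by rw [ha, map_one, map_one])
      map_mul' := fun x y => IsFractionRing.injective V K (by rw [map_mul, ha, ha, ha, map_mul]) }
  refine ⟨c ≫ (Groth.L25.SplitSub.stdChart b (Fin r → ℤ)).pt χV, ?_⟩
  refine toBase_injective ξ _ _ ?_
  rw [toBase_bcPt, ← cancel_epi e]
  refine Eq.trans (hu _ _ rfl).symm ?_
  show _ = e ≫ tS
  rw [← hχ, ← Category.assoc]
  have hc : toUnit _ ≫ c = Groth.L25.Cocycle.mor b (Algebra.ofId V K) := Over.OverMorphism.ext (by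
    show (toUnit (Groth.L25.Cocycle.X b K)).left ≫ 𝟙 _ = _
    rw [Category.comp_id, show (toUnit (Groth.L25.Cocycle.X b K)).left = ξ ≫ 𝟙 _ from
      (Category.comp_id _).symm.trans (Over.w (toUnit (Groth.L25.Cocycle.X b K))), Category.comp_id]
    rfl)
  rw [hc, (Groth.L25.SplitSub.stdChart b (Fin r → ℤ)).nat]
  exact congrArg _ (MonoidHom.ext ha)

include hgK hgk hTK hTk in
/-- **a generic point whose image under a quasi-finite homomorphism is integral is integral** -/
theorem exists_integral_point (g : 𝟙_ (Over (Spec (CommRingCat.of K))) ⟶ Red.bc (baseMap V K) G)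
    (h : 𝟙_ (Over (Spec (CommRingCat.of V))) ⟶ H)
    (hgh : g ≫ (Over.pullback (baseMap V K)).map u = bcPt (baseMap V K) h) :
    ∃ γ, bcPt (baseMap V K) γ = g := by
  let ξ := baseMap V K
  haveI := hgK.1; haveI := hgK.2.1
  haveI := hTK.1; haveI := hTK.2.1
  haveI hu : IsMonHom ((Over.pullback ξ).map u) := Groth.L25.MonoClosed.isMonHom_pullbackMap _ _
  have hconj : ∀ {S : Scheme.{u}} {X X' Y : Over S} [GrpObj X] [GrpObj X'] (a : 𝟙_ (Over S) ⟶ X) (m : Y ⟶ X)
      (p : X ⟶ X') [IsMonHom p], AGF.conjBy a m ≫ p = AGF.conjBy (a ≫ p) (m ≫ p) := fun a m p _ => by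
    simp only [AGF.conjBy, MonObj.mul_comp, GrpObj.inv_comp, Category.assoc]
  -- the torus over the base
  let φ := AGF.conjBy g (bcHom ξ i)
  haveI : IsMonHom φ := Groth.L08.Borel.isMonHom_conjBy g (bcHom ξ i)
  let β := AGF.conjBy h (i ≫ u)
  haveI : IsMonHom β := Groth.L19.AlgGrpBasic.isMonHom_of_points' β fun T a b => by
    show (a * b) ≫ AGF.conjBy h (i ≫ u) = (a ≫ AGF.conjBy h (i ≫ u)) * (b ≫ AGF.conjBy h (i ≫ u))
    simp only [comp_conj, MonObj.mul_comp, AGF.conjBy]
    group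
  have hφβ : φ ≫ (Over.pullback ξ).map u = bcHom ξ β := by
    rw [hconj, hgh]
    simp only [β, bcHom, Category.assoc, map_conj, comp_conj, Functor.map_comp]
    rfl
  obtain ⟨χ, hχm, hχ⟩ := Groth.L25.AffRed.exists_extend K u φ β hφβ
  haveI := hχm
  haveI : Mono φ := Groth.L08.Borel.mono_conjBy g (bcHom ξ i)
  haveI : Mono χ := mono_of_generic χ (K := K) (hχ ▸ inferInstance)
  obtain ⟨γ, ψ, hψ⟩ := exists_conj_lift i hgk hTk χ
  -- the correcting point normalizes the torus
  let ψK := (bcDS ξ).inv ≫ (Over.pullback ξ).map ψ ≫ (bcDS ξ).hom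
  have h1 : AGF.conjBy (g⁻¹ * bcPt ξ γ) (bcHom ξ i) = ψK ≫ bcHom ξ i := by
    have h2 : AGF.conjBy (bcPt ξ γ) (bcHom ξ i) = ψK ≫ φ := by
      rw [← hχ, bcHom, bcHom, ← comp_conj, ← map_conj, hψ, Functor.map_comp]
      simp only [ψK, ξ, Category.assoc, Iso.hom_inv_id_assoc]
    rw [← conj_conj, h2, ← comp_conj, conj_conj, inv_mul_cancel, conj_one]
  haveI : IsMonHom (ψK ≫ bcHom ξ i) := h1 ▸ (Groth.L08.Borel.isMonHom_conjBy (g⁻¹ * bcPt ξ γ) (bcHom ξ i) :)
  haveI : IsMonHom ψK := Groth.L08.TorusWeights.isMonHom_of_mono ψK (bcHom ξ i) (ψK ≫ bcHom ξ i) rfl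
  obtain ⟨θ, hθ⟩ := Groth.Agent.S14754.exists_DSmap ψK
  obtain ⟨n, t, hnt⟩ := exists_weyl_lift i ξ hgK hgk hTK hTk (nK := g⁻¹ * bcPt ξ γ) (θ := θ)
    (h1.trans (by rw [hθ]))
  have hg : g = bcPt ξ γ * (t⁻¹ ≫ bcHom ξ i) * bcPt ξ n⁻¹ := by
    rw [inv_mul_eq_iff_eq_mul] at hnt
    rw [hnt, GrpObj.inv_comp, bcPt_inv]
    group
  -- the torus part
  let h₂ := (γ ≫ u)⁻¹ * h * (n⁻¹ ≫ u)⁻¹
  have hbu : ∀ a : 𝟙_ (Over (Spec (CommRingCat.of V))) ⟶ G,
      bcPt ξ a ≫ (Over.pullback ξ).map u = bcPt ξ (a ≫ u) := fun a => toBase_injective ξ _ _ (by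
    rw [toBase_map', toBase_bcPt, toBase_bcPt, Category.assoc])
  have ht : t⁻¹ ≫ bcHom ξ (i ≫ u) = bcPt ξ h₂ := by
    have h3 := hgh
    rw [hg, MonObj.mul_comp, MonObj.mul_comp, hbu, hbu, Category.assoc] at h3
    rw [bcPt_mul, bcPt_mul, bcPt_inv, bcPt_inv, ← h3]
    simp only [bcHom, Functor.map_comp, Category.assoc]
    group
    rfl
  obtain ⟨τ, hτ⟩ := exists_integral_torus_point i u t⁻¹ h₂ ht
  refine ⟨γ * (τ ≫ i) * n⁻¹, ?_⟩
  have hτi : bcPt ξ (τ ≫ i) = bcPt ξ τ ≫ (Over.pullback ξ).map i :=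
    (toBase_injective ξ _ _ (by rw [toBase_map', toBase_bcPt, toBase_bcPt, Category.assoc])).symm
  rw [bcPt_mul, bcPt_mul, hτi, hτ, Category.assoc, hg]
  rfl

end Groth.L25.AffRed
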