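import Groth.Agent.L25.AffRed.Valuative
import Groth.Agent.L19.SpecSub.PseudoRedSubscheme
import Groth.Agent.L25.Observable.UnipFixed
import Groth.Agent.L24.ReductiveBC.Basic
import Groth.Agent.L22.IntegralImage

/-!
# Reductivity descends between algebraically closed fields
-/

set_option autoImplicit false
set_option linter.unusedSectionVars false
set_option linter.style.haveILetI false
set_option backward.isDefEq.respectTransparency.types false

universe u

open CategoryTheory CategoryTheory.Limits MonoidalCategory CartesianMonoidalCategory MonObj GrpObj AlgebraicGeometry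
open IsLocalRing (closedPoint)

noncomputable section

namespace Groth.L25.AffRed

/-- reductivity is invariant under extensions of algebraically closed fields -/
theorem isReductiveOver_bc_field_iff {k K : Type u} [Field k] [IsAlgClosed k] [Field K] [IsAlgClosed K]
    (θ : Spec (CommRingCat.of K) ⟶ Spec (CommRingCat.of k)) {G : Over (Spec (CommRingCat.of k))} [GrpObj G]
    [Smooth G.hom] [QuasiCompact G.hom] [QuasiSeparated G.hom] :
    Red.IsReductiveOver K (Red.bc θ G) ↔ Red.IsReductiveOver k G := by
  refine ⟨fun h => ?_, fun h => Groth.L24.ReductiveBC.isReductiveOver_bc θ h⟩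
  haveI := h.1; haveI := h.2.2.1
  obtain ⟨hs, -, -⟩ := Groth.L08.Borel.bc_props_field θ
  haveI : Surjective (pullback.fst G.hom θ) := MorphismProperty.pullback_fst _ _ hs
  haveI : IsAffine G.left := by
    haveI : CompactSpace G.left := QuasiCompact.compactSpace_of_compactSpace G.hom
    haveI : QuasiSeparatedSpace G.left := quasiSeparatedSpace_of_quasiSeparated G.hom
    refine Groth.L22.IntImage.isAffine_of_pointwise G.hom fun z => ⟨_, θ, inferInstance, ?_, ?_, h.1⟩
    · obtain ⟨φ, rfl⟩ := Spec.map_surjective θ
      letI := φ.hom.toAlgebra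
      exact (HasRingHomProperty.Spec_iff (P := @Flat)).2 (RingHom.flat_algebraMap_iff.2
        (inferInstance : Module.Flat k K))
    · exact ⟨closedPoint K, Subsingleton.elim (α := PrimeSpectrum k) _ _⟩
  haveI : ConnectedSpace ↥(pullback G.hom θ) := h.2.2.1
  haveI : ConnectedSpace G.left :=
    (pullback.fst G.hom θ).surjective.connectedSpace (pullback.fst G.hom θ).continuous
  refine ⟨inferInstance, inferInstance, inferInstance, fun U _ i _ hic hUs hUc hn hns => ?_⟩
  haveI := hic; haveI := hUs; haveI := hUc
  haveI : IsAffine U.left := isAffine_of_isAffineHom i.left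
  refine Groth.L19.SpecSub.pseudoReductive_of_bc θ (fun U' _ i' _ hc' hs' hcon' hn' hgeo => ?_) i hn fun s => ?_
  · refine h.2.2.2 U' i' hc' hs' hcon' hn' ?_
    obtain ⟨s⟩ : Nonempty ↥(Spec (CommRingCat.of K)) := inferInstance
    haveI := Groth.L25.Observable.isIso_geomPt (k := K) s
    haveI := hcon'
    haveI : IsIso (pullback.fst U'.hom (Red.geomPt s)) := inferInstance
    exact (Groth.L25.Observable.connected_noSubtorus_of_bc (Red.geomPt s) U'
      ((asIso (pullback.fst U'.hom (Red.geomPt s))).inv.surjective.connectedSpace
        (asIso (pullback.fst U'.hom (Red.geomPt s))).inv.continuous) (hgeo s)).2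
  · refine Groth.L19.SpecSub.geomNoSubtorus_of_bc (𝟙 _) U (fun T _ j _ _ hT => ?_) s
    obtain ⟨e, he⟩ := exists_iso_bc_id U
    haveI := he
    haveI : Mono (j ≫ e.hom) := mono_comp _ _
    exact hns T (j ≫ e.hom) hT

end Groth.L25.AffRed
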