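import Groth.Agent.L25.AffRed.ClopenQuot
import Groth.Agent.L25.HomScheme.Family
import Groth.Agent.L08.GQuot.Struct
import Groth.Prelude.Def_RedSub

/-!
# Étale quotients of smooth groups by normal clopen subgroups
-/

set_option autoImplicit false
set_option backward.isDefEq.respectTransparency.types false
set_option linter.style.haveILetI false

universe u

open CategoryTheory CategoryTheory.Limits MonoidalCategory CartesianMonoidalCategory AlgebraicGeometry
open scoped MonObj

noncomputable section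

namespace Groth.L25.AffRed

variable {S : Scheme.{u}} {G G0 : Over S} [GrpObj G] [GrpObj G0] (j : G0 ⟶ G) [IsMonHom j]

/-- the translation map on points -/
theorem comp_transl {X : Over S} (p : X ⟶ G ⊗ G0) :
    p ≫ (G ◁ j) ≫ μ[G] = (p ≫ fst G G0) * ((p ≫ snd G G0) ≫ j) := by
  rw [Hom.mul_def, ← Category.assoc p]
  congr 1
  ext <;> simp

/-- the pair of the translation relation on points -/
theorem isEqvRel_transl [Mono j] : AlgSp.IsEqvRel (fst G G0) ((G ◁ j) ≫ μ[G]) where
  injective T r r' h₁ h₂ := by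
    rw [comp_transl, comp_transl, h₂, mul_right_inj, cancel_mono] at h₁
    exact CartesianMonoidalCategory.hom_ext _ _ h₂ h₁
  equivalence T := by
    have key : ∀ a b : T ⟶ G, (∃ r : T ⟶ G ⊗ G0, r ≫ (G ◁ j) ≫ μ[G] = a ∧ r ≫ fst G G0 = b) ↔
        ∃ z : T ⟶ G0, a = b * (z ≫ j) := fun a b => by
      constructor
      · rintro ⟨r, rfl, rfl⟩
        exact ⟨r ≫ snd G G0, comp_transl j r⟩
      · rintro ⟨z, rfl⟩
        exact ⟨lift b z, by rw [comp_transl, lift_fst, lift_snd], lift_fst _ _⟩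
    refine ⟨fun a => (key a a).2 ⟨1, by rw [MonObj.one_comp, mul_one]⟩, fun {a b} h => ?_, fun {a b c} h h' => ?_⟩
    · obtain ⟨z, hz⟩ := (key a b).1 h
      exact (key b a).2 ⟨z⁻¹, by rw [hz, GrpObj.inv_comp]; group⟩
    · obtain ⟨z, hz⟩ := (key a b).1 h
      obtain ⟨z', hz'⟩ := (key b c).1 h'
      exact (key a c).2 ⟨z' * z, by rw [hz, hz', MonObj.mul_comp, mul_assoc]⟩

/-- the shear with the translation -/
def translInv : G ⊗ G0 ⟶ G ⊗ G0 := lift ((G ◁ j) ≫ μ[G]) (snd G G0)⁻¹

theorem translInv_fst : translInv j ≫ fst G G0 = (G ◁ j) ≫ μ[G] := lift_fst _ _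

theorem translInv_involutive : translInv j ≫ translInv j = 𝟙 (G ⊗ G0) := by
  refine CartesianMonoidalCategory.hom_ext _ _ ?_ ?_
  · rw [Category.assoc, translInv_fst, Category.id_comp, comp_transl, translInv_fst, translInv, lift_snd,
      GrpObj.inv_comp]
    have h := comp_transl j (𝟙 (G ⊗ G0))
    rw [Category.id_comp, Category.id_comp, Category.id_comp] at h
    rw [h, mul_inv_cancel_right]
  · rw [translInv, Category.assoc, lift_snd, GrpObj.comp_inv, lift_snd, inv_inv, Category.id_comp]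

/-- properties of the relation of a clopen subgroup -/
theorem props_transl [Smooth G.hom] [IsOpenImmersion j.left] [IsClosedImmersion j.left] :
    (Smooth (fst G G0).left ∧ Surjective (fst G G0).left ∧ Smooth ((G ◁ j) ≫ μ[G]).left) ∧
      IsOpenImmersion (Limits.prod.lift ((G ◁ j) ≫ μ[G]) (fst G G0)).left ∧
      IsClosedImmersion (Limits.prod.lift ((G ◁ j) ≫ μ[G]) (fst G G0)).left := by
  haveI : Smooth G0.hom := by rw [← Over.w j]; infer_instance
  haveI : Surjective G0.hom := ⟨fun x => ⟨η[G0].left x, congr(($(Over.w η[G0])) x)⟩⟩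
  haveI hf : Smooth (fst G G0).left := inferInstanceAs (Smooth (pullback.fst G.hom G0.hom))
  haveI hf' : Surjective (fst G G0).left := inferInstanceAs (Surjective (pullback.fst G.hom G0.hom))
  haveI : IsIso (translInv j) := ⟨translInv j, translInv_involutive j, translInv_involutive j⟩
  haveI : IsIso (translInv j).left := (Over.forget S).map_isIso (translInv j)
  refine ⟨⟨hf, hf', by rw [← translInv_fst, Over.comp_left]; infer_instance⟩, ?_⟩
  let φ : G ⊗ G ⟶ G ⨯ G := Limits.prod.lift μ[G] (fst G G)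
  let ψ : G ⨯ G ⟶ G ⊗ G := lift Limits.prod.snd ((Limits.prod.snd : G ⨯ G ⟶ G)⁻¹ * Limits.prod.fst)
  have hμ : μ[G] = fst G G * snd G G := MonObj.mul_eq_mul G
  have h₁ : φ ≫ ψ = 𝟙 _ := by
    refine CartesianMonoidalCategory.hom_ext _ _ ?_ ?_
    · simp only [φ, ψ, Category.assoc, lift_fst, Category.id_comp, Limits.prod.comp_lift]
      exact Limits.prod.lift_snd _ _
    · simp only [φ, ψ, Category.assoc, lift_snd, MonObj.comp_mul, GrpObj.comp_inv, Limits.prod.lift_snd,
        Limits.prod.lift_fst, hμ, Category.id_comp]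
      rw [inv_mul_cancel_left]
  have h₂ : ψ ≫ φ = 𝟙 _ := by
    refine Limits.prod.hom_ext ?_ ?_
    · simp only [φ, ψ, Category.assoc, Limits.prod.lift_fst, hμ, MonObj.comp_mul, lift_fst, lift_snd,
        Category.id_comp]
      rw [mul_inv_cancel_left]
    · simp only [φ, ψ, Category.assoc, lift_fst, Category.id_comp, Limits.prod.comp_lift]
      exact Limits.prod.lift_snd _ _
  haveI : IsIso φ := ⟨ψ, h₁, h₂⟩
  haveI : IsIso φ.left := (Over.forget S).map_isIso φ
  have e : Limits.prod.lift ((G ◁ j) ≫ μ[G]) (fst G G0) = (G ◁ j) ≫ φ := by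
    refine Limits.prod.hom_ext ?_ ?_ <;> simp [φ]
  haveI : IsOpenImmersion (G ◁ j).left :=
    MorphismProperty.of_isPullback (HomScheme.isPullback_whiskerLeft G j).flip ‹_›
  haveI : IsClosedImmersion (G ◁ j).left :=
    MorphismProperty.of_isPullback (HomScheme.isPullback_whiskerLeft G j).flip ‹_›
  rw [e, Over.comp_left]
  exact ⟨inferInstance, inferInstance⟩

/-- **a normal clopen subgroup of a smooth group has an étale quotient group** -/
theorem exists_etale_quot [Smooth G.hom] [QuasiCompact G.hom] [IsOpenImmersion j.left] [IsClosedImmersion j.left]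
    (hnorm : AlgGrp.IsNormalHom j) :
    ∃ (E : Over S) (_ : GrpObj E) (q : G ⟶ E) (_ : IsMonHom q), RedSub.IsQuotient j q ∧
      IsSeparated E.hom ∧ Etale E.hom ∧ QuasiCompact E.hom := by
  haveI : Mono j := Over.mono_of_mono_left j
  obtain ⟨⟨hs, hss, ht⟩, ho, hc⟩ := props_transl j
  haveI := hs; haveI := hss; haveI := ht
  obtain ⟨E, q, sq₀, hqs, hqf, hqp, hsep, het⟩ := exists_clopen_quot (fst G G0) ((G ◁ j) ≫ μ[G])
    (isEqvRel_transl j) ho hc
  haveI := hqs; haveI := hqf; haveI := hqp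
  have sq : IsPullback (fst G G0) ((G ◁ j) ≫ μ[G]) q q := sq₀.flip
  have hrel : ∀ {X : Over S} (a b : X ⟶ G), a ≫ q = b ≫ q ↔ ∃ z : X ⟶ G0, a = (z ≫ j) * b := fun {X} a b => by
    constructor
    · intro e
      obtain ⟨w, hw₁, hw₂⟩ := sq.exists_lift a b e
      obtain ⟨z', hz'⟩ := hnorm X a (w ≫ snd G G0)
      refine ⟨z'⁻¹, ?_⟩
      rw [GrpObj.inv_comp, ← hz', ← hw₂, comp_transl, hw₁]
      group
    · rintro ⟨z, rfl⟩
      obtain ⟨z', hz'⟩ := hnorm X b⁻¹ z
      have h := congrArg (lift b z' ≫ ·) sq.w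
      simp only [lift_fst_assoc] at h
      rw [← Category.assoc, comp_transl, lift_fst, lift_snd, ← hz'] at h
      rw [h]
      congr 1
      group
  have sq' : IsPullback ((j ▷ G) ≫ μ[G]) (snd G0 G) q q := by
    have hmul' : ∀ {X : Over S} (p : X ⟶ G0 ⊗ G),
        p ≫ (j ▷ G) ≫ μ[G] = ((p ≫ fst G0 G) ≫ j) * (p ≫ snd G0 G) := fun p => by
      rw [Hom.mul_def, ← Category.assoc p]
      congr 1
      ext <;> simp
    refine ⟨⟨(hrel _ _).2 ⟨fst G0 G, ?_⟩⟩, ⟨PullbackCone.IsLimit.mk _
      (fun s => lift ((hrel _ _).1 s.condition).choose s.snd) (fun s => ?_) (fun s => lift_snd _ _)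
      (fun s m hm₁ hm₂ => ?_)⟩⟩
    · have h := hmul' (𝟙 (G0 ⊗ G))
      simp only [Category.id_comp] at h
      exact h
    · rw [hmul', lift_fst, lift_snd]
      exact ((hrel _ _).1 s.condition).choose_spec.symm
    · refine CartesianMonoidalCategory.hom_ext _ _ ?_ (hm₂.trans (lift_snd _ _).symm)
      rw [lift_fst, ← cancel_mono j]
      have h := hm₁.trans ((hrel _ _).1 s.condition).choose_spec
      rw [hmul', hm₂] at h
      exact mul_right_cancel h
  obtain ⟨inst, hq, -⟩ := Groth.L08.GQuot.exists_grp hnorm q sq'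
  letI := inst
  refine ⟨E, inst, q, hq, ⟨hqs, hqf, hqp, sq⟩, hsep, het, ?_⟩
  haveI : QuasiCompact (q.left ≫ E.hom) := by rw [Over.w q]; infer_instance
  refine (quasiCompact_iff E.hom).2 fun V hV hV' => ?_
  have := (QuasiCompact.isCompact_preimage (f := q.left ≫ E.hom) V hV hV').image q.left.continuous
  rwa [show (q.left ≫ E.hom).base ⁻¹' V = q.left.base ⁻¹' (E.hom.base ⁻¹' V) from rfl,
    Set.image_preimage_eq _ q.left.surjective] at this

end Groth.L25.AffRed
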