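import Groth.Agent.L08.MonoRed.Nbhd
import Groth.Agent.L08.MonoRed.Transfer
import Groth.Agent.L25.AffRed.Content
import Mathlib.AlgebraicGeometry.ZariskisMainTheorem
import Mathlib.RingTheory.ZariskisMainTheorem
import Mathlib.Algebra.Group.UniqueProds.Basic

/-!
# Extending a torus along a quasi-finite morphism

A torus of the generic fibre of an affine group over a valuation ring whose image in an affine group extends, extends,
provided the homomorphism is quasi-finite at the unit of the closed fibre: by Zariski's main theorem all coefficients of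
the comorphism are integral.
-/

set_option autoImplicit false
set_option linter.unusedSectionVars false
set_option linter.style.haveILetI false
set_option backward.isDefEq.respectTransparency.types false
set_option maxHeartbeats 1000000
set_option linter.deprecated false

universe u

open CategoryTheory CategoryTheory.Limits MonoidalCategory CartesianMonoidalCategory MonObj GrpObj AlgebraicGeometry
open Groth.L25.SplitSub (bcDS bcHom char_bcDS char_DSmap)
open Groth.L25.NilAction (toBase ofBase toBase_ofBase ofBase_toBase toBase_one)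
open Groth.L08.Borel (toBase_comp toBase_map' toBase_injective)
open Groth.L25 (DSPts.char DSPts.pt)
open Groth.L08.MonoRed (baseMap closedMap GA XM pM genPt scal augm augPt augPt_pM augm_single augm_scal genPt_comp bcHom_comp ext_generic scal_injective scal_comp)

noncomputable section

namespace Groth.L25.AffRed

section Coeff

variable {V : Type u} [CommRing V] [IsDomain V] [ValuationRing V] {M : Type} [AddCommGroup M]

theorem red_ne_zero_of_augm {ρ : GA V M} (h : IsUnit (augm V M ρ)) : red V (Multiplicative M) ρ ≠ 0 := by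
  intro h0
  have h1 : augm (IsLocalRing.ResidueField V) M (red V (Multiplicative M) ρ) =
      IsLocalRing.residue V (augm V M ρ) := by
    have e : (augm (IsLocalRing.ResidueField V) M).toRingHom.comp (red V (Multiplicative M)) =
        (IsLocalRing.residue V).comp (augm V M).toRingHom :=
      MonoidAlgebra.ringHom_ext (fun c => by simp) fun m => by simp
    exact RingHom.congr_fun e ρ
  rw [h0, map_zero] at h1
  exact (IsLocalRing.notMem_maximalIdeal.2 h) ((IsLocalRing.residue_eq_zero_iff _).1 h1.symm)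

theorem scal_eq_ext (K : Type u) [CommRing K] [Algebra V K] :
    scal V M K = ext V K (Multiplicative M) :=
  MonoidAlgebra.ringHom_ext (fun c => by simp [scal]) fun m => by simp [scal]

end Coeff

/-- a morphism quasi-finite on the closed fibre is quasi-finite at its points over the closed point -/
theorem quasiFiniteAt_of_closedFibre {V : Type u} [CommRing V] [IsLocalRing V]
    {G H : Over (Spec (CommRingCat.of V))} (u : G ⟶ H) [LocallyOfFiniteType u.left]
    [hq : LocallyQuasiFinite ((Over.pullback (closedMap V)).map u).left] {x : G.left}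
    (hx : G.hom x = IsLocalRing.closedPoint V) : u.left.QuasiFiniteAt x := by
  let κ := closedMap V
  let j : (Red.bc κ G).left ⟶ G.left := pullback.fst G.hom κ
  let j' : (Red.bc κ H).left ⟶ H.left := pullback.fst H.hom κ
  haveI : IsClosedImmersion κ := IsClosedImmersion.spec_of_surjective _ IsLocalRing.residue_surjective
  haveI : IsClosedImmersion j := inferInstanceAs (IsClosedImmersion (pullback.fst G.hom κ))
  haveI : IsClosedImmersion j' := inferInstanceAs (IsClosedImmersion (pullback.fst H.hom κ))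
  let uk := ((Over.pullback κ).map u).left
  have hj : ∀ z, u.left (j z) = j' (uk z) := fun z => by
    have e : j ≫ u.left = uk ≫ j' := (pullback.lift_fst _ _ _).symm
    rw [← Scheme.Hom.comp_apply, ← Scheme.Hom.comp_apply, e]
  have hpre : ∀ y : G.left, G.hom y = IsLocalRing.closedPoint V → ∃ z, j z = y := fun y hy => by
    obtain ⟨z, hz, -⟩ := Scheme.Pullback.exists_preimage_pullback (f := G.hom) (g := κ) y
      (IsLocalRing.closedPoint (IsLocalRing.ResidueField V)) (by
        rw [hy]
        exact (IsLocalRing.comap_closedPoint (IsLocalRing.residue V)).symm)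
    exact ⟨z, hz⟩
  obtain ⟨x', hx'⟩ := hpre x hx
  have hd : _root_.IsDiscrete (uk ⁻¹' {uk x'}) := uk.isDiscrete_preimage_singleton _
  obtain ⟨O, hO, hOx⟩ := (isDiscrete_iff_forall_exists_isOpen.1 hd) x' (Set.mem_singleton (uk x'))
  obtain ⟨O', hO', rfl⟩ := j.isClosedEmbedding.isInducing.isOpen_iff.1 hO
  rw [Scheme.Hom.quasiFiniteAt_iff_isOpen_singleton_asFiber, ← (u.left.fiberHomeo (u.left x)).isOpen_image,
    Set.image_singleton, Scheme.Hom.asFiber, Homeomorph.apply_symm_apply]
  refine ⟨O', hO', ?_⟩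
  ext ⟨y, hy⟩
  simp only [Set.mem_preimage, Set.mem_singleton_iff, Subtype.mk.injEq]
  constructor
  · intro hyO
    have hy' : G.hom y = IsLocalRing.closedPoint V := by
      rw [← hx]
      show G.hom y = G.hom x
      rw [← Over.w u, Scheme.Hom.comp_apply, Scheme.Hom.comp_apply, show u.left y = u.left x from hy]
    obtain ⟨z, rfl⟩ := hpre y hy'
    have hz : z ∈ uk ⁻¹' {uk x'} := j'.isClosedEmbedding.injective (by
      rw [← hj, ← hj, hx']
      exact hy)
    have : z ∈ ({x'} : Set _) := hOx ▸ ⟨hyO, hz⟩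
    rw [Set.mem_singleton_iff.1 this, hx']
  · rintro rfl
    rw [← hx']
    have : x' ∈ (j ⁻¹' O') ∩ uk ⁻¹' {uk x'} := hOx.symm ▸ rfl
    exact this.1

variable {V : Type u} [CommRing V] [IsDomain V] [ValuationRing V] (K : Type u) [Field K] [Algebra V K]
  [IsFractionRing V K] {G H : Over (Spec (CommRingCat.of V))} [GrpObj G] [GrpObj H] [IsAffineHom G.hom]
  [LocallyOfFiniteType G.hom] [IsAffineHom H.hom] [LocallyOfFiniteType H.hom] {r : ℕ}

/-- **a torus whose image under a quasi-finite homomorphism extends, extends** -/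
theorem exists_extend (u : G ⟶ H) [IsMonHom u]
    [LocallyQuasiFinite ((Over.pullback (closedMap V)).map u).left]
    (φ : Red.DS (Spec (CommRingCat.of K)) (Fin r → ℤ) ⟶ Red.bc (baseMap V K) G) [IsMonHom φ]
    (β : Red.DS (Spec (CommRingCat.of V)) (Fin r → ℤ) ⟶ H) [IsMonHom β]
    (h : φ ≫ (Over.pullback (baseMap V K)).map u = bcHom (baseMap V K) β) :
    ∃ χ : Red.DS (Spec (CommRingCat.of V)) (Fin r → ℤ) ⟶ G, IsMonHom χ ∧ bcHom (baseMap V K) χ = φ := by
  classical
  let M := Fin r → ℤ
  haveI : IsAffine G.left := isAffine_of_isAffineHom G.hom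
  let A : Type u := Γ(G.left, ⊤)
  let αA : CommRingCat.of V ⟶ Γ(G.left, ⊤) := Spec.preimage (G.left.isoSpec.inv ≫ G.hom)
  have hαA : Spec.map αA = G.left.isoSpec.inv ≫ G.hom := Spec.map_preimage _
  letI : Algebra V A := αA.hom.toAlgebra
  haveI : Algebra.FiniteType V A := by
    have h1 : LocallyOfFiniteType (Spec.map αA) := by rw [hαA]; infer_instance
    exact (HasRingHomProperty.Spec_iff (P := @LocallyOfFiniteType)).1 h1
  -- the unit
  let eG : Spec (CommRingCat.of V) ⟶ G.left := (1 : 𝟙_ (Over (Spec (CommRingCat.of V))) ⟶ G).left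
  let eH : Spec (CommRingCat.of V) ⟶ H.left := (1 : 𝟙_ (Over (Spec (CommRingCat.of V))) ⟶ H).left
  have heG : eG ≫ G.hom = 𝟙 _ := Over.w (1 : 𝟙_ (Over (Spec (CommRingCat.of V))) ⟶ G)
  obtain ⟨e₀, he₀⟩ := Spec.map_surjective (eG ≫ G.left.isoSpec.hom)
  let εA : A →ₐ[V] V :=
    { toRingHom := e₀.hom
      commutes' := fun c => by
        have h1 : αA ≫ e₀ = 𝟙 (CommRingCat.of V) := Spec.map_injective (by
          rw [Spec.map_comp, he₀, hαA, Category.assoc, Iso.hom_inv_id_assoc, heG, Spec.map_id])
        exact congrArg (fun z => z.hom c) h1 }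
  have hεA : Spec.map (CommRingCat.ofHom εA.toRingHom) ≫ G.left.isoSpec.inv = eG := by
    show Spec.map e₀ ≫ _ = _
    rw [he₀, Category.assoc, Iso.hom_inv_id, Category.comp_id]
  -- the generic torus
  let ψ : Over.mk ((XM K M).hom ≫ baseMap V K) ⟶ G := toBase (baseMap V K) (pM K M ≫ φ)
  obtain ⟨φ₀, hφ₀⟩ := Spec.map_surjective (ψ.left ≫ G.left.isoSpec.hom)
  let φA : A →+* GA K M := φ₀.hom
  have hψ : Spec.map (CommRingCat.ofHom φA) ≫ G.left.isoSpec.inv = ψ.left := by
    show Spec.map φ₀ ≫ _ = _
    rw [hφ₀, Category.assoc, Iso.hom_inv_id, Category.comp_id]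
  have hφalg : ∀ c, φA (algebraMap V A c) = algebraMap K (GA K M) (algebraMap V K c) := by
    have h1 : αA ≫ φ₀ = CommRingCat.ofHom ((algebraMap K (GA K M)).comp (algebraMap V K)) := Spec.map_injective (by
      rw [Spec.map_comp, hφ₀, hαA, Category.assoc, Iso.hom_inv_id_assoc, CommRingCat.ofHom_comp, Spec.map_comp]
      exact Over.w ψ)
    exact fun c => congrArg (fun z => z.hom c) h1
  have hφaug : ∀ a, augm K M (φA a) = algebraMap V K (εA a) := by
    let t : Over.mk ((𝟙_ (Over (Spec (CommRingCat.of K)))).hom ≫ baseMap V K) ⟶ 𝟙_ (Over (Spec (CommRingCat.of V))) :=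
      toUnit _
    have h1 : (Over.map (baseMap V K)).map (augPt K M) ≫ ψ = t ≫ 1 := by
      rw [← toBase_comp, ← Category.assoc, augPt_pM, MonObj.one_comp, toBase_one, MonObj.comp_one]
    have h2 := congrArg (fun z => z.left ≫ G.left.isoSpec.hom) h1
    change (Spec.map (CommRingCat.ofHom (augm K M).toRingHom) ≫ ψ.left) ≫ _ =
      ((𝟙 (Spec (CommRingCat.of K)) ≫ baseMap V K) ≫ eG) ≫ _ at h2
    rw [Category.id_comp, Category.assoc, Category.assoc, ← hφ₀, ← he₀, ← Spec.map_comp, ← Spec.map_comp] at h2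
    exact fun a => congrArg (fun z => z.hom a) (Spec.map_injective h2)
  -- the image
  let bl : Spec (CommRingCat.of (GA V M)) ⟶ H.left := (pM V M ≫ β).left
  have hbl : Spec.map (CommRingCat.ofHom (augm V M).toRingHom) ≫ bl = eH := by
    show (augPt V M ≫ pM V M ≫ β).left = _
    rw [← Category.assoc, augPt_pM, MonObj.one_comp]
  have hψu : ψ.left ≫ u.left = Spec.map (CommRingCat.ofHom (scal V M K)) ≫ bl := by
    have h1 : ψ ≫ u = genPt V M K ≫ pM V M ≫ β := by
      rw [genPt_comp, ← h, ← toBase_map', Category.assoc]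
    exact congrArg (fun z => z.left) h1
  have hu1 : eG ≫ u.left = eH := by
    show ((1 : 𝟙_ (Over (Spec (CommRingCat.of V))) ⟶ G) ≫ u).left = _
    rw [MonObj.one_comp]
  -- algebras of functions
  haveI : IsAffine H.left := isAffine_of_isAffineHom H.hom
  haveI : LocallyOfFiniteType u.left := by
    haveI : LocallyOfFiniteType (u.left ≫ H.hom) := by rw [Over.w u]; infer_instance
    exact locallyOfFiniteType_of_comp u.left H.hom
  let C : Type u := Γ(H.left, ⊤)
  let uA : C →+* A := u.left.appTop.hom
  letI : Algebra C A := uA.toAlgebra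
  haveI : Algebra.FiniteType C A :=
    (HasRingHomProperty.iff_of_isAffine (P := @LocallyOfFiniteType)).1 (inferInstance : LocallyOfFiniteType u.left)
  let e₁ : G.left := eG (IsLocalRing.closedPoint V)
  have he₁ : G.hom e₁ = IsLocalRing.closedPoint V := by
    rw [← Scheme.Hom.comp_apply, heG]
    rfl
  let q₀ : PrimeSpectrum A := PrimeSpectrum.comap εA.toRingHom (IsLocalRing.closedPoint V)
  have hq₀ : ((isAffineOpen_top G.left).primeIdealOf ⟨e₁, trivial⟩) = q₀ := by
    have h1 : (isAffineOpen_top G.left).fromSpec = G.left.isoSpec.inv := IsAffineOpen.fromSpec_top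
    refine (isAffineOpen_top G.left).fromSpec.isOpenEmbedding.injective ?_
    rw [IsAffineOpen.fromSpec_primeIdealOf, h1]
    show e₁ = G.left.isoSpec.inv (Spec.map (CommRingCat.ofHom εA.toRingHom) (IsLocalRing.closedPoint V))
    rw [← Scheme.Hom.comp_apply, hεA]
  haveI hqf : Algebra.QuasiFiniteAt C q₀.asIdeal := by
    have h1 := (quasiFiniteAt_of_closedFibre u he₁).quasiFiniteAt (isAffineOpen_top G.left)
      (isAffineOpen_top H.left) (by simp) (x := e₁) trivial
    rw [hq₀, show u.left.appLE ⊤ ⊤ (by simp) = u.left.appTop from (Scheme.Hom.app_eq_appLE _).symm] at h1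
    exact h1
  obtain ⟨S', hS', ρ, hρ, hbij⟩ :=
    Algebra.QuasiFiniteAt.exists_fg_and_exists_notMem_and_awayMap_bijective (R := C) q₀.asIdeal
  haveI : Module.Finite C S' := ⟨(Submodule.fg_top _).mpr hS'⟩
  -- compatibility
  obtain ⟨bC, hbC⟩ := Spec.map_surjective (bl ≫ H.left.isoSpec.hom)
  have hcomp : ∀ c : C, φA (uA c) = scal V M K (bC.hom c) := by
    have h1 : u.left.appTop ≫ φ₀ = bC ≫ CommRingCat.ofHom (scal V M K) := Spec.map_injective (by
      rw [Spec.map_comp, Spec.map_comp, hφ₀, hbC, Category.assoc, Scheme.isoSpec_hom_naturality, reassoc_of% hψu])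
    exact fun c => congrArg (fun z => z.hom c) h1
  have hint : ∀ a : S', ∃ σ : GA V M, scal V M K σ = φA a.1 := by
    intro a
    obtain ⟨p, hp, hpa⟩ := Algebra.IsIntegral.isIntegral (R := C) a
    obtain ⟨σ, hσ⟩ := exists_of_isIntegral (V := V) (K := K) (G := Multiplicative M) (x := φA a.1)
      ⟨p.map bC.hom, hp.map _, by
        have h2 : Polynomial.eval₂ (algebraMap C A) a.1 p = 0 := by
          have h3 := congrArg S'.val hpa
          rw [map_zero, ← AlgHom.coe_toRingHom, Polynomial.hom_eval₂] at h3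
          exact h3
        rw [Polynomial.eval₂_map, show (ext V K (Multiplicative M)).comp bC.hom = φA.comp (algebraMap C A) from
          RingHom.ext fun c => by
            rw [← scal_eq_ext]
            exact (hcomp c).symm, ← Polynomial.hom_eval₂, h2, map_zero]⟩
    exact ⟨σ, by rw [scal_eq_ext]; exact hσ⟩
  obtain ⟨ρV, hρV⟩ := hint ρ
  have hρ1 : red V (Multiplicative M) ρV ≠ 0 := by
    refine red_ne_zero_of_augm ?_
    have h2 : augm V M ρV = εA ρ.1 := IsFractionRing.injective V K (by rw [← augm_scal, hρV, hφaug])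
    rw [h2]
    by_contra hn
    exact hρ (show εA ρ.1 ∈ IsLocalRing.maximalIdeal V from hn)
  have hex : ∀ a : A, ∃ q : GA V M, scal V M K q = φA a := by
    intro a
    obtain ⟨x, hx⟩ := hbij.2 (algebraMap A (Localization.Away ρ.1) a)
    obtain ⟨y, ⟨_, n, rfl⟩, rfl⟩ := IsLocalization.exists_mk'_eq (Submonoid.powers ρ) x
    have hx2 : IsLocalization.mk' (Localization.Away ρ.1) y.1
        (⟨ρ.1 ^ n, n, rfl⟩ : Submonoid.powers ρ.1) = algebraMap A (Localization.Away ρ.1) a := by
      rw [← hx, Localization.awayMap, IsLocalization.Away.map, IsLocalization.map_mk']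
      rfl
    rw [IsLocalization.mk'_eq_iff_eq_mul, ← map_mul, IsLocalization.eq_iff_exists (Submonoid.powers ρ.1)] at hx2
    obtain ⟨⟨_, m, rfl⟩, hm⟩ := hx2
    simp only at hm
    obtain ⟨σ, hσ⟩ := hint y
    refine (exists_of_primitive_mul (K := K) (ρ := ρV ^ (m + n)) (σ := ρV ^ m * σ) (x := φA a)
      (by rw [map_pow]; exact pow_ne_zero _ hρ1) ?_).imp fun q hq => by rw [scal_eq_ext]; exact hq
    rw [← scal_eq_ext, map_pow, map_mul, map_pow, hρV, hσ, ← map_pow φA, ← map_pow φA, ← map_mul, ← map_mul, hm]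
    congr 1
    ring
  choose f hf using hex
  have hinj := scal_injective (V := V) (M := M) K
  let χA : A →+* GA V M :=
    { toFun := f
      map_one' := hinj (by rw [hf, map_one, map_one])
      map_mul' := fun a b => hinj (by rw [hf, map_mul, map_mul, hf, hf])
      map_zero' := hinj (by rw [hf, map_zero, map_zero])
      map_add' := fun a b => hinj (by rw [hf, map_add, map_add, hf, hf]) }
  let χ₀ : XM V M ⟶ G := Over.homMk (Spec.map (CommRingCat.ofHom χA) ≫ G.left.isoSpec.inv) (by
    show (Spec.map _ ≫ G.left.isoSpec.inv) ≫ G.hom = Spec.map _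
    rw [Category.assoc, ← hαA, ← Spec.map_comp]
    congr 1
    refine CommRingCat.hom_ext (RingHom.ext fun c => hinj ?_)
    show scal V M K (f (algebraMap V A c)) = scal V M K (algebraMap V (GA V M) c)
    rw [hf, hφalg]
    exact (RingHom.congr_fun (scal_comp V M K) c).symm)
  let χ := inv (pM V M) ≫ χ₀
  have hχ : bcHom (baseMap V K) χ = φ := by
    rw [← cancel_epi (pM K M)]
    refine toBase_injective (baseMap V K) _ _ ?_
    rw [← genPt_comp, IsIso.hom_inv_id_assoc]
    refine Over.OverMorphism.ext ?_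
    show Spec.map (CommRingCat.ofHom (scal V M K)) ≫ Spec.map (CommRingCat.ofHom χA) ≫ G.left.isoSpec.inv = ψ.left
    rw [← Spec.map_comp_assoc, ← hψ]
    congr 2
    exact CommRingCat.hom_ext (RingHom.ext fun a => hf a)
  refine ⟨χ, Groth.L19.AlgGrpBasic.isMonHom_of_points' χ fun T x y => ?_, hχ⟩
  -- multiplicativity from the generic fibre
  let p₁ : M →+ M × M := AddMonoidHom.inl M M
  let p₂ : M →+ M × M := AddMonoidHom.inr M M
  let S₀ := Spec (CommRingCat.of V)
  have hdiag : ∀ (S : Scheme.{u}), Red.DSmap S (p₁ + p₂) = Red.DSmap S p₁ * Red.DSmap S p₂ := fun S => by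
    rw [← Category.id_comp (Red.DSmap S (p₁ + p₂)), ← Category.id_comp (Red.DSmap S p₁),
      ← Category.id_comp (Red.DSmap S p₂)]
    refine Groth.L25.DSPts.char_injective ?_
    rw [Groth.L25.DSPts.char_mul, char_DSmap, char_DSmap, char_DSmap]
    exact MonoidHom.ext fun m => map_mul (DSPts.char (𝟙 _)) (Multiplicative.ofAdd (p₁ m.toAdd)) _
  have huniv : Red.DSmap S₀ (p₁ + p₂) ≫ χ = (Red.DSmap S₀ p₁ ≫ χ) * (Red.DSmap S₀ p₂ ≫ χ) := by
    refine ext_generic K _ _ ?_
    have hmul : ∀ f g : Red.DS S₀ (M × M) ⟶ G,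
        bcHom (baseMap V K) (f * g) = bcHom (baseMap V K) f * bcHom (baseMap V K) g := fun f g => by
      rw [bcHom, bcHom, bcHom, show (Over.pullback (baseMap V K)).map (f * g) = _ from
        map_mul ((Over.pullback (baseMap V K)).homMonoidHom) f g, MonObj.comp_mul]
      rfl
    rw [hmul, bcHom_comp, bcHom_comp, bcHom_comp, hχ, hdiag, MonObj.mul_comp]
  let p : T ⟶ Red.DS S₀ (M × M) := DSPts.pt
    (((DSPts.char x).comp (AddMonoidHom.fst M M).toMultiplicative) *
      ((DSPts.char y).comp (AddMonoidHom.snd M M).toMultiplicative))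
  have hp₁ : p ≫ Red.DSmap S₀ p₁ = x := Groth.L25.DSPts.char_injective (MonoidHom.ext fun m => by
    rw [char_DSmap, Groth.L25.DSPts.char_pt]
    show DSPts.char x _ * DSPts.char y 1 = _
    rw [map_one, _root_.mul_one]
    rfl)
  have hp₂ : p ≫ Red.DSmap S₀ p₂ = y := Groth.L25.DSPts.char_injective (MonoidHom.ext fun m => by
    rw [char_DSmap, Groth.L25.DSPts.char_pt]
    show DSPts.char x 1 * DSPts.char y _ = _
    rw [map_one, _root_.one_mul]
    rfl)
  have h4 := congrArg (p ≫ ·) huniv
  simp only [← Category.assoc, MonObj.comp_mul, hp₁, hp₂] at h4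
  rwa [hdiag, MonObj.comp_mul, hp₁, hp₂] at h4

end Groth.L25.AffRed
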