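import Groth.Agent.L25.LimHom
import Groth.Agent.L02.ConsP.FGA
import Groth.Agent.L25.MonoClosed.Main
import Mathlib.AlgebraicGeometry.Morphisms.Flat
import Mathlib.RingTheory.Algebraic.Integral

/-!
# Homomorphisms over an algebraic extension are defined over a finite subextension
-/

set_option autoImplicit false
set_option linter.unusedSectionVars false
set_option linter.style.haveILetI false
set_option backward.isDefEq.respectTransparency.types false
set_option maxHeartbeats 1000000

universe u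

open CategoryTheory CategoryTheory.Limits MonoidalCategory CartesianMonoidalCategory MonObj AlgebraicGeometry Opposite
open Groth.L25.LimHom L02.ConsP.FGA

noncomputable section

namespace Groth.L25.AffRed

/-- `w` comes from a homomorphism over `B` -/
def DescendsHom {A B C : Scheme.{u}} (σ : C ⟶ B) (θ : B ⟶ A) {j : C ⟶ A} {X Y : Over A} [GrpObj X] [GrpObj Y]
    (w : Red.bc j X ⟶ Red.bc j Y) : Prop :=
  ∃ v : Red.bc θ X ⟶ Red.bc θ Y, IsMonHom v ∧
    ∀ h' : σ ≫ θ = j, (Over.pullback σ).map v = (cmp h' X).hom ≫ w ≫ (cmp h' Y).inv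

/-- base change along a faithfully flat morphism is faithful -/
theorem map_injective_of_flat_surjective {S S' : Scheme.{u}} (σ : S' ⟶ S) [Flat σ] [Surjective σ] {X Y : Over S}
    {f g : X ⟶ Y} (h : (Over.pullback σ).map f = (Over.pullback σ).map g) : f = g := by
  rw [map_eq_map_iff] at h
  haveI : Flat (pullback.fst X.hom σ) := MorphismProperty.pullback_fst _ _ ‹Flat σ›
  haveI : Surjective (pullback.fst X.hom σ) := MorphismProperty.pullback_fst _ _ ‹Surjective σ›
  haveI := Flat.epi_of_flat_of_surjective (pullback.fst X.hom σ)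
  exact Over.OverMorphism.ext ((cancel_epi (pullback.fst X.hom σ)).1 h)

/-- being a homomorphism descends along faithfully flat morphisms -/
theorem isMonHom_of_flat_surjective {S S' : Scheme.{u}} (σ : S' ⟶ S) [Flat σ] [Surjective σ] {X Y : Over S}
    [GrpObj X] [GrpObj Y] (f : X ⟶ Y) (h : IsMonHom ((Over.pullback σ).map f)) : IsMonHom f := by
  let F := Over.pullback σ
  refine ⟨map_injective_of_flat_surjective σ ?_, map_injective_of_flat_surjective σ ?_⟩
  · rw [← cancel_epi (Functor.LaxMonoidal.ε F), Functor.map_comp]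
    have h1 := h.one_hom
    rw [Functor.obj.η_def, Functor.obj.η_def, Category.assoc] at h1
    exact h1
  · rw [← cancel_epi (Functor.LaxMonoidal.μ F X X), Functor.map_comp, Functor.map_comp]
    have h1 := h.mul_hom
    rw [Functor.obj.μ_def, Functor.obj.μ_def, Category.assoc, Functor.LaxMonoidal.μ_natural_assoc] at h1
    exact h1

theorem map_map_fst {X S A B C : Scheme.{u}} (f : X ⟶ S) {a : A ⟶ S} {b : B ⟶ S} {c : C ⟶ S} (σ : A ⟶ B) (r : B ⟶ C)
    {x : A ⟶ C} (h : σ ≫ b = a) (h' : r ≫ c = b) (hx : σ ≫ r = x) (h'' : x ≫ c = a) :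
    pullback.map f a f b (𝟙 X) σ (𝟙 S) (by simp) (by rw [Category.comp_id, h]) ≫
      pullback.map f b f c (𝟙 X) r (𝟙 S) (by simp) (by rw [Category.comp_id, h']) =
    pullback.map f a f c (𝟙 X) x (𝟙 S) (by simp) (by rw [Category.comp_id, h'']) := by
  subst hx
  apply pullback.hom_ext
  · simp only [Category.assoc]
    erw [pullback.lift_fst, pullback.lift_fst_assoc, pullback.lift_fst]
    simp
  · simp only [Category.assoc]
    erw [pullback.lift_snd, pullback.lift_snd_assoc, pullback.lift_snd]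
    simp

theorem exists_map_eq {A B C : Scheme.{u}} {σ : C ⟶ B} {θ : B ⟶ A} {j : C ⟶ A} (h : σ ≫ θ = j) {X Y : Over A}
    (w : Red.bc j X ⟶ Red.bc j Y) (g₀ : pullback X.hom θ ⟶ Y.left)
    (hg₀ : g₀ ≫ Y.hom = pullback.snd X.hom θ ≫ θ) (hw : q h X ≫ g₀ = w.left ≫ pullback.fst Y.hom j) :
    ∃ v : Red.bc θ X ⟶ Red.bc θ Y, ∀ h' : σ ≫ θ = j, (Over.pullback σ).map v = (cmp h' X).hom ≫ w ≫ (cmp h' Y).inv :=
  ⟨Over.homMk (pullback.lift g₀ (pullback.snd X.hom θ) hg₀) (pullback.lift_snd _ _ _), fun _ => (map_eq_iff h _ w).2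
    ((congrArg (q h X ≫ ·) (pullback.lift_fst _ _ _)).trans hw)⟩

theorem exists_descended_hom {A B C : Scheme.{u}} {σ : C ⟶ B} {θ : B ⟶ A} {j : C ⟶ A} [Flat σ] [Surjective σ]
    (h : σ ≫ θ = j) {X Y : Over A} [GrpObj X] [GrpObj Y]
    (w : Red.bc j X ⟶ Red.bc j Y) [IsMonHom w] (g₀ : pullback X.hom θ ⟶ Y.left)
    (hg₀ : g₀ ≫ Y.hom = pullback.snd X.hom θ ≫ θ) (hw : q h X ≫ g₀ = w.left ≫ pullback.fst Y.hom j) :
    DescendsHom σ θ w := by
  obtain ⟨v, key⟩ := exists_map_eq h w g₀ hg₀ hw
  refine ⟨v, isMonHom_of_flat_surjective σ v ?_, key⟩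
  rw [key h]
  haveI := isMonHom_cmp h X
  haveI := isMonHom_cmp_inv h Y
  infer_instance

/-- **a homomorphism over an algebraic extension comes from a finite one** -/
theorem exists_finite_hom {K Ω : Type u} [Field K] [Field Ω] [Algebra K Ω] [Algebra.IsAlgebraic K Ω]
    (X Y : Over (Spec (CommRingCat.of K))) [GrpObj X] [GrpObj Y] [QuasiCompact X.hom] [QuasiSeparated X.hom]
    [LocallyOfFinitePresentation Y.hom]
    (w : Red.bc (Spec.map (CommRingCat.ofHom (algebraMap K Ω))) X ⟶
      Red.bc (Spec.map (CommRingCat.ofHom (algebraMap K Ω))) Y) [IsMonHom w] :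
    ∃ (L : IntermediateField K Ω) (_ : FiniteDimensional K L),
      DescendsHom (Spec.map (CommRingCat.ofHom L.val.toRingHom)) (Spec.map (CommRingCat.ofHom (algebraMap K L))) w := by
  let D := specDiagram K Ω
  let c := specCone K Ω
  have hc : IsLimit c := isLimitSpecCone K Ω
  let jΩ : Spec (CommRingCat.of Ω) ⟶ Spec (CommRingCat.of K) := Spec.map (CommRingCat.ofHom (algebraMap K Ω))
  let t : ∀ i, D.obj i ⟶ Spec (CommRingCat.of K) := fun i =>
    Spec.map (CommRingCat.ofHom (algebraMap K i.unop.1))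
  have ht : ∀ {i j : (FG K Ω)ᵒᵖ} (φ : i ⟶ j), D.map φ ≫ t j = t i := fun φ => (Spec.map_comp _ _).symm
  have hT : ∀ i, c.π.app i ≫ t i = jΩ := fun i => (Spec.map_comp _ _).symm
  let B := Groth.L19.Limit.baseDiagram X.hom t ht
  haveI : ∀ {i j : (FG K Ω)ᵒᵖ} (φ : i ⟶ j), IsAffineHom (B.map φ) := fun φ =>
    Groth.L19.Limit.isAffineHom_baseDiagram_map X.hom t ht φ
  haveI : ∀ i, CompactSpace ↥(D.obj i) := fun i => inferInstanceAs (CompactSpace (Spec _))
  haveI : ∀ i, QuasiSeparatedSpace ↥(D.obj i) := fun i => inferInstanceAs (QuasiSeparatedSpace (Spec _))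
  haveI : ∀ i, CompactSpace ↥(B.obj i) := fun i =>
    @QuasiCompact.compactSpace_of_compactSpace _ _ (pullback.snd X.hom (t i))
      (MorphismProperty.pullback_snd (P := @QuasiCompact) _ _ (inferInstance : QuasiCompact X.hom))
      (inferInstanceAs (CompactSpace (Spec _)))
  haveI : ∀ i, QuasiSeparatedSpace ↥(B.obj i) := fun i =>
    @quasiSeparatedSpace_of_quasiSeparated _ _ (pullback.snd X.hom (t i))
      (inferInstanceAs (QuasiSeparatedSpace (Spec _)))
      (MorphismProperty.pullback_snd (P := @QuasiSeparated) _ _ (inferInstance : QuasiSeparated X.hom))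
  let τ : B ⟶ (Functor.const _).obj (Spec (CommRingCat.of K)) :=
    { app := fun i => pullback.fst X.hom (t i) ≫ X.hom
      naturality := fun i j φ => by
        simp only [B, Groth.L19.Limit.baseDiagram, Functor.const_obj_map, PullbackCone.mk_π_app]
        erw [pullback.lift_fst_assoc, Category.comp_id]
        simp }
  let cB := Groth.L19.Limit.baseCone (c := c) X.hom t ht jΩ hT
  have hcB : IsLimit cB := Groth.L19.Limit.isLimitBaseCone (c := c) X.hom t ht jΩ hT hc
  have hw : (w.left ≫ pullback.fst Y.hom jΩ) ≫ Y.hom = pullback.fst X.hom jΩ ≫ X.hom := by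
    rw [Category.assoc, pullback.condition, ← Category.assoc, pullback.condition]
    exact congrArg (· ≫ jΩ) (Over.w w)
  obtain ⟨i, g, hg, hg'⟩ := Scheme.exists_π_app_comp_eq_of_locallyOfFinitePresentation B τ Y.hom cB hcB
    (w.left ≫ pullback.fst Y.hom jΩ) (by
      ext i
      simp only [cB, τ, Groth.L19.Limit.baseCone, NatTrans.comp_app, Functor.const_map_app]
      erw [pullback.lift_fst_assoc, Category.comp_id]
      exact hw.symm.trans (Category.assoc _ _ _))
  let S : Subalgebra K Ω := i.unop.1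
  have hF : IsField S := Subalgebra.isField_of_algebraic S
  let L : IntermediateField K Ω := S.toIntermediateField' hF
  haveI : FiniteDimensional K L := by
    haveI : Algebra.FiniteType K S := ⟨(Subalgebra.fg_top S).2 i.unop.2⟩
    haveI : Algebra.IsIntegral K S := ⟨fun x => (isIntegral_algebraMap_iff (A := S) (B := Ω)
      (FaithfulSMul.algebraMap_injective S Ω)).1 (Algebra.IsIntegral.isIntegral _)⟩
    haveI : Module.Finite K S := Algebra.IsIntegral.finite
    let ψ : S →ₗ[K] L := { toFun := fun x => ⟨x.1, x.2⟩, map_add' := fun _ _ => rfl, map_smul' := fun _ _ => rfl }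
    exact Module.Finite.of_surjective ψ fun x => ⟨⟨x.1, x.2⟩, rfl⟩
  let incl : S →+* L :=
    { toFun := fun x => ⟨x.1, x.2⟩, map_one' := rfl, map_mul' := fun _ _ => rfl, map_zero' := rfl,
      map_add' := fun _ _ => rfl }
  let θ : Spec (CommRingCat.of L) ⟶ Spec (CommRingCat.of K) := Spec.map (CommRingCat.ofHom (algebraMap K L))
  let r : Spec (CommRingCat.of L) ⟶ D.obj i := Spec.map (CommRingCat.ofHom incl)
  let σ : Spec (CommRingCat.of Ω) ⟶ Spec (CommRingCat.of L) := Spec.map (CommRingCat.ofHom L.val.toRingHom)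
  have hr : r ≫ t i = θ := (Spec.map_comp _ _).symm
  have hσ : σ ≫ r = c.π.app i := (Spec.map_comp _ _).symm
  have hi : σ ≫ θ = jΩ := (Spec.map_comp _ _).symm
  let m₀ : pullback X.hom θ ⟶ B.obj i :=
    pullback.map X.hom θ X.hom (t i) (𝟙 _) r (𝟙 _) (by simp) (by rw [Category.comp_id, hr])
  have hm₀ : q hi X ≫ m₀ = cB.π.app i := map_map_fst X.hom σ r hi hr hσ (hT i)
  haveI : Flat σ := by
    letI : Algebra L Ω := L.val.toRingHom.toAlgebra
    exact (HasRingHomProperty.Spec_iff (P := @Flat)).2 (RingHom.flat_algebraMap_iff.2 (inferInstance : Module.Flat L Ω))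
  haveI : Surjective σ := ⟨fun p => ⟨IsLocalRing.closedPoint Ω, Subsingleton.elim (α := PrimeSpectrum L) _ _⟩⟩
  refine ⟨L, inferInstance, exists_descended_hom hi w (m₀ ≫ g) (by
      refine (Category.assoc _ _ _).trans ((congrArg (_ ≫ ·) hg').trans ?_)
      show _ ≫ pullback.fst X.hom (t i) ≫ X.hom = _
      rw [← Category.assoc, pullback.lift_fst, Category.comp_id]
      exact pullback.condition) (((Category.assoc _ _ _).symm.trans (congrArg (· ≫ g) hm₀)).trans hg)⟩

end Groth.L25.AffRed
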