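import Groth.Agent.L25.AffRed.Lift
import Groth.Agent.L25.RedField.QFNormalOpen
import Groth.Agent.L18.GrpHomFinite
import Mathlib.AlgebraicGeometry.ValuativeCriterion

/-!
# Homomorphisms quasi-finite on the closed fibre are quasi-finite
-/

set_option autoImplicit false
set_option linter.unusedSectionVars false
set_option linter.style.haveILetI false
set_option backward.isDefEq.respectTransparency.types false
set_option maxHeartbeats 1000000
set_option linter.deprecated false

universe u

open CategoryTheory CategoryTheory.Limits MonoidalCategory CartesianMonoidalCategory MonObj GrpObj AlgebraicGeometry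
open Groth.L08.MonoRed (baseMap closedMap)
open IsLocalRing (closedPoint)

noncomputable section

namespace Groth.L25.AffRed

/-- quasi-finiteness at a point gives an open singleton in the fibre of a restriction to an embedded subset -/
theorem isOpen_singleton_of_qf {X Y X' Y' : Scheme.{u}} (f : X ⟶ Y) [LocallyOfFiniteType f] (f' : X' ⟶ Y')
    (a : X' ⟶ X) (b : Y' ⟶ Y) (ha : Topology.IsEmbedding a) (hc : a ≫ f = f' ≫ b) (x : X')
    (h : f.QuasiFiniteAt (a x)) : ∃ O : Set X', IsOpen O ∧ O ∩ f' ⁻¹' {f' x} = {x} := by
  rw [Scheme.Hom.quasiFiniteAt_iff_isOpen_singleton_asFiber, ← (f.fiberHomeo (f (a x))).isOpen_image,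
    Set.image_singleton, Scheme.Hom.asFiber, Homeomorph.apply_symm_apply] at h
  obtain ⟨O, hO, hOx⟩ := h
  have hmem : a x ∈ O := (Set.ext_iff.1 hOx ⟨a x, rfl⟩).2 rfl
  refine ⟨a ⁻¹' O, hO.preimage a.continuous, Set.eq_singleton_iff_unique_mem.2 ⟨⟨hmem, rfl⟩, fun y ⟨hyO, hy⟩ => ?_⟩⟩
  have hy' : f (a y) = f (a x) := by
    rw [← Scheme.Hom.comp_apply, ← Scheme.Hom.comp_apply, hc, Scheme.Hom.comp_apply, Scheme.Hom.comp_apply,
      show f' y = f' x from hy]
  exact ha.injective (congrArg Subtype.val ((Set.ext_iff.1 hOx ⟨a y, hy'⟩).1 hyO))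

variable {A : Type u} [CommRing A] [IsLocalRing A] {G H : Over (Spec (CommRingCat.of A))} [GrpObj G] [GrpObj H]
  [Smooth G.hom] [QuasiCompact G.hom] [IsSeparated G.hom] [IsAffineHom H.hom] [LocallyOfFinitePresentation H.hom]

theorem finite_fibre_hom (u : G ⟶ H) [IsMonHom u]
    [LocallyQuasiFinite ((Over.pullback (closedMap A)).map u).left] (s : Spec (CommRingCat.of A)) :
    IsFinite ((Over.pullback ((Spec (CommRingCat.of A)).fromSpecResidueField s)).map u).left := by
  let S := Spec (CommRingCat.of A)
  haveI : LocallyOfFiniteType u.left := by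
    haveI : LocallyOfFiniteType (u.left ≫ H.hom) := by rw [Over.w u]; infer_instance
    exact locallyOfFiniteType_of_comp u.left H.hom
  let e : S ⟶ G.left := η[G].left
  have hec : G.hom (e (closedPoint A)) = closedPoint A := by
    rw [← Scheme.Hom.comp_apply, Over.w η[G]]
    rfl
  have hes : e s ∈ u.left.quasiFiniteLocus :=
    ((IsLocalRing.specializes_closedPoint s).map e.continuous).mem_open u.left.quasiFiniteLocus.2
      (quasiFiniteAt_of_closedFibre u hec)
  let σ := S.fromSpecResidueField s
  let Gs : Over (Spec (CommRingCat.of (S.residueField s))) := Red.bc σ G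
  let Hs : Over (Spec (CommRingCat.of (S.residueField s))) := Red.bc σ H
  letI : GrpObj Gs := inferInstanceAs (GrpObj (Red.bc σ G))
  letI : GrpObj Hs := inferInstanceAs (GrpObj (Red.bc σ H))
  let us : Gs ⟶ Hs := (Over.pullback σ).map u
  haveI : IsMonHom us := Groth.L25.MonoClosed.isMonHom_pullbackMap σ u
  haveI : LocallyOfFiniteType Gs.hom := inferInstanceAs (LocallyOfFiniteType (pullback.snd G.hom σ))
  haveI : LocallyOfFiniteType Hs.hom := inferInstanceAs (LocallyOfFiniteType (pullback.snd H.hom σ))
  haveI : QuasiCompact Gs.hom := inferInstanceAs (QuasiCompact (pullback.snd G.hom σ))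
  let j : Gs.left ⟶ G.left := pullback.fst G.hom σ
  haveI : IsPreimmersion j := inferInstanceAs (IsPreimmersion (pullback.fst G.hom σ))
  let o : Gs.left := Component.one Gs
  have ho : j o = e s := by
    have h1 : η[Red.bc σ G].left ≫ j = σ ≫ e := Groth.L25.SmoothUnit.eta_bc_fst σ G
    show j (η[Red.bc σ G].left (closedPoint (S.residueField s))) = _
    rw [← Scheme.Hom.comp_apply, h1, Scheme.Hom.comp_apply, Scheme.fromSpecResidueField_apply]
  obtain ⟨O, hO, hOx⟩ := isOpen_singleton_of_qf u.left us.left j (pullback.fst H.hom σ) j.isEmbedding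
    (Groth.L08.Borel.isPullback_bc_map' σ u).w.symm o (ho ▸ hes)
  obtain ⟨E, gE, i, hi, hic, -, sq⟩ := Groth.L08.AbelianGrp.exists_kernel us
  haveI := hi; haveI := hic
  haveI : QuasiCompact E.hom := by rw [← Over.w i]; infer_instance
  haveI : LocallyOfFiniteType E.hom := by rw [← Over.w i]; infer_instance
  haveI : IsFinite E.hom := by
    refine Groth.L25.RedField.isFinite_of_isOpen_one E ?_
    have hio : i.left (Component.one E) = o := by
      show i.left (η[E].left _) = η[Gs].left _
      rw [← Scheme.Hom.comp_apply, ← Over.comp_left, IsMonHom.one_hom]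
    have : ({Component.one E} : Set E.left) = i.left ⁻¹' O := by
      ext z
      refine ⟨fun hz => ?_, fun hz => ?_⟩
      · rw [Set.mem_singleton_iff.1 hz, Set.mem_preimage, hio]
        exact ((Set.ext_iff.1 hOx o).2 rfl).1
      · have h1 : us.left (i.left z) = us.left o := by
          have h2 : ∀ z', us.left (i.left z') = η[Hs].left (closedPoint (S.residueField s)) := fun z' => by
            rw [← Scheme.Hom.comp_apply, ← Over.comp_left, sq.w, Over.comp_left, Scheme.Hom.comp_apply]
            exact congrArg η[Hs].left (Subsingleton.elim (α := PrimeSpectrum (S.residueField s)) _ _)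
          rw [← hio, h2, h2]
        refine i.left.isClosedEmbedding.injective ?_
        rw [hio]
        exact (Set.ext_iff.1 hOx (i.left z)).1 ⟨hz, h1⟩
    rw [this]
    exact hO.preimage i.left.continuous
  exact Groth.L18.GrpHomFinite.isFinite_of_kernel_finite us i sq

theorem isAffine_fibre (u : G ⟶ H) [IsMonHom u]
    [LocallyQuasiFinite ((Over.pullback (closedMap A)).map u).left] (s : Spec (CommRingCat.of A)) :
    IsAffine (pullback G.hom ((Spec (CommRingCat.of A)).fromSpecResidueField s)) := by
  haveI := finite_fibre_hom u s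
  let σ := (Spec (CommRingCat.of A)).fromSpecResidueField s
  haveI : IsAffine (Red.bc σ H).left := by
    haveI : IsAffineHom (Red.bc σ H).hom := MorphismProperty.pullback_snd (P := @IsAffineHom) H.hom σ inferInstance
    exact isAffine_of_isAffineHom (Red.bc σ H).hom
  exact isAffine_of_isAffineHom ((Over.pullback σ).map u).left

theorem locallyQuasiFinite_of_closedFibre (u : G ⟶ H) [IsMonHom u]
    [LocallyQuasiFinite ((Over.pullback (closedMap A)).map u).left] : LocallyQuasiFinite u.left := by
  haveI : LocallyOfFiniteType u.left := by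
    haveI : LocallyOfFiniteType (u.left ≫ H.hom) := by rw [Over.w u]; infer_instance
    exact locallyOfFiniteType_of_comp u.left H.hom
  haveI : QuasiCompact (u.left ≫ H.hom) := by rw [Over.w u]; infer_instance
  haveI : QuasiCompact u.left := QuasiCompact.of_comp u.left H.hom
  refine LocallyQuasiFinite.of_finite_preimage_singleton u.left fun y => ?_
  let σ := (Spec (CommRingCat.of A)).fromSpecResidueField (H.hom y)
  haveI := finite_fibre_hom u (H.hom y)
  obtain ⟨y', hy', -⟩ := Scheme.Pullback.exists_preimage_pullback (f := H.hom) (g := σ) y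
    (closedPoint ((Spec (CommRingCat.of A)).residueField (H.hom y))) (Scheme.fromSpecResidueField_apply _ _).symm
  let us := ((Over.pullback σ).map u).left
  have hsub : u.left ⁻¹' {y} ⊆ pullback.fst G.hom σ '' (us ⁻¹' {y'}) := by
    intro x hx
    obtain ⟨z, hz, hz'⟩ := Scheme.exists_preimage_of_isPullback (Groth.L08.Borel.isPullback_bc_map' σ u) y' x
      (by rw [hy']; exact (show u.left x = y from hx).symm)
    exact ⟨z, hz, hz'⟩
  exact (((us.finite_preimage_singleton y').image _).subset hsub)

end Groth.L25.AffRed
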