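import Groth.Agent.L08.Borel.RedComp
import Groth.Agent.L08.Borel.MaxTori
import Groth.Agent.L08.Borel.Conj
import Groth.Agent.L18.GrpHomFinite
import Groth.Agent.L25.RedField.NormalSub
import Groth.Agent.L25.RedField.QFNormalOpen

/-!
# Homomorphisms out of reductive groups killing no torus are finite
-/

set_option autoImplicit false
set_option linter.unusedSectionVars false
set_option linter.style.haveILetI false
set_option backward.isDefEq.respectTransparency.types false

universe u

open CategoryTheory CategoryTheory.Limits MonoidalCategory CartesianMonoidalCategory MonObj GrpObj AlgebraicGeometry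

noncomputable section

namespace Groth.L25.AffRed

variable {k : Type u} [Field k] [IsAlgClosed k]

local notation "U1" => 𝟙_ (Over (Spec (CommRingCat.of k)))
local notation "SK" => Spec (CommRingCat.of k)

/-- **a homomorphism out of a reductive group which kills no nontrivial torus is finite** -/
theorem isFinite_of_killed_tori {G H : Over SK} [GrpObj G] [GrpObj H] [LocallyOfFiniteType H.hom]
    (hG : Red.IsReductiveOver k G) (u : G ⟶ H) [IsMonHom u]
    (htor : ∀ (T : Over SK) [GrpObj T] (i : T ⟶ G) [IsMonHom i] [IsClosedImmersion i.left],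
      Red.IsTorus T → i ≫ u = 1 → Red.IsTrivialGrp T) : IsFinite u.left := by
  haveI := hG.1; haveI := hG.2.1; haveI := hG.2.2.1
  haveI : QuasiCompact G.hom := quasiCompact_of_compactSpace _
  haveI : LocallyOfFiniteType G.hom := inferInstance
  obtain ⟨E, gE, i, hi, hic, -, sq⟩ := Groth.L08.AbelianGrp.exists_kernel u
  haveI := hi; haveI := hic
  haveI : Mono i := Over.mono_of_mono_left i
  haveI : QuasiCompact E.hom := by rw [← Over.w i]; infer_instance
  haveI : LocallyOfFiniteType E.hom := by rw [← Over.w i]; infer_instance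
  have hiu : i ≫ u = 1 := sq.w.trans Hom.one_def.symm
  have hn : AlgGrp.IsNormalHom i := fun T g n => by
    obtain ⟨z, hz, -⟩ := sq.exists_lift (g * (n ≫ i) * g⁻¹) (toUnit T) (by
      rw [MonObj.mul_comp, MonObj.mul_comp, GrpObj.inv_comp, Category.assoc, hiu, MonObj.comp_one,
        _root_.mul_one, mul_inv_cancel, Hom.one_def])
    exact ⟨z, hz.symm⟩
  obtain ⟨H₀, gH, j, hj⟩ := Groth.L08.Chev.exists_idComp E
  haveI := hj.hom; haveI := hj.closedImm; haveI := hj.openImm; haveI := hj.connectedSpace; haveI := hj.lft
  haveI : IsMonHom (j ≫ i) := inferInstance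
  haveI : Mono j := Over.mono_of_mono_left j
  have hn₀ : AlgGrp.IsNormalHom (j ≫ i) := hj.normal i hn
  obtain ⟨K, gK, m, hm, hred, hmc, hmr⟩ := Groth.L08.MonoClosed.exists_reduced_subgroup (G := H₀) Set.univ
    isClosed_univ trivial (fun _ _ _ => trivial) (fun _ _ => trivial)
  haveI := hm; haveI := hred; haveI := hmc
  haveI : Mono m := Over.mono_of_mono_left m
  haveI : LocallyOfFiniteType K.hom := by rw [← Over.w m]; infer_instance
  haveI : Surjective m.left := ⟨Set.range_eq_univ.1 hmr⟩
  haveI : ConnectedSpace K.left := by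
    refine connectedSpace_iff_univ.2 ⟨⟨η[K].left (IsLocalRing.closedPoint k), trivial⟩, ?_⟩
    refine m.left.isClosedEmbedding.toIsEmbedding.toIsInducing.isPreconnected_image.1 ?_
    rw [Set.image_univ, hmr]
    exact isPreconnected_univ
  haveI := Groth.L08.Chev.geometricallyReduced_of_reduced K
  haveI : GeometricallyIntegral K.hom := Groth.Agent.AV.geometricallyIntegral_of_connected K
  haveI hKs : Smooth K.hom := Groth.L08.Albanese.smooth_of_geometricallyIntegral K
  let v : K ⟶ G := m ≫ j ≫ i
  haveI : IsMonHom v := inferInstanceAs (IsMonHom (m ≫ j ≫ i))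
  haveI : IsClosedImmersion v.left := inferInstanceAs (IsClosedImmersion (m.left ≫ j.left ≫ i.left))
  haveI : Mono v := Over.mono_of_mono_left v
  have hnv : AlgGrp.IsNormalHom v := Groth.L25.RedField.isNormalHom_of_points v fun g => by
    obtain ⟨c, -, -, hc⟩ := Groth.L25.RedField.exists_conjAut (j ≫ i) hn₀ g
    obtain ⟨l, hl⟩ := Groth.L00.ReducedSub.exists_lift m.left (m ≫ c).left (by rw [hmr]; exact Set.subset_univ _)
    have hlw : l ≫ K.hom = K.hom := (congrArg (l ≫ ·) (Over.w m).symm).trans (by
      show l ≫ m.left ≫ H₀.hom = K.hom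
      rw [reassoc_of% hl]
      exact Over.w (m ≫ c))
    refine ⟨Over.homMk l hlw, ?_⟩
    have e : (Over.homMk l hlw : K ⟶ K) ≫ m = m ≫ c := Over.OverMorphism.ext hl
    show _ ≫ m ≫ j ≫ i = AGF.conjBy g (m ≫ j ≫ i)
    rw [reassoc_of% e, hc, Groth.L08.Borel.comp_conjBy]
  have hvu : v ≫ u = 1 := by
    show (m ≫ j ≫ i) ≫ u = 1
    rw [Category.assoc, Category.assoc, hiu, MonObj.comp_one, MonObj.comp_one]
  have hK : Red.HasNoSubtorus k K := fun T _ t _ _ hT => by
    obtain ⟨hTa, hTs, -⟩ := Groth.L08.Borel.torus_props hT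
    haveI := hTa; haveI := hTs
    haveI : IsMonHom (t ≫ v) := inferInstance
    haveI : Mono (t ≫ v) := mono_comp _ _
    haveI : QuasiCompact (t ≫ v).left := by
      haveI : QuasiCompact ((t ≫ v).left ≫ G.hom) := by
        rw [Over.w (t ≫ v)]; exact quasiCompact_of_compactSpace _
      exact QuasiCompact.of_comp (t ≫ v).left G.hom
    haveI := Groth.L08.MonoClosed.isClosedImmersion_of_field (t ≫ v)
    exact htor T (t ≫ v) hT (by rw [Category.assoc, hvu, MonObj.comp_one])
  haveI htriv : IsIso K.hom := hG.2.2.2 K v inferInstance hKs inferInstance hnv hK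
  have hsub : Subsingleton H₀.left := by
    haveI : Subsingleton K.left := K.hom.homeomorph.injective.subsingleton
    exact m.left.surjective.subsingleton
  have hopen : IsOpen ({Groth.L25.Component.one E} : Set E.left) := by
    have hC : connectedComponent (Groth.L25.Component.one E) = {Groth.L25.Component.one E} := by
      refine Set.Subsingleton.eq_singleton_of_mem (hj.range ▸ ?_) mem_connectedComponent
      rintro _ ⟨a, rfl⟩ _ ⟨b, rfl⟩
      rw [Subsingleton.elim a b]
    rw [← hC, ← hj.range]
    exact j.left.isOpenEmbedding.isOpen_range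
  haveI := Groth.L25.RedField.isFinite_of_isOpen_one E hopen
  exact Groth.L18.GrpHomFinite.isFinite_of_kernel_finite u i sq

end Groth.L25.AffRed
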