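import Groth.Agent.L06.Lie.Model
import Groth.Agent.L11.Magnet.SymCore
import Mathlib.RingTheory.LocalRing.Module
import Mathlib.AlgebraicGeometry.Morphisms.Smooth
import Mathlib.RingTheory.Smooth.Basic

/-!
# Coordinates on the Lie algebra of a smooth group scheme over a local base

The cotangent space at the unit is free, so the Lie algebra is a free module compatibly with base change.
-/

set_option autoImplicit false
set_option linter.unusedSectionVars false
set_option linter.style.haveILetI false
set_option maxSynthPendingDepth 3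
set_option backward.isDefEq.respectTransparency.types false
set_option backward.isDefEq.respectTransparency false
set_option maxHeartbeats 1000000

universe u

open CategoryTheory CategoryTheory.Limits MonoidalCategory CartesianMonoidalCategory MonObj GrpObj AlgebraicGeometry
open LieS Groth.L06.Lie

noncomputable section

namespace Groth.L25.AffRed

/-- a derivation at a section of a smooth algebra over a local ring giving coordinates on the cotangent space -/
theorem exists_cotangent_coords {A R : Type u} [CommRing A] [IsLocalRing A] [CommRing R] [Algebra A R]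
    [Algebra.Smooth A R] (u : R →ₐ[A] A) :
    ∃ (d : ℕ) (x : Fin d → R) (D : R →ₗ[A] (Fin d → A)), (∀ i, u (x i) = 0) ∧
      (∀ s t, D (s * t) = u s • D t + u t • D s) ∧ (∀ i, D (x i) = Pi.single i 1) ∧
      ∀ b, b - algebraMap A R (u b) - ∑ i, D b i • x i ∈ RingHom.ker u.toRingHom ^ 2 := by
  classical
  let K := RingHom.ker u.toRingHom
  have hsubK : ∀ b : R, b - algebraMap A R (u b) ∈ K := fun b => by simp [K, RingHom.mem_ker]
  have hN : Module.Finite A K.Cotangent ∧ Module.Projective A K.Cotangent := by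
    letI : Algebra R A := u.toRingHom.toAlgebra
    haveI : IsScalarTower A R A := IsScalarTower.of_algebraMap_eq fun a => (u.commutes a).symm
    exact Groth.L11.Magnet.finite_projective_cotangent (R := A) (C := R) (B := A) fun a => u.commutes a
  haveI := hN.1; haveI := hN.2
  haveI : Module.Free A K.Cotangent := Module.free_of_flat_of_isLocalRing
  let bas := Module.finBasis A K.Cotangent
  choose y hy using fun i => K.toCotangent_surjective (bas i)
  let κ : R →ₗ[A] K.Cotangent := (K.toCotangent.restrictScalars A) ∘ₗ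
    ((LinearMap.id - Algebra.linearMap A R ∘ₗ u.toLinearMap).codRestrict (K.restrictScalars A) hsubK :
      R →ₗ[A] K.restrictScalars A)
  have hκ : ∀ b, κ b = K.toCotangent ⟨b - algebraMap A R (u b), hsubK b⟩ := fun b => rfl
  let D : R →ₗ[A] (Fin (Module.finrank A K.Cotangent) → A) := bas.equivFun.toLinearMap ∘ₗ κ
  have hux : ∀ i, u (y i : R) = 0 := fun i => (RingHom.mem_ker (f := u.toRingHom)).1 (y i).2
  refine ⟨_, fun i => (y i : R), D, hux, fun s t => ?_, fun i => ?_, fun b => ?_⟩
  · show bas.equivFun (κ (s * t)) = u s • bas.equivFun (κ t) + u t • bas.equivFun (κ s)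
    rw [← map_smul bas.equivFun, ← map_smul bas.equivFun, ← map_add bas.equivFun]
    congr 1
    rw [hκ, hκ, hκ, ← algebraMap_smul R (u s), ← algebraMap_smul R (u t), ← map_smul, ← map_smul, ← map_add,
      Ideal.toCotangent_eq]
    show s * t - algebraMap A R (u (s * t)) -
      (algebraMap A R (u s) * (t - algebraMap A R (u t)) + algebraMap A R (u t) * (s - algebraMap A R (u s))) ∈ K ^ 2
    rw [map_mul, map_mul, show s * t - algebraMap A R (u s) * algebraMap A R (u t) -
      (algebraMap A R (u s) * (t - algebraMap A R (u t)) + algebraMap A R (u t) * (s - algebraMap A R (u s))) =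
      (s - algebraMap A R (u s)) * (t - algebraMap A R (u t)) by ring, pow_two]
    exact Ideal.mul_mem_mul (hsubK s) (hsubK t)
  · have h : κ (y i : R) = bas i := by
      rw [hκ, ← hy i]
      congr 1
      exact Subtype.ext (by simp [hux i])
    show bas.equivFun (κ _) = _
    rw [h]
    ext j
    simp [Module.Basis.equivFun_apply, Finsupp.single_apply, Pi.single_apply, eq_comm]
  · have h : K.toCotangent ⟨b - algebraMap A R (u b), hsubK b⟩ = K.toCotangent (∑ i, D b i • y i) := by
      rw [map_sum, ← hκ]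
      simp only [LinearMap.map_smul_of_tower, hy]
      exact (bas.sum_equivFun (κ b)).symm
    have h2 := (Ideal.toCotangent_eq _).1 h
    rwa [Submodule.coe_sum] at h2

/-- an affine chart at the unit with coordinates on the cotangent space -/
structure Chart {A : Type u} [CommRing A] (G : Over (Spec (CommRingCat.of A))) [GrpObj G] where
  W : G.left.Opens
  affine : IsAffine W.toScheme
  mem : ∀ s : ↥(Spec (CommRingCat.of A)), η[G].left s ∈ W
  d : ℕ
  alg : A →+* Γ(W.toScheme, ⊤)
  unit : Γ(W.toScheme, ⊤) →+* A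
  unit_alg : ∀ a, unit (alg a) = a
  spec_alg : Spec.map (CommRingCat.ofHom alg) = W.toScheme.isoSpec.inv ≫ W.ι ≫ G.hom
  spec_unit : Spec.map (CommRingCat.ofHom unit) ≫ W.toScheme.isoSpec.inv ≫ W.ι = η[G].left
  x : Fin d → Γ(W.toScheme, ⊤)
  D : Γ(W.toScheme, ⊤) →+ (Fin d → A)
  D_alg : ∀ a, D (alg a) = 0
  unit_x : ∀ i, unit (x i) = 0
  D_mul : ∀ s t, D (s * t) = unit s • D t + unit t • D s
  D_x : ∀ i, D (x i) = Pi.single i 1
  D_rep : ∀ b, b - alg (unit b) - ∑ i, alg (D b i) * x i ∈ RingHom.ker unit ^ 2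

attribute [instance] Chart.affine

theorem exists_chart {A : Type u} [CommRing A] [IsLocalRing A] (G : Over (Spec (CommRingCat.of A))) [GrpObj G]
    [Smooth G.hom] : Nonempty (Chart G) := by
  let S := Spec (CommRingCat.of A)
  let e : S ⟶ G.left := η[G].left
  obtain ⟨_, ⟨W₀, hW, rfl⟩, hm, -⟩ := G.left.isBasis_affineOpens.exists_subset_of_mem_open
    (Set.mem_univ (e (IsLocalRing.closedPoint A))) isOpen_univ
  let W : G.left.Opens := W₀
  haveI : IsAffine W.toScheme := hW
  have hmem : ∀ s : S, e s ∈ W := fun s =>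
    ((IsLocalRing.specializes_closedPoint s).map e.continuous).mem_open W.2 hm
  obtain ⟨a₀, ha₀⟩ := Spec.map_surjective (W.toScheme.isoSpec.inv ≫ W.ι ≫ G.hom)
  let l := IsOpenImmersion.lift W.ι e (by rw [Scheme.Opens.range_ι]; rintro _ ⟨s, rfl⟩; exact hmem s)
  obtain ⟨u₀, hu₀⟩ := Spec.map_surjective (l ≫ W.toScheme.isoSpec.hom)
  let R : Type u := Γ(W.toScheme, ⊤)
  letI : Algebra A R := a₀.hom.toAlgebra
  have hua : a₀ ≫ u₀ = 𝟙 (CommRingCat.of A) := Spec.map_injective (by
    rw [Spec.map_comp, hu₀, ha₀, Category.assoc, Iso.hom_inv_id_assoc, ← Category.assoc, IsOpenImmersion.lift_fac,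
      Spec.map_id]
    exact Over.w η[G])
  let u : R →ₐ[A] A := { u₀.hom with commutes' := fun a => congrArg (fun z => z.hom a) hua }
  haveI : Algebra.Smooth A R := by
    have h1 : Smooth (Spec.map a₀) := by rw [ha₀]; infer_instance
    exact (HasRingHomProperty.Spec_iff (P := @Smooth)).1 h1
  obtain ⟨d, x, D, hx, hmul, hDx, hrep⟩ := exists_cotangent_coords u
  exact ⟨{
    W := W, affine := inferInstance, mem := hmem, d := d, alg := a₀.hom, unit := u₀.hom
    unit_alg := fun a => congrArg (fun z => z.hom a) hua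
    spec_alg := ha₀
    spec_unit := by
      show Spec.map u₀ ≫ _ = _
      rw [hu₀, Category.assoc, Iso.hom_inv_id_assoc, IsOpenImmersion.lift_fac]
    x := x, D := D.toAddMonoidHom, unit_x := hx, D_mul := hmul, D_x := hDx
    D_alg := fun a => by
      have h1 : D (algebraMap A R 1) = 0 := by
        have := hmul 1 1
        simp only [map_one, _root_.one_mul, one_smul] at this
        rw [map_one]
        exact left_eq_add.1 this
      show D (algebraMap A R a) = 0
      rw [Algebra.algebraMap_eq_smul_one, map_smul, ← map_one (algebraMap A R), h1, smul_zero]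
    D_rep := fun b => by
      have h := hrep b
      simp only [Algebra.smul_def] at h
      exact h }⟩

variable {A : Type u} [CommRing A] {G : Over (Spec (CommRingCat.of A))} [GrpObj G] (C : Chart G)

/-- points near the unit are given by ring maps out of the chart -/
theorem exists_psi {T : Type u} [CommRing T] (a : Spec (CommRingCat.of T) ⟶ G.left)
    (ha : ∀ p, a p ∈ C.W) : ∃ ψ : Γ(C.W.toScheme, ⊤) →+* T,
      Spec.map (CommRingCat.ofHom ψ) ≫ C.W.toScheme.isoSpec.inv ≫ C.W.ι = a := by
  haveI := C.affine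
  let l := IsOpenImmersion.lift C.W.ι a (by rw [Scheme.Opens.range_ι]; rintro _ ⟨s, rfl⟩; exact ha s)
  obtain ⟨ψ, hψ⟩ := Spec.map_surjective (l ≫ C.W.toScheme.isoSpec.hom)
  refine ⟨ψ.hom, ?_⟩
  show Spec.map ψ ≫ _ = _
  rw [hψ, Category.assoc, Iso.hom_inv_id_assoc, IsOpenImmersion.lift_fac]

theorem psi_inj {T : Type u} [CommRing T] {ψ ψ' : Γ(C.W.toScheme, ⊤) →+* T}
    (h : Spec.map (CommRingCat.ofHom ψ) ≫ C.W.toScheme.isoSpec.inv ≫ C.W.ι =
      Spec.map (CommRingCat.ofHom ψ') ≫ C.W.toScheme.isoSpec.inv ≫ C.W.ι) : ψ = ψ' := by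
  haveI := C.affine
  rw [← Category.assoc, ← Category.assoc, cancel_mono, cancel_mono] at h
  exact congrArg CommRingCat.Hom.hom (Spec.map_injective h)

section Points

variable {B : Type u} [CommRing B] {f : Spec (CommRingCat.of B) ⟶ Spec (CommRingCat.of A)}

/-- the ring map of the base point -/
def bse (f : Spec (CommRingCat.of B) ⟶ Spec (CommRingCat.of A)) : A →+* B := (Spec.preimage f).hom

theorem spec_bse : Spec.map (CommRingCat.ofHom (bse f)) = f := Spec.map_preimage f

variable (v : Lie G B f)

theorem apply_mem (p : ↥(Spec (CommRingCat.of (DualNumber B)))) : v.1.left p ∈ C.W := by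
  have hs : Function.Surjective (Spec.map (CommRingCat.ofHom (TrivSqZeroExt.fstHom B B B).toRingHom)) := by
    intro q
    have h := range_comap_of_surjective B (TrivSqZeroExt.fstHom B B B).toRingHom
      (fun b => ⟨algebraMap B (DualNumber B) b, by simp⟩)
    have hq : q ∈ PrimeSpectrum.zeroLocus (RingHom.ker (TrivSqZeroExt.fstHom B B B).toRingHom : Set (DualNumber B)) := by
      intro z hz
      have hz2 : z * z = 0 := by
        have hz' : z.fst = 0 := hz
        exact TrivSqZeroExt.ext (by simp [hz']) (by simp [hz'])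
      exact (or_self_iff).1 (q.isPrime.mem_or_mem (by rw [hz2]; exact zero_mem _))
    rw [← h] at hq
    exact hq
  obtain ⟨q, rfl⟩ := hs p
  have h2 : zeroSec B f ≫ v.1 = 1 := v.2
  have h3 : ((1 : pt B f ⟶ G)).left = f ≫ η[G].left := by
    show (toUnit (pt B f)).left ≫ η[G].left = _
    congr 1
  have h4 : ((zeroSec B f).left ≫ v.1.left) q = η[G].left (f q) := by
    rw [← Over.comp_left, h2, h3, Scheme.Hom.comp_apply]; rfl
  rw [Scheme.Hom.comp_apply] at h4
  exact (show v.1.left _ = η[G].left (f q) from h4) ▸ C.mem (f q)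

/-- the ring map of an element of the Lie algebra -/
def psi : Γ(C.W.toScheme, ⊤) →+* DualNumber B := (exists_psi C v.1.left (apply_mem C v)).choose

theorem psi_spec : Spec.map (CommRingCat.ofHom (psi C v)) ≫ C.W.toScheme.isoSpec.inv ≫ C.W.ι = v.1.left :=
  (exists_psi C v.1.left (apply_mem C v)).choose_spec

theorem fst_psi (r : Γ(C.W.toScheme, ⊤)) : (psi C v r).fst = bse f (C.unit r) := by
  have h : (TrivSqZeroExt.fstHom B B B).toRingHom.comp (psi C v) = (bse f).comp C.unit := by
    refine psi_inj C ?_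
    rw [CommRingCat.ofHom_comp, CommRingCat.ofHom_comp, Spec.map_comp, Spec.map_comp, Category.assoc, psi_spec,
      Category.assoc, C.spec_unit, spec_bse]
    have h2 : zeroSec B f ≫ v.1 = 1 := v.2
    refine (congrArg (fun z => z.left) h2).trans ?_
    show (toUnit (pt B f)).left ≫ η[G].left = _
    congr 1
  exact RingHom.congr_fun h r

theorem psi_alg (a : A) : psi C v (C.alg a) = algebraMap B (DualNumber B) (bse f a) := by
  have h : (psi C v).comp C.alg = (algebraMap B (DualNumber B)).comp (bse f) := by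
    refine (congrArg CommRingCat.Hom.hom (Spec.map_injective (a₁ := CommRingCat.ofHom ((psi C v).comp C.alg))
      (a₂ := CommRingCat.ofHom ((algebraMap B (DualNumber B)).comp (bse f))) ?_) :)
    rw [CommRingCat.ofHom_comp, CommRingCat.ofHom_comp, Spec.map_comp, Spec.map_comp, C.spec_alg,
      reassoc_of% (psi_spec C v), spec_bse]
    exact Over.w v.1
  exact RingHom.congr_fun h a

/-- coordinates -/
def cd (i : Fin C.d) : B := (psi C v (C.x i)).snd

theorem snd_eq_zero_of_sq {r : Γ(C.W.toScheme, ⊤)} (hr : r ∈ RingHom.ker C.unit ^ 2) : (psi C v r).snd = 0 := by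
  rw [pow_two] at hr
  refine Submodule.mul_induction_on hr (fun a ha b hb => ?_) fun a b ha hb => by
    rw [map_add, TrivSqZeroExt.snd_add, ha, hb, add_zero]
  rw [map_mul, DualNumber.snd_mul, fst_psi, fst_psi, RingHom.mem_ker.1 ha, RingHom.mem_ker.1 hb, map_zero, zero_mul,
    mul_zero, add_zero]

theorem snd_psi (r : Γ(C.W.toScheme, ⊤)) : (psi C v r).snd = ∑ i, bse f (C.D r i) * cd C v i := by
  have h := snd_eq_zero_of_sq C v (C.D_rep r)
  rw [map_sub, map_sub, TrivSqZeroExt.snd_sub, TrivSqZeroExt.snd_sub, map_sum, psi_alg,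
    TrivSqZeroExt.algebraMap_eq_inl', TrivSqZeroExt.snd_inl, sub_zero, TrivSqZeroExt.snd_sum, sub_eq_zero] at h
  rw [h]
  refine Finset.sum_congr rfl fun i _ => ?_
  rw [map_mul, DualNumber.snd_mul, psi_alg]
  simp [TrivSqZeroExt.algebraMap_eq_inl', cd]

theorem cd_injective : Function.Injective (fun v : Lie G B f => cd C v) := by
  intro v w h
  refine Subtype.ext (Over.OverMorphism.ext ?_)
  rw [← psi_spec C v, ← psi_spec C w]
  congr 2
  refine congrArg CommRingCat.ofHom (RingHom.ext fun r => TrivSqZeroExt.ext ?_ ?_)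
  · rw [fst_psi, fst_psi]
  · rw [snd_psi, snd_psi]
    exact Finset.sum_congr rfl fun i _ => by rw [show cd C v i = cd C w i from congrFun h i]

theorem cd_surjective : Function.Surjective (fun v : Lie G B f => cd C v) := by
  intro c
  haveI := C.affine
  let l : Γ(C.W.toScheme, ⊤) → B := fun r => ∑ i, bse f (C.D r i) * c i
  let ψ : Γ(C.W.toScheme, ⊤) →+* DualNumber B :=
    { toFun := fun r => TrivSqZeroExt.inl (bse f (C.unit r)) + TrivSqZeroExt.inr (l r)
      map_one' := by
        have h1 : C.D 1 = 0 := by rw [← map_one C.alg, C.D_alg]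
        refine TrivSqZeroExt.ext (by simp) ?_
        simp [l, h1]
      map_mul' := fun s t => by
        refine TrivSqZeroExt.ext (by simp) ?_
        rw [DualNumber.snd_mul]
        simp only [TrivSqZeroExt.fst_add, TrivSqZeroExt.fst_inl, TrivSqZeroExt.fst_inr, add_zero,
          TrivSqZeroExt.snd_add, TrivSqZeroExt.snd_inl, TrivSqZeroExt.snd_inr, zero_add, l, C.D_mul, Pi.add_apply,
          Pi.smul_apply, smul_eq_mul, map_add, map_mul, Finset.mul_sum, Finset.sum_mul, ← Finset.sum_add_distrib]
        exact Finset.sum_congr rfl fun i _ => by ring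
      map_zero' := TrivSqZeroExt.ext (by simp) (by simp [l])
      map_add' := fun s t => by
        refine TrivSqZeroExt.ext (by simp) ?_
        simp [l, add_mul, Finset.sum_add_distrib] }
  let a : dpt B f ⟶ G := Over.homMk (Spec.map (CommRingCat.ofHom ψ) ≫ C.W.toScheme.isoSpec.inv ≫ C.W.ι) (by
    show (_ ≫ _ ≫ _) ≫ G.hom = Spec.map _ ≫ f
    rw [Category.assoc, Category.assoc, ← C.spec_alg, ← spec_bse (f := f), ← Spec.map_comp, ← Spec.map_comp]
    congr 1
    refine CommRingCat.hom_ext (RingHom.ext fun a => TrivSqZeroExt.ext ?_ ?_)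
    · simp [ψ, C.unit_alg, TrivSqZeroExt.algebraMap_eq_inl']
    · simp [ψ, l, C.D_alg, TrivSqZeroExt.algebraMap_eq_inl'])
  have hmem : a ∈ Lie G B f := by
    rw [mem_Lie_iff]
    refine Over.OverMorphism.ext ?_
    show Spec.map _ ≫ Spec.map (CommRingCat.ofHom ψ) ≫ C.W.toScheme.isoSpec.inv ≫ C.W.ι = (toUnit (pt B f)).left ≫ η[G].left
    rw [← Spec.map_comp_assoc, show (toUnit (pt B f)).left = f from
      (Category.comp_id _).symm.trans (Over.w (toUnit (pt B f))), ← C.spec_unit, ← spec_bse (f := f),
      ← Spec.map_comp_assoc]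
    congr 2
    exact CommRingCat.hom_ext (RingHom.ext fun r => by simp [ψ])
  refine ⟨⟨a, hmem⟩, funext fun j => ?_⟩
  have hψ : psi C (⟨a, hmem⟩ : Lie G B f) = ψ := psi_inj C (psi_spec C _)
  show (psi C _ (C.x j)).snd = c j
  rw [hψ]
  simp [ψ, l, C.D_x, Pi.single_apply]

theorem cd_smul (b : B) : cd C (b • v) = b • cd C v := by
  have h : psi C (b • v) = (scaleHom b).comp (psi C v) := psi_inj C (by
    rw [psi_spec, CommRingCat.ofHom_comp, Spec.map_comp, Category.assoc, psi_spec]
    rfl)
  funext i
  show (psi C (b • v) (C.x i)).snd = b • (psi C v (C.x i)).snd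
  rw [h]
  simp [scaleHom, TrivSqZeroExt.algebraMap_eq_inl', mul_comm]

theorem cd_mul (w : Lie G B f) : cd C (v * w) = cd C v + cd C w := by
  let z : wpt B f ⟶ G := qq f 1 0 ≫ v.1 * qq f 0 1 ≫ w.1
  obtain ⟨h1, h2⟩ := pair_restrict v.2 w.2
  have h3 : axS B f ≫ z = (v * w).1 := by
    simp only [z, MonObj.comp_mul, ← Category.assoc, axS_qq, add_zero, zero_add, scale_one, Category.id_comp]
    rfl
  have hmem : ∀ p, z.left p ∈ C.W := by
    intro p
    have hs : Function.Surjective (Spec.map (CommRingCat.ofHom (p1 B))) → z.left p ∈ C.W := by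
      intro hs
      obtain ⟨q, rfl⟩ := hs p
      have e := congrArg (fun t => t.left q) h1
      rw [show ((ax1 B f ≫ z).left q) = z.left (Spec.map (CommRingCat.ofHom (p1 B)) q) from
        (Scheme.Hom.comp_apply (ax1 B f).left z.left q)] at e
      rw [e]
      exact apply_mem C v q
    refine hs ?_
    intro q
    have h := range_comap_of_surjective (DualNumber B) (p1 B) fun t =>
      ⟨TrivSqZeroExt.inl t.fst + TrivSqZeroExt.inr (t.snd, 0), TrivSqZeroExt.ext (by simp [p1]) (by simp [p1])⟩
    have hq : q ∈ PrimeSpectrum.zeroLocus (RingHom.ker (p1 B) : Set (Groth.L06.Lie.W B)) := by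
      intro t ht
      have ht1 : t.fst = 0 := by
        have := congrArg TrivSqZeroExt.fst (show p1 B t = 0 from ht)
        simpa [p1] using this
      have ht2 : t * t = 0 := TrivSqZeroExt.ext (by simp [ht1]) (by simp [ht1])
      exact (or_self_iff).1 (q.isPrime.mem_or_mem (by rw [ht2]; exact zero_mem _))
    rw [← h] at hq
    exact hq
  obtain ⟨ψ, hψ⟩ := exists_psi C z.left hmem
  have ev : psi C v = (p1 B).comp ψ := psi_inj C (by
    rw [psi_spec, CommRingCat.ofHom_comp, Spec.map_comp, Category.assoc, hψ]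
    exact (congrArg (fun t => t.left) h1).symm)
  have ew : psi C w = (p2 B).comp ψ := psi_inj C (by
    rw [psi_spec, CommRingCat.ofHom_comp, Spec.map_comp, Category.assoc, hψ]
    exact (congrArg (fun t => t.left) h2).symm)
  have es : psi C (v * w) = (pS B).comp ψ := psi_inj C (by
    rw [psi_spec, CommRingCat.ofHom_comp, Spec.map_comp, Category.assoc, hψ]
    exact (congrArg (fun t => t.left) h3).symm)
  funext i
  show (psi C (v * w) (C.x i)).snd = (psi C v (C.x i)).snd + (psi C w (C.x i)).snd
  rw [ev, ew, es]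
  simp [p1, p2, pS]

theorem cd_pull {B' : Type u} [CommRing B'] (h : B →+* B') :
    cd C (pull G f h v) = fun i => h (cd C v i) := by
  have e : psi C (pull G f h v) = (LieS.bcHom h).comp (psi C v) := psi_inj C (by
    rw [psi_spec, CommRingCat.ofHom_comp, Spec.map_comp, Category.assoc, psi_spec]
    rfl)
  funext i
  show (psi C (pull G f h v) (C.x i)).snd = h (psi C v (C.x i)).snd
  rw [e]
  simp [LieS.bcHom, TrivSqZeroExt.algebraMap_eq_inl']

end Points

end Groth.L25.AffRed
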