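import Groth.Agent.L25.AffRed.Core
import Groth.Agent.L08.MonoRed.Immersion
import Groth.Agent.L08.AffVal.Global
import Groth.Agent.L25.Extension.ConnBC
import Groth.Agent.L25.RedOpen.Apply

/-!
# Lifting valuation rings along quasi-finite homomorphisms out of groups with reductive fibres
-/

set_option autoImplicit false
set_option linter.unusedSectionVars false
set_option linter.style.haveILetI false
set_option backward.isDefEq.respectTransparency.types false
set_option maxHeartbeats 1000000
set_option linter.deprecated false

universe u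

open CategoryTheory CategoryTheory.Limits MonoidalCategory CartesianMonoidalCategory MonObj GrpObj AlgebraicGeometry
open Groth.L08.MonoRed (baseMap closedMap bcPt bcPt_left upPt upPt₂ upPt₂_map upPt_left upPt₂_left)
open Groth.L25.SplitSub (bcDS bcHom)
open IsLocalRing (closedPoint)

noncomputable section

namespace Groth.L25.AffRed

/-- connected fibres with a section are geometrically irreducible -/
theorem irrFib_of_connected {S : Scheme.{u}} {G : Over S} [GrpObj G] [Smooth G.hom]
    (hconn : ∀ s : S, _root_.IsConnected (G.hom.base ⁻¹' {s})) : Groth.L02.SchDom.IrrFib G.hom := by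
  refine Groth.L02.SchDom.IrrFib.of_connected G.hom fun s => ?_
  have h := Groth.L25.Extension.isConnected_fibre_bc (Red.geomPt s) G hconn
    (closedPoint (AlgebraicClosure (S.residueField s)))
  have e : (Red.bc (Red.geomPt s) G).hom.base ⁻¹' {closedPoint (AlgebraicClosure (S.residueField s))} = Set.univ :=
    Set.eq_univ_of_forall fun _ => Subsingleton.elim (α := PrimeSpectrum (AlgebraicClosure (S.residueField s))) _ _
  exact connectedSpace_iff_univ.2 (e ▸ h)

variable {V : Type u} [CommRing V] [IsDomain V] [ValuationRing V] {K : Type u} [Field K] [IsAlgClosed K]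
  [Algebra V K] [IsFractionRing V K] {G H : Over (Spec (CommRingCat.of V))} [GrpObj G] [GrpObj H]
  [IsAffineHom H.hom] [LocallyOfFinitePresentation H.hom]

/-- **lifting integral points along a quasi-finite homomorphism of a reductive group** -/
theorem exists_lift_reductive (hG : Red.IsReductive G) (u : G ⟶ H) [IsMonHom u]
    [LocallyQuasiFinite ((Over.pullback (closedMap V)).map u).left] (g : Spec (CommRingCat.of K) ⟶ G.left)
    (hgb : g ≫ G.hom = baseMap V K) (h : Spec (CommRingCat.of V) ⟶ H.left) (hh : h ≫ H.hom = 𝟙 _)
    (hgh : g ≫ u.left = baseMap V K ≫ h) :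
    ∃ γ : Spec (CommRingCat.of V) ⟶ G.left, γ ≫ G.hom = 𝟙 _ ∧ baseMap V K ≫ γ = g := by
  haveI := hG.1; haveI := hG.2.1
  haveI : HenselianLocalRing V := Groth.L27.NormalSepClosed.henselianLocalRing (R := V) K
  haveI : IsAlgClosed (IsLocalRing.ResidueField V) := Groth.L08.MonoRed.isAlgClosed_residue (V := V) (K := K)
  let b : Spec (CommRingCat.of V) ⟶ Spec (CommRingCat.of V) := 𝟙 _
  obtain ⟨r, i, hi⟩ := Groth.L08.MonoRed.exists_split_torus hG b
  haveI := hi.1; haveI := hi.2.1
  haveI : Smooth (Red.bc b G).hom := inferInstanceAs (Smooth (pullback.snd G.hom b))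
  haveI : IsAffineHom (Red.bc b G).hom := MorphismProperty.pullback_snd (P := @IsAffineHom) G.hom b inferInstance
  haveI : QuasiCompact (Red.bc b G).hom := inferInstance
  haveI : IsAffineHom (Red.bc b H).hom := MorphismProperty.pullback_snd (P := @IsAffineHom) H.hom b inferInstance
  haveI : LocallyOfFinitePresentation (Red.bc b H).hom :=
    inferInstanceAs (LocallyOfFinitePresentation (pullback.snd H.hom b))
  haveI : IsMonHom ((Over.pullback b).map u) := Groth.L25.MonoClosed.isMonHom_pullbackMap _ _
  have hred : ∀ {L : Type u} [Field L] [IsAlgClosed L] (c : Spec (CommRingCat.of L) ⟶ Spec (CommRingCat.of V)),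
      Red.IsReductiveOver L (Red.bc c (Red.bc b G)) := fun c =>
    (Groth.L25.RedOpen.reductive_bcComp_iff b c rfl).2 (Groth.L08.MonoRed.isReductiveOver_geom hG (c ≫ b))
  haveI : LocallyQuasiFinite ((Over.pullback (closedMap V)).map ((Over.pullback b).map u)).left := by
    have e : Arrow.mk ((Over.pullback (closedMap V)).map ((Over.pullback b).map u)).left ≅
        Arrow.mk ((Over.pullback (closedMap V)).map u).left := by
      let eN : Over.pullback b ⋙ Over.pullback (closedMap V) ≅ Over.pullback (closedMap V) :=
        Functor.isoWhiskerRight Over.pullbackId _ ≪≫ Functor.leftUnitor _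
      exact Arrow.isoMk ((Over.forget _).mapIso (eN.app G)) ((Over.forget _).mapIso (eN.app H))
        (congrArg (fun z => z.left) (eN.hom.naturality u)).symm
    exact (MorphismProperty.arrow_mk_iso_iff (@LocallyQuasiFinite) e).2 inferInstance
  obtain ⟨γ, hγ⟩ := exists_integral_point i (hred _) (hred _)
    (Groth.L08.MonoRed.isMaxTorus_bcHom i hi _) (Groth.L08.MonoRed.isMaxTorus_bcHom i hi _)
    ((Over.pullback b).map u) _ _
    (upPt₂_map b (baseMap V K) u g (hgb.trans (Category.comp_id _).symm) h hh hgh)
  refine ⟨γ.left ≫ pullback.fst G.hom b, ?_, ?_⟩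
  · rw [Category.assoc, pullback.condition]
    show γ.left ≫ (Red.bc b G).hom ≫ 𝟙 _ = 𝟙 _
    rw [Category.comp_id]
    exact Over.w γ
  · have h1 := congrArg (fun z => z.left ≫ pullback.fst (Red.bc b G).hom (baseMap V K) ≫ pullback.fst G.hom b) hγ
    beta_reduce at h1
    rw [← Category.assoc (bcPt (baseMap V K) γ).left, bcPt_left, Category.assoc,
      upPt₂_left b (baseMap V K) g (hgb.trans (Category.comp_id _).symm)] at h1
    exact h1

end Groth.L25.AffRed
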