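import Groth.Agent.L25.AffRed.Nhd
import Groth.Agent.L25.AffRed.DescField
import Groth.Agent.L25.LimGrp
import Groth.Agent.L05.ModelFG
import Groth.Agent.L08.Borel.NeutralConn
import Groth.Agent.L08.Borel.FlatNhd
import Groth.Agent.L14.Splitting.Fibre
import Mathlib.RingTheory.Spectrum.Prime.Topology

/-!
# Reductive neighbourhoods over arbitrary bases

The points of a Noetherian base with affine fibre contain, with each point, a locally closed neighbourhood of it in
its closure; hence, if all fibres over the limit are affine, all fibres at some finite stage are.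
-/

set_option autoImplicit false
set_option linter.unusedSectionVars false
set_option linter.style.haveILetI false
set_option backward.isDefEq.respectTransparency.types false
set_option maxHeartbeats 1000000

universe u

open CategoryTheory CategoryTheory.Limits MonoidalCategory CartesianMonoidalCategory MonObj GrpObj AlgebraicGeometry Opposite
open IsLocalRing (closedPoint)

attribute [-instance] CategoryTheory.Hom.commGroup
noncomputable section

namespace Groth.L25.AffRed

/-! ### Stages -/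

theorem exists_stage_mem_map {A : Type u} [CommRing A] (A₀ : Subalgebra ℤ A) (hA₀ : A₀.FG) (p : Ideal A₀) {x : A}
    (hx : x ∈ p.map (algebraMap A₀ A)) :
    ∃ (A₁ : Subalgebra ℤ A) (hle : A₀ ≤ A₁) (h : x ∈ A₁), A₁.FG ∧
      (⟨x, h⟩ : A₁) ∈ p.map (Subalgebra.inclusion hle).toRingHom := by
  have mono : ∀ {A₁ A₂ : Subalgebra ℤ A} (h₁ : A₀ ≤ A₁) (h₂ : A₁ ≤ A₂) {y : A₁},
      y ∈ p.map (Subalgebra.inclusion h₁).toRingHom →
        (Subalgebra.inclusion h₂ y : A₂) ∈ p.map (Subalgebra.inclusion (h₁.trans h₂)).toRingHom := by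
    intro A₁ A₂ h₁ h₂ y hy
    have h := Ideal.mem_map_of_mem (Subalgebra.inclusion h₂).toRingHom hy
    rw [Ideal.map_map] at h
    exact h
  induction hx using Submodule.span_induction with
  | mem x hx =>
    obtain ⟨y, hy, rfl⟩ := hx
    exact ⟨A₀, le_rfl, y.2, hA₀, Ideal.mem_map_of_mem (Subalgebra.inclusion (le_refl A₀)).toRingHom hy⟩
  | zero => exact ⟨A₀, le_rfl, zero_mem _, hA₀, zero_mem _⟩
  | add x y _ _ hx hy =>
    obtain ⟨A₁, h₁, hx₁, hfg₁, hmem₁⟩ := hx
    obtain ⟨A₂, h₂, hy₂, hfg₂, hmem₂⟩ := hy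
    refine ⟨A₁ ⊔ A₂, h₁.trans le_sup_left,
      add_mem ((le_sup_left : A₁ ≤ A₁ ⊔ A₂) hx₁) ((le_sup_right : A₂ ≤ A₁ ⊔ A₂) hy₂), hfg₁.sup hfg₂, ?_⟩
    exact Ideal.add_mem _ (mono h₁ le_sup_left hmem₁) (mono h₂ le_sup_right hmem₂)
  | smul c x _ hx =>
    obtain ⟨A₁, h₁, hx₁, hfg₁, hmem₁⟩ := hx
    have hc : c ∈ A₁ ⊔ Algebra.adjoin ℤ {c} :=
      (le_sup_right : Algebra.adjoin ℤ {c} ≤ A₁ ⊔ Algebra.adjoin ℤ {c}) (Algebra.subset_adjoin rfl)
    refine ⟨A₁ ⊔ Algebra.adjoin ℤ {c}, h₁.trans le_sup_left, mul_mem hc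
      ((le_sup_left : A₁ ≤ A₁ ⊔ Algebra.adjoin ℤ {c}) hx₁),
      hfg₁.sup (by simpa using Subalgebra.fg_adjoin_finset (R := ℤ) {c}), ?_⟩
    exact Ideal.mul_mem_left _ (⟨c, hc⟩ : ↥(A₁ ⊔ Algebra.adjoin ℤ {c})) (mono h₁ le_sup_left hmem₁)

/-- **a property of primes holding over the limit and open on closures holds at a stage** -/
theorem exists_good_stage {A : Type u} [CommRing A] (A₀ : Subalgebra ℤ A) (hA₀ : A₀.FG)
    (P : PrimeSpectrum A₀ → Prop)
    (h1 : ∀ p, P p → ∃ g ∉ p.asIdeal, ∀ q : PrimeSpectrum A₀, p.asIdeal ≤ q.asIdeal → g ∉ q.asIdeal → P q)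
    (h2 : ∀ Q : PrimeSpectrum A, P (PrimeSpectrum.comap (algebraMap A₀ A) Q)) :
    ∃ (A₁ : Subalgebra ℤ A) (hle : A₀ ≤ A₁), A₁.FG ∧
      ∀ q : PrimeSpectrum A₁, P (PrimeSpectrum.comap (Subalgebra.inclusion hle).toRingHom q) := by
  haveI : Algebra.FiniteType ℤ A₀ := ⟨(Subalgebra.fg_top A₀).2 hA₀⟩
  haveI : IsNoetherianRing A₀ := Algebra.FiniteType.isNoetherianRing ℤ A₀
  suffices ∀ I : Ideal A₀, ∃ (A₁ : Subalgebra ℤ A) (hle : A₀ ≤ A₁), A₁.FG ∧ ∀ q : PrimeSpectrum A₁,
      I ≤ (PrimeSpectrum.comap (Subalgebra.inclusion hle).toRingHom q).asIdeal →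
        P (PrimeSpectrum.comap (Subalgebra.inclusion hle).toRingHom q) by
    obtain ⟨A₁, hle, hfg, h⟩ := this ⊥
    exact ⟨A₁, hle, hfg, fun q => h q bot_le⟩
  intro I
  induction I using WellFoundedGT.induction with
  | _ I ih =>
    rcases eq_or_ne I ⊤ with rfl | hne
    · exact ⟨A₀, le_rfl, hA₀, fun q h => absurd (top_le_iff.1 h) (PrimeSpectrum.comap _ q).2.ne_top⟩
    by_cases hI : I.IsPrime
    · let p : PrimeSpectrum A₀ := ⟨I, hI⟩
      by_cases hp : P p
      · obtain ⟨g, hg, hP⟩ := h1 p hp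
        obtain ⟨A₁, hle, hfg, h⟩ := ih (I ⊔ Ideal.span {g}) (left_lt_sup.2 fun h =>
          hg (h (Ideal.mem_span_singleton_self g)))
        refine ⟨A₁, hle, hfg, fun q hq => ?_⟩
        by_cases hgq : g ∈ (PrimeSpectrum.comap (Subalgebra.inclusion hle).toRingHom q).asIdeal
        · exact h q (sup_le hq ((Ideal.span_singleton_le_iff_mem _).2 hgq))
        · exact hP _ hq hgq
      · obtain ⟨g, hgm, hg⟩ : ∃ g, g ∈ (I.map (algebraMap A₀ A)).comap (algebraMap A₀ A) ∧ g ∉ I := by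
          by_contra hall
          simp only [not_exists, not_and, not_not] at hall
          obtain ⟨Q, hQ, hQI⟩ := (Ideal.comap_map_eq_self_iff_of_isPrime I).1
            (le_antisymm hall Ideal.le_comap_map)
          exact hp ((PrimeSpectrum.ext hQI : PrimeSpectrum.comap (algebraMap A₀ A) ⟨Q, hQ⟩ = p) ▸ h2 ⟨Q, hQ⟩)
        obtain ⟨A₁, hle₁, h, hfg₁, hmem⟩ := exists_stage_mem_map A₀ hA₀ I (x := algebraMap A₀ A g) hgm
        obtain ⟨A₂, hle₂, hfg₂, h₂⟩ := ih (I ⊔ Ideal.span {g}) (left_lt_sup.2 fun h =>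
          hg (h (Ideal.mem_span_singleton_self g)))
        refine ⟨A₁ ⊔ A₂, hle₁.trans le_sup_left, hfg₁.sup hfg₂, fun q hq => ?_⟩
        let q₁ : PrimeSpectrum A₁ := PrimeSpectrum.comap (Subalgebra.inclusion (le_sup_left : A₁ ≤ A₁ ⊔ A₂)).toRingHom q
        let q₂ : PrimeSpectrum A₂ := PrimeSpectrum.comap (Subalgebra.inclusion (le_sup_right : A₂ ≤ A₁ ⊔ A₂)).toRingHom q
        have hg₁ : g ∈ (PrimeSpectrum.comap (Subalgebra.inclusion hle₁).toRingHom q₁).asIdeal := by
          have h3 : I.map (Subalgebra.inclusion hle₁).toRingHom ≤ q₁.asIdeal := Ideal.map_le_iff_le_comap.2 hq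
          exact h3 hmem
        exact h₂ q₂ (sup_le hq ((Ideal.span_singleton_le_iff_mem _).2 hg₁))
    · obtain ⟨a, ha, b, hb, hab⟩ := ((Ideal.not_isPrime_iff).1 hI).resolve_left hne
      obtain ⟨A₁, hle₁, hfg₁, h₁⟩ := ih (I ⊔ Ideal.span {a}) (left_lt_sup.2 fun h =>
        ha (h (Ideal.mem_span_singleton_self a)))
      obtain ⟨A₂, hle₂, hfg₂, h₂⟩ := ih (I ⊔ Ideal.span {b}) (left_lt_sup.2 fun h =>
        hb (h (Ideal.mem_span_singleton_self b)))
      refine ⟨A₁ ⊔ A₂, hle₁.trans le_sup_left, hfg₁.sup hfg₂, fun q hq => ?_⟩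
      rcases (PrimeSpectrum.comap (Subalgebra.inclusion (hle₁.trans le_sup_left)).toRingHom q).2.mem_or_mem (hq hab) with h | h
      · exact h₁ (PrimeSpectrum.comap (Subalgebra.inclusion (le_sup_left : A₁ ≤ A₁ ⊔ A₂)).toRingHom q)
          (sup_le hq ((Ideal.span_singleton_le_iff_mem _).2 h))
      · exact h₂ (PrimeSpectrum.comap (Subalgebra.inclusion (le_sup_right : A₂ ≤ A₁ ⊔ A₂)).toRingHom q)
          (sup_le hq ((Ideal.span_singleton_le_iff_mem _).2 h))

/-! ### Affine fibres -/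

/-- affineness of a fibre passes to field points over it -/
theorem isAffine_pullback_at {S X : Scheme.{u}} (f : X ⟶ S) {F : Type u} [Field F] (b : Spec (CommRingCat.of F) ⟶ S)
    {s : S} (hb : b (closedPoint F) = s) (h : IsAffine (pullback f (S.fromSpecResidueField s))) :
    IsAffine (pullback f b) := by
  obtain ⟨e, he⟩ := exists_residue_factor b hb
  haveI := h
  haveI : IsAffine (pullback (pullback.snd f (S.fromSpecResidueField s)) e) := inferInstance
  exact IsAffine.of_isIso (pullbackLeftPullbackSndIso f (S.fromSpecResidueField s) e ≪≫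
    pullback.congrHom rfl he).inv

/-- affineness of a fibre descends from field points over it -/
theorem isAffine_fibre_of_point {S X : Scheme.{u}} (f : X ⟶ S) [QuasiCompact f] [QuasiSeparated f] {F : Type u}
    [Field F] (b : Spec (CommRingCat.of F) ⟶ S) {s : S} (hb : b (closedPoint F) = s) (h : IsAffine (pullback f b)) :
    IsAffine (pullback f (S.fromSpecResidueField s)) := by
  obtain ⟨e, he⟩ := exists_residue_factor b hb
  let g := pullback.snd f (S.fromSpecResidueField s)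
  haveI : CompactSpace ↥(pullback f (S.fromSpecResidueField s)) := QuasiCompact.compactSpace_of_compactSpace g
  haveI : QuasiSeparatedSpace ↥(pullback f (S.fromSpecResidueField s)) := quasiSeparatedSpace_of_quasiSeparated g
  refine Groth.L22.IntImage.isAffine_of_pointwise g fun z => ⟨_, e, inferInstance, ?_, ?_, ?_⟩
  · obtain ⟨φ, rfl⟩ := Spec.map_surjective e
    letI := φ.hom.toAlgebra
    exact (HasRingHomProperty.Spec_iff (P := @Flat)).2 (RingHom.flat_algebraMap_iff.2
      (inferInstance : Module.Flat (S.residueField s) F))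
  · exact ⟨closedPoint F, Subsingleton.elim _ _⟩
  · haveI := h
    exact IsAffine.of_isIso (pullbackLeftPullbackSndIso f (S.fromSpecResidueField s) e ≪≫
      pullback.congrHom rfl he).hom

/-- the affine fibres over a closure contain a neighbourhood of the generic one -/
theorem exists_affine_piece {R : Type u} [CommRing R] {G : Over (Spec (CommRingCat.of R))} [GrpObj G] [Smooth G.hom]
    [QuasiCompact G.hom] [IsSeparated G.hom] (p : PrimeSpectrum R)
    (hp : IsAffine (pullback G.hom ((Spec (CommRingCat.of R)).fromSpecResidueField p))) :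
    ∃ g ∉ p.asIdeal, ∀ q : PrimeSpectrum R, p.asIdeal ≤ q.asIdeal → g ∉ q.asIdeal →
      IsAffine (pullback G.hom ((Spec (CommRingCat.of R)).fromSpecResidueField q)) := by
  let j : Spec (CommRingCat.of (R ⧸ p.asIdeal)) ⟶ Spec (CommRingCat.of R) :=
    Spec.map (CommRingCat.ofHom (Ideal.Quotient.mk p.asIdeal))
  let Y := Spec (CommRingCat.of (R ⧸ p.asIdeal))
  let GY := Red.bc j G
  haveI : Smooth GY.hom := inferInstanceAs (Smooth (pullback.snd G.hom j))
  haveI : QuasiCompact GY.hom := inferInstanceAs (QuasiCompact (pullback.snd G.hom j))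
  haveI : IsSeparated GY.hom := inferInstanceAs (IsSeparated (pullback.snd G.hom j))
  let η₀ : Y := genericPoint Y
  have hgp : η₀.asIdeal = ⊥ := by
    show (genericPoint Y).asIdeal = ⊥
    rw [genericPoint_eq_bot_of_affine]
    rfl
  have hjη : j η₀ = p := PrimeSpectrum.ext (by
    show η₀.asIdeal.comap _ = p.asIdeal
    rw [hgp]
    exact Ideal.mk_ker)
  have haff : IsAffineHom (Red.bc (Y.fromSpecStalk η₀) GY).hom := by
    let F : Type u := Y.functionField
    haveI : IsAffine (pullback G.hom (Y.fromSpecStalk η₀ ≫ j)) :=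
      isAffine_pullback_at G.hom (F := F) (Y.fromSpecStalk η₀ ≫ j) (by
        rw [Scheme.Hom.comp_apply]
        exact (congrArg j Scheme.fromSpecStalk_closedPoint).trans hjη) hp
    haveI : IsAffine (Red.bc (Y.fromSpecStalk η₀) GY).left :=
      IsAffine.of_isIso (pullbackLeftPullbackSndIso G.hom j (Y.fromSpecStalk η₀)).hom
    exact isAffineHom_of_isAffine _
  obtain ⟨W, hW, hWaff⟩ := exists_affine_nhd_of_stalk η₀ haff
  obtain ⟨_, ⟨g', rfl⟩, hg', hsub⟩ :=
    PrimeSpectrum.isTopologicalBasis_basic_opens.exists_subset_of_mem_open (show η₀ ∈ (W : Set Y) from hW) W.2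
  obtain ⟨g, rfl⟩ := Ideal.Quotient.mk_surjective g'
  have hgp' : g ∉ p.asIdeal := fun h => hg' (by
    show Ideal.Quotient.mk _ g ∈ η₀.asIdeal
    rw [Ideal.Quotient.eq_zero_iff_mem.2 h]
    exact zero_mem _)
  refine ⟨g, hgp', fun q hle hgq => ?_⟩
  obtain ⟨y, hy⟩ : q ∈ Set.range j := by
    have h1 : Set.range j = PrimeSpectrum.zeroLocus (RingHom.ker (Ideal.Quotient.mk p.asIdeal) : Set R) :=
      range_comap_of_surjective _ _ Ideal.Quotient.mk_surjective
    rw [h1, Ideal.mk_ker]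
    exact hle
  have hyW : y ∈ W := hsub (show Ideal.Quotient.mk _ g ∉ y.asIdeal from fun h => hgq (by rw [← hy]; exact h))
  let y' : W.toScheme := ⟨y, hyW⟩
  haveI := hWaff
  haveI : IsAffine (Red.bc (W.toScheme.fromSpecResidueField y') (Red.bc W.ι GY)).left := by
    haveI : IsAffineHom (Red.bc (W.toScheme.fromSpecResidueField y') (Red.bc W.ι GY)).hom :=
      MorphismProperty.pullback_snd (P := @IsAffineHom) (Red.bc W.ι GY).hom _ inferInstance
    exact isAffine_of_isAffineHom (Red.bc (W.toScheme.fromSpecResidueField y') (Red.bc W.ι GY)).hom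
  haveI : IsAffine (pullback (pullback.snd GY.hom W.ι) (W.toScheme.fromSpecResidueField y')) :=
    ‹IsAffine (Red.bc (W.toScheme.fromSpecResidueField y') (Red.bc W.ι GY)).left›
  haveI : IsAffine (pullback (pullback.snd G.hom j) (W.toScheme.fromSpecResidueField y' ≫ W.ι)) :=
    IsAffine.of_isIso (pullbackLeftPullbackSndIso GY.hom W.ι (W.toScheme.fromSpecResidueField y')).inv
  haveI : IsAffine (pullback G.hom ((W.toScheme.fromSpecResidueField y' ≫ W.ι) ≫ j)) :=
    IsAffine.of_isIso (pullbackLeftPullbackSndIso G.hom j (W.toScheme.fromSpecResidueField y' ≫ W.ι)).inv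
  refine isAffine_fibre_of_point G.hom (F := (W.toScheme.residueField y' : Type u))
    ((W.toScheme.fromSpecResidueField y' ≫ W.ι) ≫ j) ?_ inferInstance
  rw [Scheme.Hom.comp_apply, Scheme.Hom.comp_apply, Scheme.fromSpecResidueField_apply]
  exact hy

/-- reductivity of a geometric fibre descends along base change -/
theorem reductive_geomFibre_descend {S P : Scheme.{u}} (π : P ⟶ S) {X : Over S} [GrpObj X] [Smooth X.hom]
    [QuasiCompact X.hom] [QuasiSeparated X.hom] {G : Over P} [GrpObj G]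
    (E : Red.bc π X ≅ G) [IsMonHom E.hom] [IsMonHom E.symm.hom] {s : P}
    (hs : Red.IsReductiveOver (AlgebraicClosure (P.residueField s)) (Red.geomFibre s G)) :
    Red.IsReductiveOver (AlgebraicClosure (S.residueField (π s))) (Red.geomFibre (π s) X) := by
  obtain ⟨θ, hθ⟩ := Groth.L08.Borel.exists_geomPt_map π s
  haveI : IsMonHom ((Over.pullback (Red.geomPt s)).map E.inv) :=
    Groth.L25.MonoClosed.isMonHom_pullbackMap _ E.inv
  let e₁ : Red.geomFibre s G ≅ Red.bc (Red.geomPt s) (Red.bc π X) := (Over.pullback (Red.geomPt s)).mapIso E.symm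
  haveI : IsMonHom e₁.hom := inferInstanceAs (IsMonHom ((Over.pullback (Red.geomPt s)).map E.inv))
  have h1 := Groth.L25.RedOpen.isReductiveOver_of_iso e₁ hs
  have h2 := (Groth.L25.RedOpen.reductive_bcComp_iff π (Red.geomPt s) hθ.symm).1 h1
  haveI : Smooth (Red.geomFibre (π s) X).hom := inferInstanceAs (Smooth (pullback.snd X.hom _))
  haveI : QuasiCompact (Red.geomFibre (π s) X).hom := inferInstanceAs (QuasiCompact (pullback.snd X.hom _))
  haveI : QuasiSeparated (Red.geomFibre (π s) X).hom := inferInstanceAs (QuasiSeparated (pullback.snd X.hom _))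
  exact (isReductiveOver_bc_field_iff θ).1 ((Groth.L25.RedOpen.reductive_bcComp_iff (Red.geomPt (π s)) θ rfl).2 h2)

/-- reductivity over preimages -/
theorem isReductive_preimage {S P : Scheme.{u}} (π : P ⟶ S) {X : Over S} [GrpObj X] {G : Over P} [GrpObj G]
    (E : Red.bc π X ≅ G) [IsMonHom E.hom] (U : S.Opens) (hU : Red.IsReductive (Red.bc U.ι X)) :
    Red.IsReductive (Red.bc (π ⁻¹ᵁ U).ι G) := by
  haveI := hU.1; haveI := hU.2.1
  let ι' := (π ⁻¹ᵁ U).ι
  let r : (π ⁻¹ᵁ U).toScheme ⟶ U.toScheme := π ∣_ U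
  have hr : r ≫ U.ι = ι' ≫ π := morphismRestrict_ι π U
  let e : Red.bc r (Red.bc U.ι X) ≅ Red.bc ι' G :=
    ActBC.bcCompIso r U.ι X (d := ι' ≫ π) hr ≪≫ (ActBC.bcCompIso ι' π X (d := ι' ≫ π) rfl).symm ≪≫
      (Over.pullback ι').mapIso E
  haveI : IsMonHom ((Over.pullback ι').map E.hom) := Groth.L25.MonoClosed.isMonHom_pullbackMap ι' E.hom
  haveI : IsMonHom e.hom := inferInstanceAs (IsMonHom ((ActBC.bcCompIso r U.ι X (d := ι' ≫ π) hr).hom ≫
    (ActBC.bcCompIso ι' π X (d := ι' ≫ π) rfl).inv ≫ (Over.pullback ι').map E.hom))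
  haveI : IsAffineHom (Red.bc r (Red.bc U.ι X)).hom :=
    MorphismProperty.pullback_snd (P := @IsAffineHom) _ r inferInstance
  haveI : Smooth (Red.bc r (Red.bc U.ι X)).hom := inferInstanceAs (Smooth (pullback.snd (Red.bc U.ι X).hom r))
  haveI : IsIso e.inv.left := inferInstanceAs (IsIso ((Over.forget _).map e.inv))
  refine ⟨?_, ?_, fun t => ?_⟩
  · rw [← Over.w e.inv]; infer_instance
  · rw [← Over.w e.inv]; infer_instance
  haveI : IsMonHom ((Over.pullback (Red.geomPt t)).map e.hom) :=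
    Groth.L25.MonoClosed.isMonHom_pullbackMap _ e.hom
  let e₂ : Red.bc (Red.geomPt t) (Red.bc r (Red.bc U.ι X)) ≅ Red.geomFibre t (Red.bc ι' G) :=
    (Over.pullback (Red.geomPt t)).mapIso e
  haveI : IsMonHom e₂.hom := inferInstanceAs (IsMonHom ((Over.pullback (Red.geomPt t)).map e.hom))
  exact Groth.L25.RedOpen.isReductiveOver_of_iso e₂ ((Groth.L25.RedOpen.reductive_bcComp_iff r _ rfl).2
    (Groth.L08.MonoRed.isReductiveOver_geom hU _))

/-! ### The neighbourhood -/

/-- a smooth group with connected fibres over a limit has a model with connected fibres at a stage -/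
theorem exists_connected_model {I : Type u} [SmallCategory I] [IsCofiltered I] {D : I ⥤ Scheme.{u}} (c : Cone D)
    (hc : IsLimit c) [∀ (i i' : I) (f : i ⟶ i'), IsAffineHom (D.map f)] [∀ i, IsAffine (D.obj i)]
    (G : Over c.pt) [GrpObj G] [Smooth G.hom] [QuasiCompact G.hom] [IsSeparated G.hom]
    (hconn : ∀ s : c.pt, _root_.IsConnected (G.hom.base ⁻¹' {s})) :
    ∃ (k : I) (G1 : Over (D.obj k)) (_ : GrpObj G1) (E : Red.bc (c.π.app k) G1 ≅ G),
      IsMonHom E.hom ∧ Smooth G1.hom ∧ QuasiCompact G1.hom ∧ ∀ t : D.obj k, _root_.IsConnected (G1.hom.base ⁻¹' {t}) := by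
  obtain ⟨j, Xj, fj, g, hlfp₀, hqc₀, hqs₀, hsq⟩ := Groth.L05.DescendFP.exists_stage hc G.hom
  let G₀ : Over (D.obj j) := Over.mk fj
  haveI : LocallyOfFinitePresentation G₀.hom := hlfp₀
  haveI : QuasiCompact G₀.hom := hqc₀
  haveI : QuasiSeparated G₀.hom := hqs₀
  let e : G ≅ Red.bc (c.π.app j) G₀ := Over.isoMk hsq.isoPullback hsq.isoPullback_hom_snd
  obtain ⟨i, Gi, gGi, e', he', hlfp, hqc, hqs⟩ := Groth.L25.LimHom.exists_grp D c hc j G₀ G e
  haveI := hlfp; haveI := hqc; haveI := hqs; haveI := he'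
  have hsmc : Smooth (pullback.snd Gi.hom (c.π.app i)) := by
    haveI : IsIso e'.inv.left := inferInstanceAs (IsIso ((Over.forget _).map e'.inv))
    have h : Smooth (Red.bc (c.π.app i) Gi).hom := by rw [← Over.w e'.inv]; infer_instance
    exact h
  obtain ⟨k, φ, hk⟩ := Groth.L19.Limit.descends_smooth hc Gi.hom
    ⟨⟨‹QuasiCompact Gi.hom›, ‹QuasiSeparated Gi.hom›⟩, ‹LocallyOfFinitePresentation Gi.hom›⟩
    ((Groth.L19.Limit.pb_iff_of_isPullback (IsPullback.of_hasPullback Gi.hom (c.π.app i))).mp hsmc)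
  let Gk : Over (D.obj k) := Red.bc (D.map φ) Gi
  haveI : Smooth Gk.hom := by
    haveI : Smooth (pullback.fst (D.map φ) Gi.hom) := hk
    show Smooth (pullback.snd Gi.hom (D.map φ))
    rw [← pullbackSymmetry_hom_comp_fst]
    infer_instance
  obtain ⟨G1, g1, ι1, hι1, hι1m, hι1o, hs1, hqc1, hconn1⟩ := Groth.L08.Borel.exists_neutral Gk
  haveI := hι1; haveI := hι1m; haveI := hι1o; haveI := hs1; haveI := hqc1
  let πk := c.π.app k
  let cc := ActBC.bcCompIso (c.π.app k) (D.map φ) Gi (d := c.π.app i) (c.w φ)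
  let v : Red.bc (c.π.app k) G1 ⟶ G := (Over.pullback (c.π.app k)).map ι1 ≫ cc.hom ≫ e'.inv
  haveI : IsMonHom ((Over.pullback (c.π.app k)).map ι1) :=
    Groth.L25.MonoClosed.isMonHom_pullbackMap (c.π.app k) ι1
  haveI : IsMonHom e'.inv := inferInstance
  haveI : IsMonHom v := inferInstanceAs (IsMonHom ((Over.pullback (c.π.app k)).map ι1 ≫
    (ActBC.bcCompIso (c.π.app k) (D.map φ) Gi (d := c.π.app i) (c.w φ)).hom ≫ e'.inv))
  haveI : Mono ((Over.pullback (c.π.app k)).map ι1) := Functor.map_mono _ _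
  haveI : Mono v := mono_comp _ _
  haveI : IsOpenImmersion v.left := by
    haveI : IsOpenImmersion ((Over.pullback (c.π.app k)).map ι1).left :=
      MorphismProperty.of_isPullback (P := @IsOpenImmersion)
        (Groth.L08.Borel.isPullback_bc_map' (c.π.app k) ι1).flip ‹_›
    haveI : IsIso cc.hom.left := inferInstanceAs (IsIso ((Over.forget _).map cc.hom))
    haveI : IsIso e'.inv.left := inferInstanceAs (IsIso ((Over.forget _).map e'.inv))
    show IsOpenImmersion (((Over.pullback (c.π.app k)).map ι1).left ≫ cc.hom.left ≫ e'.inv.left)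
    infer_instance
  haveI : Smooth (Red.bc (c.π.app k) G1).hom := inferInstanceAs (Smooth (pullback.snd G1.hom (c.π.app k)))
  haveI : IsIso v := Groth.L08.Borel.isIso_of_open_subgroup (irrFib_of_connected (G := G) hconn) v
  exact ⟨k, G1, g1, asIso v, inferInstanceAs (IsMonHom v), hs1, hqc1, hconn1⟩

/-- affine fibres of a base change give affine fibres of the model at the image -/
theorem isAffine_fibre_model {S P : Scheme.{u}} (π : P ⟶ S) {X : Over S} [QuasiCompact X.hom] [QuasiSeparated X.hom]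
    {G : Over P} (E : Red.bc π X ≅ G) {Q : P} {q : S} (hq : π Q = q)
    (h : IsAffine (pullback G.hom (P.fromSpecResidueField Q))) :
    IsAffine (pullback X.hom (S.fromSpecResidueField q)) := by
  refine isAffine_fibre_of_point X.hom (F := (P.residueField Q : Type u)) (P.fromSpecResidueField Q ≫ π)
    (by rw [Scheme.Hom.comp_apply, Scheme.fromSpecResidueField_apply]; exact hq) ?_
  haveI h1 : IsAffine (pullback (pullback.snd X.hom π) (P.fromSpecResidueField Q)) := by
    have h2 : IsAffine ((Over.forget _).obj (Red.bc (P.fromSpecResidueField Q) G)) := h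
    haveI := h2
    exact IsAffine.of_isIso ((Over.forget _).mapIso ((Over.pullback (P.fromSpecResidueField Q)).mapIso E)).hom
  exact IsAffine.of_isIso (pullbackLeftPullbackSndIso X.hom π (P.fromSpecResidueField Q)).inv

/-- reductive neighbourhoods from a Noetherian model with affine fibres -/
theorem exists_reductive_nhd_of_stage {S₀ S₁ P : Scheme.{u}} [IsLocallyNoetherian S₁] (π₀ : P ⟶ S₀) (π₁ : P ⟶ S₁)
    (ρ : S₁ ⟶ S₀) (hρ : π₁ ≫ ρ = π₀) {G1 : Over S₀} [GrpObj G1] [Smooth G1.hom] [QuasiCompact G1.hom]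
    [QuasiSeparated G1.hom] (hconn1 : ∀ t : S₀, _root_.IsConnected (G1.hom.base ⁻¹' {t}))
    (hgood : ∀ q : S₁, IsAffine (pullback G1.hom (S₀.fromSpecResidueField (ρ q))))
    {G : Over P} [GrpObj G] (E₀ : Red.bc π₀ G1 ≅ G) [IsMonHom E₀.hom] (s : P)
    (hs : Red.IsReductiveOver (AlgebraicClosure (P.residueField s)) (Red.geomFibre s G)) :
    ∃ U : P.Opens, s ∈ U ∧ Red.IsReductive (Red.bc U.ι G) := by
  let G2 := Red.bc ρ G1
  haveI : Smooth G2.hom := inferInstanceAs (Smooth (pullback.snd G1.hom ρ))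
  haveI : QuasiCompact G2.hom := inferInstanceAs (QuasiCompact (pullback.snd G1.hom ρ))
  haveI : QuasiSeparated G2.hom := inferInstanceAs (QuasiSeparated (pullback.snd G1.hom ρ))
  have hconn2 := Groth.L25.Extension.isConnected_fibre_bc ρ G1 hconn1
  have haff2 : ∀ q : S₁, IsAffine (pullback G2.hom (S₁.fromSpecResidueField q)) := by
    intro q
    haveI : IsAffine (pullback G1.hom (S₁.fromSpecResidueField q ≫ ρ)) :=
      isAffine_pullback_at G1.hom (F := (S₁.residueField q : Type u)) _ (by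
        rw [Scheme.Hom.comp_apply, Scheme.fromSpecResidueField_apply]) (hgood q)
    exact IsAffine.of_isIso (pullbackLeftPullbackSndIso G1.hom ρ (S₁.fromSpecResidueField q)).hom
  let E : Red.bc π₁ G2 ≅ G := ActBC.bcCompIso π₁ ρ G1 (d := π₀) hρ ≪≫ E₀
  haveI : IsMonHom E.hom := inferInstanceAs (IsMonHom ((ActBC.bcCompIso π₁ ρ G1 (d := π₀) hρ).hom ≫ E₀.hom))
  haveI : IsMonHom E.symm.hom := inferInstanceAs (IsMonHom E.inv)
  obtain ⟨U₁, hsU, hU₁⟩ := exists_reductive_nhd_noetherian hconn2 haff2 (π₁ s) (reductive_geomFibre_descend π₁ E hs)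
  exact ⟨π₁ ⁻¹ᵁ U₁, hsU, isReductive_preimage π₁ E U₁ hU₁⟩

theorem isLocallyNoetherian_spec_fg {A : Type u} [CommRing A] (A₁ : Subalgebra ℤ A) (hfg : A₁.FG) :
    IsLocallyNoetherian (Spec (CommRingCat.of A₁)) := by
  haveI : Algebra.FiniteType ℤ A₁ := ⟨(Subalgebra.fg_top _).2 hfg⟩
  haveI : IsNoetherianRing A₁ := Algebra.FiniteType.isNoetherianRing ℤ _
  infer_instance

/-- reductive neighbourhoods from a model over a finitely generated subring -/
theorem exists_reductive_nhd_of_model {A : Type u} [CommRing A] (G : Over (Spec (CommRingCat.of A))) [GrpObj G]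
    (haff : ∀ s : ↥(Spec (CommRingCat.of A)), IsAffine (pullback G.hom ((Spec (CommRingCat.of A)).fromSpecResidueField s)))
    (s : ↥(Spec (CommRingCat.of A)))
    (hs : Red.IsReductiveOver (AlgebraicClosure ((Spec (CommRingCat.of A)).residueField s)) (Red.geomFibre s G))
    (A₀ : Subalgebra ℤ A) (hA₀ : A₀.FG) (G1 : Over (Spec (CommRingCat.of A₀))) [GrpObj G1] [Smooth G1.hom]
    [QuasiCompact G1.hom] (hconn1 : ∀ t : ↥(Spec (CommRingCat.of A₀)), _root_.IsConnected (G1.hom.base ⁻¹' {t}))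
    (E₀ : Red.bc (Spec.map (CommRingCat.ofHom (algebraMap A₀ A))) G1 ≅ G) [IsMonHom E₀.hom] :
    ∃ U : (Spec (CommRingCat.of A)).Opens, s ∈ U ∧ Red.IsReductive (Red.bc U.ι G) := by
  haveI := isSeparated_of_connected_fibres hconn1
  obtain ⟨A₁, hle, hfg, hgood⟩ := exists_good_stage A₀ hA₀
    (fun p => IsAffine (pullback G1.hom ((Spec (CommRingCat.of A₀)).fromSpecResidueField p)))
    (fun p hp => exists_affine_piece (G := G1) p hp)
    (fun Q => isAffine_fibre_model (Spec.map (CommRingCat.ofHom (algebraMap A₀ A))) E₀ rfl (haff Q))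
  haveI := isLocallyNoetherian_spec_fg A₁ hfg
  exact exists_reductive_nhd_of_stage (Spec.map (CommRingCat.ofHom (algebraMap A₀ A)))
    (Spec.map (CommRingCat.ofHom (algebraMap A₁ A)))
    (Spec.map (CommRingCat.ofHom (Subalgebra.inclusion hle).toRingHom)) (Spec.map_comp _ _).symm
    hconn1 hgood E₀ s hs

/-- **reductive neighbourhoods over an affine base** -/
theorem exists_reductive_nhd_affine {A : Type u} [CommRing A] (G : Over (Spec (CommRingCat.of A))) [GrpObj G]
    [Smooth G.hom] [QuasiCompact G.hom]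
    (hconn : ∀ s : ↥(Spec (CommRingCat.of A)), _root_.IsConnected (G.hom.base ⁻¹' {s}))
    (haff : ∀ s : ↥(Spec (CommRingCat.of A)), IsAffine (pullback G.hom ((Spec (CommRingCat.of A)).fromSpecResidueField s)))
    (s : ↥(Spec (CommRingCat.of A)))
    (hs : Red.IsReductiveOver (AlgebraicClosure ((Spec (CommRingCat.of A)).residueField s)) (Red.geomFibre s G)) :
    ∃ U : (Spec (CommRingCat.of A)).Opens, s ∈ U ∧ Red.IsReductive (Red.bc U.ι G) := by
  haveI := isSeparated_of_connected_fibres hconn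
  let c := Groth.L05.ModelFG.specCone A
  let Gc : Over c.pt := G
  letI : GrpObj Gc := ‹GrpObj G›
  haveI : Smooth Gc.hom := ‹Smooth G.hom›
  haveI : QuasiCompact Gc.hom := ‹QuasiCompact G.hom›
  haveI : IsSeparated Gc.hom := ‹IsSeparated G.hom›
  haveI : ∀ (i i' : (Groth.L05.ModelFG.FG A)ᵒᵖ) (f : i ⟶ i'),
      IsAffineHom ((Groth.L05.ModelFG.specDiagram A).map f) := fun _ _ _ => inferInstance
  obtain ⟨k, G1, g1, E, hE, hs1, hqc1, hconn1⟩ :=
    exists_connected_model c (Groth.L05.ModelFG.isLimitSpecCone A) Gc hconn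
  exact @exists_reductive_nhd_of_model A _ G _ haff s hs k.unop.1 k.unop.2 G1 g1 hs1 hqc1 hconn1 E hE

/-- **reductive fibres of groups with connected affine fibres have reductive neighbourhoods** -/
theorem exists_reductive_nhd {S : Scheme.{u}} {G : Over S} [GrpObj G] [Smooth G.hom] [QuasiCompact G.hom]
    (hconn : ∀ s : S, _root_.IsConnected (G.hom.base ⁻¹' {s}))
    (haff : ∀ s : S, IsAffine (pullback G.hom (S.fromSpecResidueField s))) (s : S)
    (hs : Red.IsReductiveOver (AlgebraicClosure (S.residueField s)) (Red.geomFibre s G)) :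
    ∃ U : S.Opens, s ∈ U ∧ Red.IsReductive (Red.bc U.ι G) := by
  obtain ⟨_, ⟨V, hV, rfl⟩, hsV, -⟩ := S.isBasis_affineOpens.exists_subset_of_mem_open (Set.mem_univ s) isOpen_univ
  let j := hV.fromSpec
  haveI : IsOpenImmersion j := hV.isOpenImmersion_fromSpec
  obtain ⟨s', hs'⟩ : s ∈ Set.range j.base := hV.range_fromSpec.ge hsV
  haveI : Smooth (Red.bc j G).hom := inferInstanceAs (Smooth (pullback.snd G.hom j))
  haveI : QuasiCompact (Red.bc j G).hom := inferInstanceAs (QuasiCompact (pullback.snd G.hom j))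
  obtain ⟨U', hsU', hU'⟩ := exists_reductive_nhd_affine (Red.bc j G)
    (Groth.L25.Extension.isConnected_fibre_bc j G hconn) (affine_fibres_bc haff j) s' (reductive_geomFibre_bc j hs' hs)
  let T : S.Opens := j ''ᵁ U'
  let r : T.toScheme ⟶ U'.toScheme := IsOpenImmersion.lift (U'.ι ≫ j) T.ι (by
    rintro _ ⟨x, rfl⟩
    obtain ⟨y, hy, hyx⟩ := x.2
    exact ⟨⟨y, hy⟩, hyx⟩)
  have hr : r ≫ U'.ι ≫ j = T.ι := IsOpenImmersion.lift_fac _ _ _
  haveI hm : IsMonHom (ActBC.bcCompIso r U'.ι (Red.bc j G) (d := r ≫ U'.ι) rfl ≪≫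
      ActBC.bcCompIso (r ≫ U'.ι) j G (d := T.ι) ((Category.assoc _ _ _).trans hr)).hom :=
    inferInstanceAs (IsMonHom ((ActBC.bcCompIso r U'.ι (Red.bc j G) (d := r ≫ U'.ι) rfl).hom ≫
      (ActBC.bcCompIso (r ≫ U'.ι) j G (d := T.ι) ((Category.assoc _ _ _).trans hr)).hom))
  refine ⟨T, ⟨s', hsU', hs'⟩, Groth.L14.Splitting.isReductive_congr ?_ (Groth.L14.Splitting.isReductive_bc hU' r)⟩
  exact Grp.mkIso' (ActBC.bcCompIso r U'.ι (Red.bc j G) (d := r ≫ U'.ι) rfl ≪≫
    ActBC.bcCompIso (r ≫ U'.ι) j G (d := T.ι) ((Category.assoc _ _ _).trans hr))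

end Groth.L25.AffRed
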