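import Groth.Agent.L25.AffRed.Finite
import Groth.Agent.L25.RedField.QFNormalOpen
import Groth.Agent.L18.GrpHomFinite
import Mathlib.AlgebraicGeometry.ValuativeCriterion

/-!
# Fibres of groups over local rings with a quasi-finite homomorphism to an affine group are reductive
-/

set_option autoImplicit false
set_option linter.unusedSectionVars false
set_option linter.style.haveILetI false
set_option backward.isDefEq.respectTransparency.types false
set_option maxHeartbeats 1000000
set_option linter.deprecated false

universe u

open CategoryTheory CategoryTheory.Limits MonoidalCategory CartesianMonoidalCategory MonObj GrpObj AlgebraicGeometry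
open Groth.L08.MonoRed (baseMap closedMap)
open IsLocalRing (closedPoint)

noncomputable section

namespace Groth.L25.AffRed

variable {A : Type u} [CommRing A] [IsLocalRing A] {G H : Over (Spec (CommRingCat.of A))} [GrpObj G] [GrpObj H]
  [Smooth G.hom] [QuasiCompact G.hom] [IsSeparated G.hom] [IsAffineHom H.hom] [LocallyOfFinitePresentation H.hom]

/-- **all geometric fibres are reductive, and the pullbacks to valuation rings too** -/
theorem reductive_fibres (hconn : ∀ s : ↥(Spec (CommRingCat.of A)), _root_.IsConnected (G.hom.base ⁻¹' {s})) (u : G ⟶ H) [IsMonHom u]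
    [LocallyQuasiFinite ((Over.pullback (closedMap A)).map u).left]
    (s₀ : ↥(Spec (CommRingCat.of A))) (hs₀ : s₀ = closedPoint A)
    (hs : Red.IsReductiveOver (AlgebraicClosure ((Spec (CommRingCat.of A)).residueField s₀)) (Red.geomFibre s₀ G)) (s : Spec (CommRingCat.of A)) :
    Red.IsReductiveOver (AlgebraicClosure ((Spec (CommRingCat.of A)).residueField s)) (Red.geomFibre s G) := by
  let Ω := AlgebraicClosure ((Spec (CommRingCat.of A)).residueField s)
  obtain ⟨ψ, hψ⟩ := Spec.map_surjective (Red.geomPt s)
  have hker : RingHom.ker ψ.hom ≤ IsLocalRing.maximalIdeal A := IsLocalRing.le_maximalIdeal (RingHom.ker_ne_top _)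
  obtain ⟨V, φ, hφ, hφm⟩ := Groth.L08.MonoRed.exists_dominating ψ.hom (IsLocalRing.maximalIdeal A) hker
  let c : Spec (CommRingCat.of V) ⟶ Spec (CommRingCat.of A) := Spec.map (CommRingCat.ofHom φ)
  have hc : c (closedPoint V) = closedPoint A := PrimeSpectrum.ext hφm
  have hgen : baseMap V Ω ≫ c = Red.geomPt s := by
    show Spec.map _ ≫ Spec.map _ = _
    rw [← Spec.map_comp, ← hψ]
    congr 1
    exact CommRingCat.hom_ext (RingHom.ext hφ)
  haveI : Smooth (Red.bc c G).hom := inferInstanceAs (Smooth (pullback.snd G.hom c))
  haveI : QuasiCompact (Red.bc c G).hom := inferInstanceAs (QuasiCompact (pullback.snd G.hom c))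
  haveI : IsSeparated (Red.bc c G).hom := inferInstanceAs (IsSeparated (pullback.snd G.hom c))
  haveI : IsAlgClosed (FractionRing V) :=
    IsAlgClosed.of_ringEquiv Ω (FractionRing V) (IsLocalization.algEquiv (nonZeroDivisors V) Ω (FractionRing V)).toRingEquiv
  have hconn' := Groth.L25.Extension.isConnected_fibre_bc c G hconn
  haveI : IsAffine (Red.bc c G).left := by
    refine Groth.L08.AffVal.isAffine_of_affine_fibres (irrFib_of_connected hconn') fun t => ?_
    haveI : IsAffine (pullback G.hom ((Spec (CommRingCat.of V)).fromSpecResidueField t ≫ c)) :=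
      Groth.L08.AffVal.isAffine_pullback_point G.hom (isAffine_fibre u)
        (F := ((Spec (CommRingCat.of V)).residueField t : Type u)) _
    exact IsAffine.of_isIso (pullbackLeftPullbackSndIso G.hom c ((Spec (CommRingCat.of V)).fromSpecResidueField t)).hom
  haveI : IsAffineHom (Red.bc c G).hom := inferInstance
  obtain ⟨U, hU, hred⟩ := Groth.L25.RedOpen.exists_nhd_reductive hconn' (closedPoint V)
    ((Groth.L25.RedOpen.reductive_bcComp_iff c _ rfl).2 (Groth.L25.RedOpen.isReductiveOver_of_geomFibre _ (by
      rw [Scheme.Hom.comp_apply, Groth.L08.Borel.geomPt_apply, hc, hs₀]) hs))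
  have h := hred Ω (baseMap V Ω) ((IsLocalRing.specializes_closedPoint _).mem_open U.2 hU)
  exact (Groth.L25.RedOpen.reductive_bcComp_iff c _ hgen).1 h

/-- pullbacks to valuation rings with algebraically closed fraction field are reductive -/
theorem isReductive_bc (hconn : ∀ s : ↥(Spec (CommRingCat.of A)), _root_.IsConnected (G.hom.base ⁻¹' {s})) (u : G ⟶ H) [IsMonHom u]
    [LocallyQuasiFinite ((Over.pullback (closedMap A)).map u).left]
    (s₀ : ↥(Spec (CommRingCat.of A))) (hs₀ : s₀ = closedPoint A)
    (hs : Red.IsReductiveOver (AlgebraicClosure ((Spec (CommRingCat.of A)).residueField s₀)) (Red.geomFibre s₀ G)) {Ω : Type u} [Field Ω] [IsAlgClosed Ω] (V : ValuationSubring Ω)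
    (c : Spec (CommRingCat.of V) ⟶ Spec (CommRingCat.of A)) : Red.IsReductive (Red.bc c G) := by
  haveI : Smooth (Red.bc c G).hom := inferInstanceAs (Smooth (pullback.snd G.hom c))
  haveI : QuasiCompact (Red.bc c G).hom := inferInstanceAs (QuasiCompact (pullback.snd G.hom c))
  haveI : IsSeparated (Red.bc c G).hom := inferInstanceAs (IsSeparated (pullback.snd G.hom c))
  haveI : IsAlgClosed (FractionRing V) :=
    IsAlgClosed.of_ringEquiv Ω (FractionRing V) (IsLocalization.algEquiv (nonZeroDivisors V) Ω (FractionRing V)).toRingEquiv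
  haveI : IsAffine (Red.bc c G).left := by
    refine Groth.L08.AffVal.isAffine_of_affine_fibres
      (irrFib_of_connected (Groth.L25.Extension.isConnected_fibre_bc c G hconn)) fun t => ?_
    haveI : IsAffine (pullback G.hom ((Spec (CommRingCat.of V)).fromSpecResidueField t ≫ c)) :=
      Groth.L08.AffVal.isAffine_pullback_point G.hom (isAffine_fibre u)
        (F := ((Spec (CommRingCat.of V)).residueField t : Type u)) _
    exact IsAffine.of_isIso (pullbackLeftPullbackSndIso G.hom c ((Spec (CommRingCat.of V)).fromSpecResidueField t)).hom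
  exact ⟨inferInstance, inferInstance, fun t => (Groth.L25.RedOpen.reductive_bcComp_iff c _ rfl).2
    (Groth.L25.RedOpen.isReductiveOver_of_geomFibre (Red.geomPt t ≫ c) (by
      rw [Scheme.Hom.comp_apply, Groth.L08.Borel.geomPt_apply]) (reductive_fibres hconn u s₀ hs₀ hs (c t)))⟩

end Groth.L25.AffRed
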