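import Groth.Agent.L25.AffRed.Reductive
import Groth.Agent.L25.RedField.QFNormalOpen
import Groth.Agent.L18.GrpHomFinite
import Mathlib.AlgebraicGeometry.ValuativeCriterion

/-!
# Quasi-finite homomorphisms from groups over local rings with reductive closed fibre are finite
-/

set_option autoImplicit false
set_option linter.unusedSectionVars false
set_option linter.style.haveILetI false
set_option backward.isDefEq.respectTransparency.types false
set_option maxHeartbeats 1000000
set_option linter.deprecated false

universe u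

open CategoryTheory CategoryTheory.Limits MonoidalCategory CartesianMonoidalCategory MonObj GrpObj AlgebraicGeometry
open Groth.L08.MonoRed (baseMap closedMap)
open IsLocalRing (closedPoint)

noncomputable section

namespace Groth.L25.AffRed

variable {A : Type u} [CommRing A] [IsLocalRing A] {G H : Over (Spec (CommRingCat.of A))} [GrpObj G] [GrpObj H]
  [Smooth G.hom] [QuasiCompact G.hom] [IsSeparated G.hom] [IsAffineHom H.hom] [LocallyOfFinitePresentation H.hom]

/-- **the homomorphism is finite** -/
theorem isFinite_of_closedFibre (hconn : ∀ s : ↥(Spec (CommRingCat.of A)), _root_.IsConnected (G.hom.base ⁻¹' {s})) (u : G ⟶ H) [IsMonHom u]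
    [LocallyQuasiFinite ((Over.pullback (closedMap A)).map u).left]
    (s₀ : ↥(Spec (CommRingCat.of A))) (hs₀ : s₀ = closedPoint A)
    (hs : Red.IsReductiveOver (AlgebraicClosure ((Spec (CommRingCat.of A)).residueField s₀)) (Red.geomFibre s₀ G)) : IsFinite u.left := by
  haveI : LocallyOfFiniteType u.left := by
    haveI : LocallyOfFiniteType (u.left ≫ H.hom) := by rw [Over.w u]; infer_instance
    exact locallyOfFiniteType_of_comp u.left H.hom
  haveI : QuasiCompact (u.left ≫ H.hom) := by rw [Over.w u]; infer_instance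
  haveI : QuasiCompact u.left := QuasiCompact.of_comp u.left H.hom
  haveI : IsSeparated (u.left ≫ H.hom) := by rw [Over.w u]; infer_instance
  haveI : IsSeparated u.left := IsSeparated.of_comp u.left H.hom
  haveI := locallyQuasiFinite_of_closedFibre u
  haveI : UniversallyClosed u.left := by
    refine UniversallyClosed.of_valuativeCriterion _ fun sq => ?_
    obtain ⟨Ω, _, _, _, V, j, hj, hjf, hjs, hjr, hVK⟩ := Groth.L08.MonoRed.exists_extension sq.R sq.K
    haveI := hj
    let c := Spec.map (CommRingCat.ofHom j) ≫ sq.i₂ ≫ H.hom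
    let θ := Spec.map (CommRingCat.ofHom (algebraMap sq.K Ω))
    have hθ : θ ≫ Spec.map (CommRingCat.ofHom (algebraMap sq.R sq.K)) =
        baseMap V Ω ≫ Spec.map (CommRingCat.ofHom j) := by
      rw [← Spec.map_comp, ← Spec.map_comp]
      congr 1
      exact CommRingCat.hom_ext (RingHom.ext fun r => (hjr r).symm)
    have hw : (θ ≫ sq.i₁) ≫ u.left = baseMap V Ω ≫ Spec.map (CommRingCat.ofHom j) ≫ sq.i₂ := by
      rw [Category.assoc, sq.commSq.w, reassoc_of% hθ]
    haveI : IsAffineHom (Red.bc c H).hom := MorphismProperty.pullback_snd (P := @IsAffineHom) H.hom c inferInstance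
    haveI : LocallyOfFinitePresentation (Red.bc c H).hom :=
      inferInstanceAs (LocallyOfFinitePresentation (pullback.snd H.hom c))
    haveI : IsMonHom ((Over.pullback c).map u) := Groth.L25.MonoClosed.isMonHom_pullbackMap _ _
    haveI : LocallyQuasiFinite ((Over.pullback c).map u).left :=
      MorphismProperty.of_isPullback (Groth.L08.Borel.isPullback_bc_map' c u).flip inferInstance
    haveI : LocallyQuasiFinite ((Over.pullback (closedMap V)).map ((Over.pullback c).map u)).left :=
      MorphismProperty.of_isPullback (Groth.L08.Borel.isPullback_bc_map' _ _).flip inferInstance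
    let g : Spec (CommRingCat.of Ω) ⟶ (Red.bc c G).left := pullback.lift (θ ≫ sq.i₁) (baseMap V Ω) (by
      rw [← Over.w u, ← Category.assoc, hw]; simp [c])
    let h : Spec (CommRingCat.of V) ⟶ (Red.bc c H).left :=
      pullback.lift (Spec.map (CommRingCat.ofHom j) ≫ sq.i₂) (𝟙 _) (by rw [Category.id_comp, Category.assoc])
    obtain ⟨γ, -, hγ⟩ := exists_lift_reductive (K := Ω) (isReductive_bc hconn u s₀ hs₀ hs V c) ((Over.pullback c).map u) g
      (pullback.lift_snd _ _ _) h (pullback.lift_snd _ _ _) (by
        apply pullback.hom_ext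
        · simp only [g, h, Category.assoc, pullback.lift_fst]
          refine Eq.trans ?_ hw
          rw [(Groth.L08.Borel.isPullback_bc_map' c u).w]
          exact pullback.lift_fst_assoc _ _ _ _
        · simp only [g, h, Category.assoc, Over.pullback_map_left, pullback.lift_snd]
          rw [Category.comp_id])
    let γ' : Spec (CommRingCat.of V) ⟶ G.left := γ ≫ pullback.fst G.hom c
    have hγ' : baseMap V Ω ≫ γ' = θ ≫ sq.i₁ := by
      rw [← Category.assoc, hγ]
      exact pullback.lift_fst _ _ _
    -- descend to the valuation ring inside an affine open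
    obtain ⟨_, ⟨O₀, hO, rfl⟩, hxO, -⟩ := G.left.isBasis_affineOpens.exists_subset_of_mem_open
      (Set.mem_univ (γ' (closedPoint V))) isOpen_univ
    let O : G.left.Opens := O₀
    haveI : IsAffine O.toScheme := hO
    have hr₂ : Set.range γ' ⊆ Set.range O.ι := by
      rw [Scheme.Opens.range_ι]
      rintro _ ⟨p, rfl⟩
      exact ((IsLocalRing.specializes_closedPoint p).map γ'.continuous).mem_open O.2 hxO
    have hr₁ : Set.range sq.i₁ ⊆ Set.range O.ι := by
      rintro _ ⟨p, rfl⟩
      refine hr₂ ⟨baseMap V Ω (closedPoint Ω), ?_⟩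
      rw [← Scheme.Hom.comp_apply, hγ', Scheme.Hom.comp_apply]
      exact congrArg sq.i₁ (Subsingleton.elim (α := PrimeSpectrum sq.K) _ _)
    let p₁ := IsOpenImmersion.lift O.ι sq.i₁ hr₁
    let p₂ := IsOpenImmersion.lift O.ι γ' hr₂
    have hp : θ ≫ p₁ = baseMap V Ω ≫ p₂ := by
      rw [← cancel_mono O.ι, Category.assoc, Category.assoc, IsOpenImmersion.lift_fac, IsOpenImmersion.lift_fac, hγ']
    obtain ⟨a₁, ha₁⟩ := Spec.map_surjective (p₁ ≫ O.toScheme.isoSpec.hom)
    obtain ⟨a₂, ha₂⟩ := Spec.map_surjective (p₂ ≫ O.toScheme.isoSpec.hom)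
    have ha : ∀ x, algebraMap sq.K Ω (a₁.hom x) = (a₂.hom x : Ω) := by
      have h2 : Spec.map (a₁ ≫ CommRingCat.ofHom (algebraMap sq.K Ω)) =
          Spec.map (a₂ ≫ CommRingCat.ofHom (algebraMap V Ω)) := by
        rw [Spec.map_comp, Spec.map_comp, ha₁, ha₂, ← Category.assoc, ← Category.assoc]
        exact congrArg (· ≫ O.toScheme.isoSpec.hom) hp
      exact fun x => congrArg (fun z => z.hom x) (Spec.map_injective h2)
    choose al hal using fun x => hVK (a₁.hom x) (by rw [ha x]; exact (a₂.hom x).2)
    have hinjR := IsFractionRing.injective sq.R sq.K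
    let a : Γ(O.toScheme, ⊤) →+* sq.R :=
      { toFun := al
        map_one' := hinjR (by rw [hal, map_one, map_one])
        map_mul' := fun x y => hinjR (by rw [hal, map_mul, map_mul, hal, hal])
        map_zero' := hinjR (by rw [hal, map_zero, map_zero])
        map_add' := fun x y => hinjR (by rw [hal, map_add, map_add, hal, hal]) }
    let l := Spec.map (CommRingCat.ofHom a) ≫ O.toScheme.isoSpec.inv ≫ O.ι
    have hl₁ : Spec.map (CommRingCat.ofHom (algebraMap sq.R sq.K)) ≫ l = sq.i₁ := by
      have h3 : Spec.map (CommRingCat.ofHom (algebraMap sq.R sq.K)) ≫ Spec.map (CommRingCat.ofHom a) =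
          p₁ ≫ O.toScheme.isoSpec.hom := by
        rw [← Spec.map_comp, ← ha₁]
        exact congrArg Spec.map (CommRingCat.hom_ext (RingHom.ext hal))
      rw [reassoc_of% h3, Iso.hom_inv_id_assoc]
      exact IsOpenImmersion.lift_fac _ _ _
    refine ⟨⟨⟨l, hl₁, ?_⟩⟩⟩
    haveI : IsDominant (Spec.map (CommRingCat.ofHom (algebraMap sq.R sq.K))) :=
      ⟨(PrimeSpectrum.denseRange_comap_iff_ker_le_nilRadical _).2 (by
        rw [CommRingCat.hom_ofHom, (RingHom.injective_iff_ker_eq_bot _).1 (IsFractionRing.injective sq.R sq.K)]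
        exact bot_le)⟩
    refine ext_of_isDominant_of_isSeparated H.hom ?_ (Spec.map (CommRingCat.ofHom (algebraMap sq.R sq.K))) ?_
    · refine ext_of_isDominant_of_isSeparated (terminal.from _) (Subsingleton.elim _ _)
        (Spec.map (CommRingCat.ofHom (algebraMap sq.R sq.K))) ?_
      simp only [← Category.assoc]
      rw [hl₁, sq.commSq.w]
    · rw [reassoc_of% hl₁, sq.commSq.w]
  haveI : IsProper u.left := ⟨⟩
  exact (IsFinite.iff_isProper_and_locallyQuasiFinite _).2 ⟨inferInstance, inferInstance⟩

end Groth.L25.AffRed
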