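import Groth.Agent.L25.AffRed.AdKernel
import Groth.Agent.L25.AffRed.KernelFinite
import Groth.Agent.L25.AffRed.Proper

/-!
# Groups with semisimple closed fibre over local rings are affine
-/

set_option autoImplicit false
set_option linter.unusedSectionVars false
set_option linter.style.haveILetI false
set_option backward.isDefEq.respectTransparency.types false
set_option maxHeartbeats 1000000

universe u

open CategoryTheory CategoryTheory.Limits MonoidalCategory CartesianMonoidalCategory MonObj GrpObj AlgebraicGeometry
open Groth.L08.MonoRed (closedMap)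
open IsLocalRing (closedPoint)

attribute [-instance] CategoryTheory.Hom.commGroup
noncomputable section

namespace Groth.L25.AffRed

variable {A : Type u} [CommRing A] [IsLocalRing A] {G H : Over (Spec (CommRingCat.of A))} [GrpObj G] [GrpObj H]

theorem exists_preimage_of_isPullback {P X Y Z : Scheme.{u}} {p : P ⟶ X} {q : P ⟶ Y} {f : X ⟶ Z} {g : Y ⟶ Z}
    (h : IsPullback p q f g) (x : X) (y : Y) (hxy : f x = g y) : ∃ z : P, p z = x ∧ q z = y := by
  obtain ⟨z, hz₁, hz₂⟩ := Scheme.Pullback.exists_preimage_pullback x y hxy
  refine ⟨h.isoPullback.inv z, ?_, ?_⟩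
  · rw [← Scheme.Hom.comp_apply, h.isoPullback_inv_fst, hz₁]
  · rw [← Scheme.Hom.comp_apply, h.isoPullback_inv_snd, hz₂]

/-- quasi-finiteness on the closed fibre can be checked after a point of the closed point -/
theorem locallyQuasiFinite_closedFibre [QuasiCompact G.hom] [LocallyOfFiniteType G.hom] [IsSeparated H.hom]
    (u : G ⟶ H) {K : Type u} [Field K] (b : Spec (CommRingCat.of K) ⟶ Spec (CommRingCat.of A))
    (hb : b (closedPoint K) = closedPoint A) [IsFinite ((Over.pullback b).map u).left] :
    LocallyQuasiFinite ((Over.pullback (closedMap A)).map u).left := by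
  let uc := ((Over.pullback (closedMap A)).map u).left
  let ub := ((Over.pullback b).map u).left
  haveI : LocallyOfFiniteType u.left := by
    haveI : LocallyOfFiniteType (u.left ≫ H.hom) := by rw [Over.w u]; infer_instance
    exact locallyOfFiniteType_of_comp u.left H.hom
  haveI : QuasiCompact (u.left ≫ H.hom) := by rw [Over.w u]; infer_instance
  haveI : QuasiCompact u.left := QuasiCompact.of_comp u.left H.hom
  have sqc := Groth.L08.Borel.isPullback_bc_map' (closedMap A) u
  have sqb := Groth.L08.Borel.isPullback_bc_map' b u
  haveI : LocallyOfFiniteType uc := MorphismProperty.of_isPullback sqc.flip ‹LocallyOfFiniteType u.left›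
  haveI : QuasiCompact uc := MorphismProperty.of_isPullback sqc.flip ‹QuasiCompact u.left›
  haveI : IsClosedImmersion (closedMap A) := IsClosedImmersion.spec_of_surjective _ IsLocalRing.residue_surjective
  haveI : IsClosedImmersion (pullback.fst G.hom (closedMap A)) :=
    MorphismProperty.pullback_fst (P := @IsClosedImmersion) G.hom (closedMap A) inferInstance
  refine LocallyQuasiFinite.of_finite_preimage_singleton uc fun y => ?_
  have hy : H.hom ((pullback.fst H.hom (closedMap A)) y) = closedPoint A := by
    rw [← Scheme.Hom.comp_apply, pullback.condition, Scheme.Hom.comp_apply]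
    show Spec.map _ _ = _
    rw [show (pullback.snd H.hom (closedMap A)) y = closedPoint (IsLocalRing.ResidueField A) from
      Subsingleton.elim (α := PrimeSpectrum (IsLocalRing.ResidueField A)) _ _]
    exact Groth.L08.MonoRed.apply_closedPoint _
  obtain ⟨y', hy', -⟩ := Scheme.Pullback.exists_preimage_pullback (f := H.hom) (g := b) _ (closedPoint K) (hy.trans hb.symm)
  have hfin : (ub ⁻¹' {y'}).Finite := ub.finite_preimage_singleton y'
  refine ((hfin.image (pullback.fst G.hom b)).preimage (pullback.fst G.hom (closedMap A)).isClosedEmbedding.injective.injOn).subset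
    fun x hx => ?_
  obtain ⟨x', hx1, hx2⟩ := exists_preimage_of_isPullback sqb.flip ((pullback.fst G.hom (closedMap A)) x) y' (by
    rw [hy', ← Scheme.Hom.comp_apply, ← sqc.w, Scheme.Hom.comp_apply]
    exact congrArg _ hx)
  exact ⟨x', hx2, hx1⟩

/-- **a separated smooth group with connected fibres over a local ring and semisimple closed fibre is affine** -/
theorem isAffineHom_of_semisimple_closedFibre [Smooth G.hom] [QuasiCompact G.hom] [IsSeparated G.hom]
    (hconn : ∀ s : ↥(Spec (CommRingCat.of A)), _root_.IsConnected (G.hom.base ⁻¹' {s}))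
    {K : Type u} [Field K] [IsAlgClosed K] (b : Spec (CommRingCat.of K) ⟶ Spec (CommRingCat.of A))
    (hb : b (closedPoint K) = closedPoint A) (hss : Red.IsSemisimpleOver K (Red.bc b G))
    (s₀ : ↥(Spec (CommRingCat.of A))) (hs₀ : s₀ = closedPoint A)
    (hs : Red.IsReductiveOver (AlgebraicClosure ((Spec (CommRingCat.of A)).residueField s₀)) (Red.geomFibre s₀ G)) :
    IsAffineHom G.hom := by
  obtain ⟨C⟩ := exists_chart G
  let u : G ⟶ GLA C.d A := adjoint C
  haveI : IsMonHom ((Over.pullback b).map u) := Groth.L25.MonoClosed.isMonHom_pullbackMap b u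
  haveI : LocallyOfFiniteType (Red.bc b (GLA C.d A)).hom :=
    inferInstanceAs (LocallyOfFiniteType (pullback.snd (GLA C.d A).hom b))
  haveI : IsFinite ((Over.pullback b).map u).left :=
    isFinite_of_killed_tori hss.1 ((Over.pullback b).map u) fun T _ i _ _ hT hk => isTrivialGrp_of_killed C b i hss hT hk
  haveI := locallyQuasiFinite_closedFibre u b hb
  haveI := isFinite_of_closedFibre hconn u s₀ hs₀ hs
  rw [← Over.w u]
  infer_instance

end Groth.L25.AffRed
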