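import Groth.Agent.L25.AffRed.Valuative
import Groth.Agent.L25.AffRed.SemisimpleLocal
import Groth.Agent.L25.AffRed.Reductive

/-!
# Affineness near a point from a generically finite homomorphism

If the closed geometric fibre is reductive, all fibres are affine and connected, and a homomorphism to an affine
group is finite at one generalisation and kills only central tori, the group is affine over the local ring.
-/

set_option autoImplicit false
set_option linter.unusedSectionVars false
set_option linter.style.haveILetI false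
set_option backward.isDefEq.respectTransparency.types false
set_option maxHeartbeats 1000000

universe u

open CategoryTheory CategoryTheory.Limits MonoidalCategory CartesianMonoidalCategory MonObj GrpObj AlgebraicGeometry
open Groth.L08.MonoRed (baseMap closedMap)
open IsLocalRing (closedPoint)

attribute [-instance] CategoryTheory.Hom.commGroup
noncomputable section

namespace Groth.L25.AffRed

variable {S : Scheme.{u}} {G H : Over S} [GrpObj G] [GrpObj H]

/-- affineness of the fibres is stable under base change -/
theorem affine_fibres_bc (haff : ∀ s : S, IsAffine (pullback G.hom (S.fromSpecResidueField s))) {P : Scheme.{u}}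
    (c : P ⟶ S) (t : P) : IsAffine (pullback (Red.bc c G).hom (P.fromSpecResidueField t)) := by
  haveI : IsAffine (pullback G.hom (P.fromSpecResidueField t ≫ c)) :=
    Groth.L08.AffVal.isAffine_pullback_point G.hom haff (F := (P.residueField t : Type u)) _
  exact IsAffine.of_isIso (pullbackLeftPullbackSndIso G.hom c (P.fromSpecResidueField t)).hom

/-- finiteness of a homomorphism along composite base changes -/
theorem isFinite_map_map {P Q : Scheme.{u}} (f : Q ⟶ P) (g : P ⟶ S) {d : Q ⟶ S} (h : f ≫ g = d) (v : G ⟶ H)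
    [IsFinite ((Over.pullback d).map v).left] :
    IsFinite ((Over.pullback f).map ((Over.pullback g).map v)).left := by
  have e : Arrow.mk ((Over.pullback f).map ((Over.pullback g).map v)).left ≅
      Arrow.mk ((Over.pullback d).map v).left :=
    Arrow.isoMk ((Over.forget _).mapIso (ActBC.bcCompIso f g G h)) ((Over.forget _).mapIso (ActBC.bcCompIso f g H h))
      (congrArg (fun z => z.left) (ActBC.bcCompIso_hom_naturality f g h v)).symm
  exact (MorphismProperty.arrow_mk_iso_iff (@IsFinite) e).2 inferInstance

/-- being killed is compatible with composite base changes -/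
theorem killed_map_map {P Q : Scheme.{u}} (f : Q ⟶ P) (g : P ⟶ S) {d : Q ⟶ S} (h : f ≫ g = d) (v : G ⟶ H)
    [IsMonHom v] {T : Over Q} (i : T ⟶ Red.bc f (Red.bc g G))
    (hk : i ≫ (Over.pullback f).map ((Over.pullback g).map v) = 1) :
    (i ≫ (ActBC.bcCompIso f g G h).hom) ≫ (Over.pullback d).map v = 1 := by
  rw [Category.assoc, ← ActBC.bcCompIso_hom_naturality, ← Category.assoc, hk, MonObj.one_comp]

theorem killed_of_map_map {P Q : Scheme.{u}} (f : Q ⟶ P) (g : P ⟶ S) {d : Q ⟶ S} (h : f ≫ g = d) (v : G ⟶ H)
    [IsMonHom v] {T : Over Q} (i : T ⟶ Red.bc f (Red.bc g G))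
    (hk : (i ≫ (ActBC.bcCompIso f g G h).hom) ≫ (Over.pullback d).map v = 1) :
    i ≫ (Over.pullback f).map ((Over.pullback g).map v) = 1 := by
  rw [Category.assoc, ← ActBC.bcCompIso_hom_naturality, ← Category.assoc] at hk
  rwa [← cancel_mono (ActBC.bcCompIso f g H h).hom, MonObj.one_comp]

/-- finiteness on the closed fibre gives affineness -/
theorem isAffineHom_of_finite_bR (R : CommRingCat.{u}) [IsLocalRing R] (X Y : Over (Spec R)) [GrpObj X] [GrpObj Y]
    [Smooth X.hom] [QuasiCompact X.hom] [IsSeparated X.hom] [IsAffineHom Y.hom] [LocallyOfFinitePresentation Y.hom]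
    (v : X ⟶ Y) [IsMonHom v] (hconn : ∀ t : Spec R, _root_.IsConnected (X.hom.base ⁻¹' {t}))
    {K : Type u} [Field K] (b : Spec (CommRingCat.of K) ⟶ Spec R) (hb : b (closedPoint K) = closedPoint R)
    [IsFinite ((Over.pullback b).map v).left]
    (hs : Red.IsReductiveOver (AlgebraicClosure ((Spec R).residueField (closedPoint R)))
      (Red.geomFibre (S := Spec R) (closedPoint R) X)) : IsAffineHom X.hom := by
  haveI := locallyQuasiFinite_closedFibre (A := R) v b hb
  haveI := isFinite_of_closedFibre (A := R) hconn v _ rfl hs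
  rw [← Over.w v]
  infer_instance

variable [Smooth G.hom] [QuasiCompact G.hom] [IsSeparated G.hom]
  (hconn : ∀ s : S, _root_.IsConnected (G.hom.base ⁻¹' {s}))
  (haff : ∀ s : S, IsAffine (pullback G.hom (S.fromSpecResidueField s)))

include hconn haff in
/-- base changes to valuation rings are reductive when the closed fibre is -/
theorem isReductive_bc_valuation {Ω : Type u} [Field Ω] [IsAlgClosed Ω] (V : ValuationSubring Ω)
    (c : Spec (CommRingCat.of V) ⟶ S) {s : S} (hc : c (closedPoint V) = s)
    (hs : Red.IsReductiveOver (AlgebraicClosure (S.residueField s)) (Red.geomFibre s G)) :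
    Red.IsReductive (Red.bc c G) := by
  haveI : Smooth (Red.bc c G).hom := inferInstanceAs (Smooth (pullback.snd G.hom c))
  haveI : QuasiCompact (Red.bc c G).hom := inferInstanceAs (QuasiCompact (pullback.snd G.hom c))
  haveI : IsSeparated (Red.bc c G).hom := inferInstanceAs (IsSeparated (pullback.snd G.hom c))
  haveI : IsAlgClosed (FractionRing V) :=
    IsAlgClosed.of_ringEquiv Ω (FractionRing V) (IsLocalization.algEquiv (nonZeroDivisors V) Ω (FractionRing V)).toRingEquiv
  have hconn' := Groth.L25.Extension.isConnected_fibre_bc c G hconn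
  haveI : IsAffine (Red.bc c G).left :=
    Groth.L08.AffVal.isAffine_of_affine_fibres (irrFib_of_connected hconn') (affine_fibres_bc haff c)
  haveI : IsAffineHom (Red.bc c G).hom := inferInstance
  obtain ⟨U, hU, hred⟩ := Groth.L25.RedOpen.exists_nhd_reductive hconn' (closedPoint V)
    ((Groth.L25.RedOpen.reductive_bcComp_iff c _ rfl).2 (Groth.L25.RedOpen.isReductiveOver_of_geomFibre _ (by
      rw [Scheme.Hom.comp_apply, Groth.L08.Borel.geomPt_apply, hc]) hs))
  exact ⟨inferInstance, inferInstance, fun t => hred _ (Red.geomPt t)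
    ((IsLocalRing.specializes_closedPoint _).mem_open U.2 hU)⟩

include hconn haff in
/-- generalisations of reductive fibres are reductive -/
theorem isReductiveOver_of_local (R : CommRingCat.{u}) [IsLocalRing R] (σ : Spec R ⟶ S) {Ω : Type u} [Field Ω]
    [IsAlgClosed Ω] (ψ : R →+* Ω) {s : S} (hσ : σ (closedPoint R) = s)
    (hs : Red.IsReductiveOver (AlgebraicClosure (S.residueField s)) (Red.geomFibre s G)) :
    Red.IsReductiveOver Ω (Red.bc (Spec.map (CommRingCat.ofHom ψ) ≫ σ) G) := by
  obtain ⟨V, φ, hφ, hφm⟩ := Groth.L08.MonoRed.exists_dominating ψ (IsLocalRing.maximalIdeal R)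
    (IsLocalRing.le_maximalIdeal (RingHom.ker_ne_top _))
  let c : Spec (CommRingCat.of V) ⟶ Spec R := Spec.map (CommRingCat.ofHom φ)
  have hc : c (closedPoint V) = closedPoint R := PrimeSpectrum.ext hφm
  have hgen : baseMap V Ω ≫ c ≫ σ = Spec.map (CommRingCat.ofHom ψ) ≫ σ := by
    rw [← Category.assoc]
    congr 1
    show Spec.map _ ≫ Spec.map _ = _
    rw [← Spec.map_comp]
    congr 1
    exact CommRingCat.hom_ext (RingHom.ext hφ)
  exact (Groth.L25.RedOpen.reductive_bcComp_iff (c ≫ σ) (baseMap V Ω) hgen).1 (Groth.L08.MonoRed.isReductiveOver_geom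
    (isReductive_bc_valuation hconn haff V (c ≫ σ) (by rw [Scheme.Hom.comp_apply, hc, hσ]) hs) _)

variable [IsAffineHom H.hom] [LocallyOfFinitePresentation H.hom] (u : G ⟶ H) [IsMonHom u]
  (hcentral : ∀ (k : Type u) [Field k] [IsAlgClosed k] (b : Spec (CommRingCat.of k) ⟶ S),
    Red.IsReductiveOver k (Red.bc b G) → ∀ (T : Over (Spec (CommRingCat.of k))) [GrpObj T] (i : T ⟶ Red.bc b G)
      [IsMonHom i] [IsClosedImmersion i.left], Red.IsTorus T → i ≫ (Over.pullback b).map u = 1 →
        ∀ (X : Over (Spec (CommRingCat.of k))) (t : X ⟶ T) (g : X ⟶ Red.bc b G), (t ≫ i) * g = g * (t ≫ i))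

include hconn haff hcentral in
/-- **affineness over the local ring** -/
theorem isAffineHom_of_generic_finite (R : CommRingCat.{u}) [IsLocalRing R] (σ : Spec R ⟶ S) {Ω : Type u} [Field Ω]
    [IsAlgClosed Ω] (ψ : R →+* Ω) [IsFinite ((Over.pullback (Spec.map (CommRingCat.ofHom ψ) ≫ σ)).map u).left]
    {s : S} (hσ : σ (closedPoint R) = s)
    (hs : Red.IsReductiveOver (AlgebraicClosure (S.residueField s)) (Red.geomFibre s G)) :
    IsAffineHom (Red.bc σ G).hom := by
  obtain ⟨V, φ, hφ, hφm⟩ := Groth.L08.MonoRed.exists_dominating ψ (IsLocalRing.maximalIdeal R)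
    (IsLocalRing.le_maximalIdeal (RingHom.ker_ne_top _))
  let c₀ : Spec (CommRingCat.of V) ⟶ Spec R := Spec.map (CommRingCat.ofHom φ)
  let c := c₀ ≫ σ
  have hc₀ : c₀ (closedPoint V) = closedPoint R := PrimeSpectrum.ext hφm
  have hcs : c (closedPoint V) = s := by rw [Scheme.Hom.comp_apply, hc₀, hσ]
  have hgen : baseMap V Ω ≫ c = Spec.map (CommRingCat.ofHom ψ) ≫ σ := by
    rw [← Category.assoc]
    congr 1
    show Spec.map _ ≫ Spec.map _ = _
    rw [← Spec.map_comp]
    congr 1
    exact CommRingCat.hom_ext (RingHom.ext hφ)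
  have hGV := isReductive_bc_valuation hconn haff V c hcs hs
  haveI : IsAffineHom (Red.bc c H).hom := MorphismProperty.pullback_snd (P := @IsAffineHom) H.hom c inferInstance
  haveI : LocallyOfFinitePresentation (Red.bc c H).hom :=
    inferInstanceAs (LocallyOfFinitePresentation (pullback.snd H.hom c))
  haveI : IsMonHom ((Over.pullback c).map u) := Groth.L25.MonoClosed.isMonHom_pullbackMap c u
  haveI := isFinite_map_map (baseMap V Ω) c hgen u
  haveI : IsAlgClosed (IsLocalRing.ResidueField V) := Groth.L08.MonoRed.isAlgClosed_residue (V := V) (K := Ω)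
  let b : Spec (CommRingCat.of (IsLocalRing.ResidueField V)) ⟶ S := closedMap V ≫ c
  have hbs : b (closedPoint (IsLocalRing.ResidueField V)) = s := by
    rw [Scheme.Hom.comp_apply, show closedMap V (closedPoint (IsLocalRing.ResidueField V)) = closedPoint V from
      Groth.L08.MonoRed.apply_closedPoint _, hcs]
  have hb := Groth.L25.RedOpen.isReductiveOver_of_geomFibre b hbs hs
  haveI : IsMonHom ((Over.pullback b).map u) := Groth.L25.MonoClosed.isMonHom_pullbackMap b u
  haveI : LocallyOfFiniteType (Red.bc b H).hom := inferInstanceAs (LocallyOfFiniteType (pullback.snd H.hom b))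
  haveI hfin : IsFinite ((Over.pullback b).map u).left :=
    isFinite_of_killed_tori hb ((Over.pullback b).map u) fun T _ i _ _ hT hk => by
      let e := ActBC.bcCompIso (closedMap V) c G (d := b) rfl
      haveI : IsIso e.inv.left := inferInstanceAs (IsIso ((Over.forget _).map e.inv))
      let i' : T ⟶ Red.bc (closedMap V) (Red.bc c G) := i ≫ e.inv
      haveI : IsClosedImmersion i'.left := inferInstanceAs (IsClosedImmersion (i.left ≫ e.inv.left))
      haveI : IsMonHom i' := inferInstanceAs (IsMonHom (i ≫ (ActBC.bcCompIso (closedMap V) c G (d := b) rfl).inv))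
      refine isTrivialGrp_of_killed_closed (Ω := Ω) hGV ((Over.pullback c).map u) i' hT (fun X t g => ?_) ?_
      · haveI : IsMonHom e.hom := inferInstanceAs (IsMonHom (ActBC.bcCompIso (closedMap V) c G (d := b) rfl).hom)
        rw [← cancel_mono e.hom, MonObj.mul_comp, MonObj.mul_comp]
        simp only [i', Category.assoc, Iso.inv_hom_id, Category.comp_id]
        exact hcentral _ b hb T i hT hk X t (g ≫ e.hom)
      · refine killed_of_map_map (closedMap V) c (d := b) rfl u i' ?_
        simp only [i', e, Category.assoc, Iso.inv_hom_id_assoc]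
        exact hk
  -- over the local ring
  haveI : Smooth (Red.bc σ G).hom := inferInstanceAs (Smooth (pullback.snd G.hom σ))
  haveI : QuasiCompact (Red.bc σ G).hom := inferInstanceAs (QuasiCompact (pullback.snd G.hom σ))
  haveI : IsSeparated (Red.bc σ G).hom := inferInstanceAs (IsSeparated (pullback.snd G.hom σ))
  haveI : IsAffineHom (Red.bc σ H).hom := MorphismProperty.pullback_snd (P := @IsAffineHom) H.hom σ inferInstance
  haveI : LocallyOfFinitePresentation (Red.bc σ H).hom :=
    inferInstanceAs (LocallyOfFinitePresentation (pullback.snd H.hom σ))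
  haveI : IsSeparated (Red.bc σ H).hom := inferInstance
  haveI : IsMonHom ((Over.pullback σ).map u) := Groth.L25.MonoClosed.isMonHom_pullbackMap σ u
  let bR : Spec (CommRingCat.of (IsLocalRing.ResidueField V)) ⟶ Spec R := closedMap V ≫ c₀
  have hbR : bR ≫ σ = b := Category.assoc _ _ _
  haveI := isFinite_map_map bR σ hbR u
  exact isAffineHom_of_finite_bR R (Red.bc σ G) (Red.bc σ H) ((Over.pullback σ).map u)
    (Groth.L25.Extension.isConnected_fibre_bc σ G hconn) bR (by
      rw [Scheme.Hom.comp_apply, show closedMap V (closedPoint (IsLocalRing.ResidueField V)) = closedPoint V from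
        Groth.L08.MonoRed.apply_closedPoint _, hc₀])
    ((Groth.L25.RedOpen.reductive_bcComp_iff σ _ rfl).2 (Groth.L25.RedOpen.isReductiveOver_of_geomFibre _ (by
      rw [Scheme.Hom.comp_apply, Groth.L08.Borel.geomPt_apply, hσ]) hs))

end Groth.L25.AffRed
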