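import Groth.Agent.L25.AffRed.FieldHom

/-!
# Extending morphisms of base changes along factorisations
-/

set_option autoImplicit false
set_option linter.unusedSectionVars false
set_option backward.isDefEq.respectTransparency.types false
set_option backward.isDefEq.respectTransparency false
set_option backward.defeqAttrib.useBackward true

universe u

open CategoryTheory CategoryTheory.Limits MonoidalCategory CartesianMonoidalCategory MonObj AlgebraicGeometry
open Groth.L25.LimHom

noncomputable section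

namespace Groth.L25.AffRed

variable {A B C D : Scheme.{u}}

/-- extending twice -/
theorem mk_mk {b : C ⟶ B} {a : B ⟶ A} {h : C ⟶ A} (hc : b ≫ a = h) {d : D ⟶ C} {k : D ⟶ A} (hd : d ≫ h = k)
    {x : D ⟶ B} (hx : d ≫ b = x) (hk : x ≫ a = k) {X Y : Over A} (v : Red.bc a X ⟶ Red.bc a Y) :
    LimHom.mk hd (LimHom.mk hc v) = LimHom.mk hk v := by
  refine bc_ext ?_
  rw [mk_fst, mk_fst, mk_fst, ← Category.assoc]
  congr 1
  exact map_map_fst X.hom d b hd hc hx hk

theorem cmp_inv_fst {b : C ⟶ B} {a : B ⟶ A} {h : C ⟶ A} (hc : b ≫ a = h) (X : Over A) :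
    (cmp hc X).inv.left ≫ pullback.fst (Red.bc a X).hom b ≫ pullback.fst X.hom a = pullback.fst X.hom h := by
  rw [← cmp_fst hc X, ← Category.assoc, ← Over.comp_left, Iso.inv_hom_id]
  exact Category.id_comp _

theorem cmp_inv_snd {b : C ⟶ B} {a : B ⟶ A} {h : C ⟶ A} (hc : b ≫ a = h) (X : Over A) :
    (cmp hc X).inv.left ≫ pullback.snd (Red.bc a X).hom b = pullback.snd X.hom h :=
  Over.w (cmp hc X).inv

/-- extending a conjugate by comparisons -/
theorem mk_conj {σ : D ⟶ C} {θ : C ⟶ B} {j : B ⟶ A} {jL : C ⟶ A} (hL : θ ≫ j = jL) {jD : D ⟶ B}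
    (hi : σ ≫ θ = jD) {ξ : D ⟶ A} (hσ : σ ≫ jL = ξ) (hD : jD ≫ j = ξ) {X Y : Over A}
    (v : Red.bc θ (Red.bc j X) ⟶ Red.bc θ (Red.bc j Y)) :
    LimHom.mk hσ ((cmp hL X).inv ≫ v ≫ (cmp hL Y).hom) = (cmp hD X).inv ≫ LimHom.mk hi v ≫ (cmp hD Y).hom := by
  have key : q hσ X ≫ (cmp hL X).inv.left = (cmp hD X).inv.left ≫ q hi (Red.bc j X) := by
    apply pullback.hom_ext
    · apply pullback.hom_ext
      · simp only [Category.assoc, q, pullback.lift_fst, Category.comp_id]
        rw [cmp_inv_fst hL X, pullback.lift_fst]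
        exact (cmp_inv_fst hD X).symm
      · simp only [Category.assoc, q, pullback.lift_fst, Category.comp_id]
        have e1 : ∀ {E : Scheme.{u}} {e : E ⟶ B}, pullback.fst (Red.bc j X).hom e ≫ pullback.snd X.hom j =
            pullback.snd (Red.bc j X).hom e ≫ e := fun {E e} => pullback.condition
        rw [e1, e1, reassoc_of% cmp_inv_snd hL X, reassoc_of% cmp_inv_snd hD X, pullback.lift_snd_assoc,
          Category.assoc, hi]
    · simp only [Category.assoc, q, pullback.lift_snd]
      rw [cmp_inv_snd hL X, pullback.lift_snd, reassoc_of% cmp_inv_snd hD X]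
  refine bc_ext ?_
  rw [mk_fst]
  simp only [Over.comp_left, Category.assoc]
  rw [cmp_fst, cmp_fst, reassoc_of% mk_fst hi v, reassoc_of% key]

end Groth.L25.AffRed
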