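import Groth.Agent.L25.AffRed.NeutralFibre
import Groth.Agent.L25.AffRed.Limit

/-!
# The neutral subgroup of a group with affine fibres
-/

set_option autoImplicit false
set_option linter.unusedSectionVars false
set_option linter.style.haveILetI false
set_option backward.isDefEq.respectTransparency.types false

universe u

open CategoryTheory CategoryTheory.Limits MonoidalCategory CartesianMonoidalCategory MonObj GrpObj AlgebraicGeometry

noncomputable section

namespace Groth.L25.AffRed

/-- open subgroups of groups with affine fibres have affine fibres -/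
theorem affine_fibres_open_subgroup {S : Scheme.{u}} {G G0 : Over S} [GrpObj G] [GrpObj G0]
    [LocallyOfFiniteType G.hom] [QuasiCompact G0.hom] (i : G0 ⟶ G) [IsMonHom i] [IsOpenImmersion i.left] [IsSeparated G.hom]
    (s : S) (h : IsAffine (pullback G.hom (S.fromSpecResidueField s))) :
    IsAffine (pullback G0.hom (S.fromSpecResidueField s)) := by
  let b := S.fromSpecResidueField s
  let F : Type u := S.residueField s
  let Gs : Over (Spec (CommRingCat.of F)) := Red.bc b G
  let G0s : Over (Spec (CommRingCat.of F)) := Red.bc b G0
  letI : GrpObj Gs := inferInstanceAs (GrpObj (Red.bc b G))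
  letI : GrpObj G0s := inferInstanceAs (GrpObj (Red.bc b G0))
  let v : G0s ⟶ Gs := (Over.pullback b).map i
  haveI : IsMonHom v := Groth.L25.MonoClosed.isMonHom_pullbackMap b i
  haveI : IsOpenImmersion v.left :=
    MorphismProperty.of_isPullback (P := @IsOpenImmersion) (Groth.L08.Borel.isPullback_bc_map' b i).flip ‹_›
  haveI : Mono v := Over.mono_of_mono_left v
  haveI : LocallyOfFiniteType Gs.hom := inferInstanceAs (LocallyOfFiniteType (pullback.snd G.hom b))
  haveI : LocallyOfFiniteType G0s.hom := by rw [← Over.w v]; infer_instance
  haveI : IsSeparated Gs.hom := inferInstanceAs (IsSeparated (pullback.snd G.hom b))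
  haveI : QuasiCompact G0s.hom := inferInstanceAs (QuasiCompact (pullback.snd G0.hom b))
  haveI : QuasiCompact (v.left ≫ Gs.hom) := by rw [Over.w v]; infer_instance
  haveI : QuasiCompact v.left := QuasiCompact.of_comp v.left Gs.hom
  haveI := Groth.L08.MonoClosed.isClosedImmersion_of_field v
  haveI : IsAffine Gs.left := h
  exact isAffine_of_isAffineHom v.left

/-- reductivity over a neighbourhood gives reductive geometric fibres there -/
theorem isReductive_geomFibre_of_bc {S : Scheme.{u}} {G : Over S} [GrpObj G] {U : S.Opens}
    (h : Red.IsReductive (Red.bc U.ι G)) {s : S} (hs : s ∈ U) :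
    Red.IsReductiveOver (AlgebraicClosure (S.residueField s)) (Red.geomFibre s G) := by
  obtain ⟨σ, hσ⟩ := Groth.L08.Borel.exists_geomPt_lift U.ι (t := s) ⟨⟨s, hs⟩, rfl⟩
  exact (Groth.L25.RedOpen.reductive_bcComp_iff U.ι σ hσ).1 (Groth.L08.MonoRed.isReductiveOver_geom h σ)

end Groth.L25.AffRed
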