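import Groth.Agent.L25.AffRed.Spread
import Groth.Agent.L08.Borel.NeutralConn
import Groth.Agent.L08.Borel.FlatNhd
import Groth.Agent.L08.Borel.BorelRadical
import Groth.Agent.L08.Chev.Comp

/-!
# Identity components of the geometric fibres and the neutral open subgroup
-/

set_option autoImplicit false
set_option linter.unusedSectionVars false
set_option linter.style.haveILetI false
set_option backward.isDefEq.respectTransparency.types false
set_option maxHeartbeats 1000000

universe u

open CategoryTheory CategoryTheory.Limits MonoidalCategory CartesianMonoidalCategory MonObj GrpObj AlgebraicGeometry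

noncomputable section

namespace Groth.L25.AffRed

/-- connected open subgroups of a smooth group over a field are isomorphic -/
theorem exists_iso_of_connected_open {k : Type u} [Field k] {H U V : Over (Spec (CommRingCat.of k))} [GrpObj H]
    [GrpObj U] [GrpObj V] [Smooth H.hom] (a : U ⟶ H) [IsMonHom a] [IsOpenImmersion a.left] (b : V ⟶ H) [IsMonHom b]
    [IsOpenImmersion b.left] [ConnectedSpace U.left] [ConnectedSpace V.left] :
    ∃ e : U ≅ V, IsMonHom e.hom := by
  obtain ⟨H₀, gH, j, hj⟩ := Groth.L08.Chev.exists_idComp H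
  haveI := hj.hom; haveI := hj.openImm; haveI := hj.connectedSpace; haveI := hj.smooth
  haveI : Mono j := Over.mono_of_mono_left j
  have key : ∀ (W : Over (Spec (CommRingCat.of k))) [GrpObj W] (w : W ⟶ H) [IsMonHom w] [IsOpenImmersion w.left]
      [ConnectedSpace W.left], ∃ e : W ≅ H₀, IsMonHom e.hom := by
    intro W _ w _ _ _
    obtain ⟨z, hz⟩ := hj.exists_lift_hom w
    haveI : IsMonHom z := Groth.L08.Borel.isMonHom_of_comp_mono z j w hz
    haveI : IsOpenImmersion z.left := by
      haveI : IsOpenImmersion (z.left ≫ j.left) := by rw [← Over.comp_left, hz]; infer_instance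
      exact IsOpenImmersion.of_comp z.left j.left
    haveI : Mono z := Over.mono_of_mono_left z
    haveI : Smooth W.hom := by rw [← Over.w w]; infer_instance
    have := Groth.L08.Borel.isIso_of_open_subgroup (irrFib_of_connected
      (fun s => Groth.L08.Borel.isConnected_fibre_field H₀ s)) z
    exact ⟨asIso z, inferInstanceAs (IsMonHom z)⟩
  obtain ⟨e₁, h₁⟩ := key U a
  obtain ⟨e₂, h₂⟩ := key V b
  haveI := h₁; haveI := h₂
  haveI : IsMonHom e₂.symm.hom := inferInstanceAs (IsMonHom e₂.inv)
  exact ⟨e₁ ≪≫ e₂.symm, inferInstanceAs (IsMonHom (e₁.hom ≫ e₂.inv))⟩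

variable {S : Scheme.{u}} {G G0 : Over S} [GrpObj G] [GrpObj G0] [Smooth G.hom] (i : G0 ⟶ G) [IsMonHom i]
  [IsOpenImmersion i.left] (hconn : ∀ s : S, _root_.IsConnected (G0.hom.base ⁻¹' {s}))

include i hconn in
/-- the geometric fibre of the neutral subgroup is the identity component of the geometric fibre -/
theorem exists_iso_neutral_fibre (s : S) {U : Over (Spec (CommRingCat.of (AlgebraicClosure (S.residueField s))))}
    [GrpObj U] (j : U ⟶ Red.geomFibre s G) [IsMonHom j] [IsOpenImmersion j.left] [ConnectedSpace U.left] :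
    ∃ e : U ≅ Red.geomFibre s G0, IsMonHom e.hom := by
  let b := Red.geomPt s
  haveI : IsMonHom ((Over.pullback b).map i) := Groth.L25.MonoClosed.isMonHom_pullbackMap b i
  haveI : IsOpenImmersion ((Over.pullback b).map i).left :=
    MorphismProperty.of_isPullback (P := @IsOpenImmersion) (Groth.L08.Borel.isPullback_bc_map' b i).flip ‹_›
  haveI : Smooth G0.hom := by rw [← Over.w i]; infer_instance
  haveI : Smooth (Red.geomFibre s G).hom := inferInstanceAs (Smooth (pullback.snd G.hom b))
  haveI : IrreducibleSpace ↥(Red.geomFibre s G0).left := irrFib_of_connected hconn _ b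
  exact exists_iso_of_connected_open j ((Over.pullback b).map i)

include i hconn in
/-- the set of semisimple identity components is the semisimple locus of the neutral subgroup -/
theorem semisimple_neutral_iff (s : S) :
    (∃ (U : Over (Spec (CommRingCat.of (AlgebraicClosure (S.residueField s))))) (_ : GrpObj U)
        (j : U ⟶ Red.geomFibre s G) (_ : IsMonHom j), IsOpenImmersion j.left ∧
          Red.IsSemisimpleOver (AlgebraicClosure (S.residueField s)) U) ↔
      Red.IsSemisimpleOver (AlgebraicClosure (S.residueField s)) (Red.geomFibre s G0) := by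
  constructor
  · rintro ⟨U, _, j, hj, hjo, hU⟩
    haveI := hj; haveI := hjo; haveI := hU.1.2.2.1
    obtain ⟨e, he⟩ := exists_iso_neutral_fibre i hconn s j
    haveI := he
    exact Groth.L25.RedOpen.isSemisimpleOver_of_iso e hU
  · intro h
    exact ⟨_, inferInstance, (Over.pullback (Red.geomPt s)).map i, Groth.L25.MonoClosed.isMonHom_pullbackMap _ i,
      MorphismProperty.of_isPullback (P := @IsOpenImmersion) (Groth.L08.Borel.isPullback_bc_map' _ i).flip ‹_›, h⟩

include i hconn in
/-- the set of reductive identity components is the reductive locus of the neutral subgroup -/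
theorem reductive_neutral_iff (s : S) :
    (∃ (U : Over (Spec (CommRingCat.of (AlgebraicClosure (S.residueField s))))) (_ : GrpObj U)
        (j : U ⟶ Red.geomFibre s G) (_ : IsMonHom j), IsOpenImmersion j.left ∧
          Red.IsReductiveOver (AlgebraicClosure (S.residueField s)) U) ↔
      Red.IsReductiveOver (AlgebraicClosure (S.residueField s)) (Red.geomFibre s G0) := by
  constructor
  · rintro ⟨U, _, j, hj, hjo, hU⟩
    haveI := hj; haveI := hjo; haveI := hU.2.2.1
    obtain ⟨e, he⟩ := exists_iso_neutral_fibre i hconn s j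
    haveI := he
    exact Groth.L25.RedOpen.isReductiveOver_of_iso e hU
  · intro h
    exact ⟨_, inferInstance, (Over.pullback (Red.geomPt s)).map i, Groth.L25.MonoClosed.isMonHom_pullbackMap _ i,
      MorphismProperty.of_isPullback (P := @IsOpenImmersion) (Groth.L08.Borel.isPullback_bc_map' _ i).flip ‹_›, h⟩

/-- semisimplicity over a neighbourhood gives semisimple geometric fibres there -/
theorem isSemisimple_geomFibre_of_bc {U : S.Opens} (h : Red.IsSemisimple (Red.bc U.ι G)) {s : S} (hs : s ∈ U) :
    Red.IsSemisimpleOver (AlgebraicClosure (S.residueField s)) (Red.geomFibre s G) := by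
  obtain ⟨σ, hσ⟩ := Groth.L08.Borel.exists_geomPt_lift U.ι (t := s) ⟨⟨s, hs⟩, rfl⟩
  obtain ⟨V, hV, hV'⟩ := Groth.L25.RedOpen.exists_nhd_semisimple ⟨h.1, h.2.1, fun t => (h.2.2 t).1⟩
    (Red.geomPt (⟨s, hs⟩ : U.toScheme)) (h.2.2 _)
  refine Groth.L25.RedOpen.isSemisimpleOver_of_iso (ActBC.bcCompIso σ U.ι G hσ) (hV' _ σ ?_)
  rw [Groth.L08.Borel.geomPt_apply] at hV
  have e : (σ (IsLocalRing.closedPoint _) : U.toScheme) = ⟨s, hs⟩ := U.ι.isOpenEmbedding.injective (by
    rw [← Scheme.Hom.comp_apply, hσ, Groth.L08.Borel.geomPt_apply]; rfl)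
  rw [e]; exact hV

end Groth.L25.AffRed
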