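import Groth.Agent.L25.AffRed.Noetherian

/-!
# Reductive neighbourhoods
-/

set_option autoImplicit false
set_option linter.unusedSectionVars false
set_option linter.style.haveILetI false
set_option backward.isDefEq.respectTransparency.types false
set_option maxHeartbeats 1000000

universe u

open CategoryTheory CategoryTheory.Limits MonoidalCategory CartesianMonoidalCategory MonObj GrpObj AlgebraicGeometry
open IsLocalRing (closedPoint)

attribute [-instance] CategoryTheory.Hom.commGroup
noncomputable section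

namespace Groth.L25.AffRed

variable {S : Scheme.{u}} {G : Over S} [GrpObj G]

/-- reductivity of composite open restrictions -/
theorem isReductive_image (W : S.Opens) (U : W.toScheme.Opens) (h : Red.IsReductive (Red.bc U.ι (Red.bc W.ι G)))
    (hW : IsAffineHom (Red.bc W.ι G).hom) (hsm : Smooth G.hom) : Red.IsReductive (Red.bc (W.ι ''ᵁ U).ι G) := by
  haveI := hW; haveI := hsm
  let e : U.toScheme ⟶ S := U.ι ≫ W.ι
  have hle : W.ι ''ᵁ U ≤ W := Scheme.Opens.ι_image_le _ _
  refine ⟨?_, inferInstanceAs (Smooth (pullback.snd G.hom _)), fun t => ?_⟩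
  · let c := ActBC.bcCompIso (S.homOfLE hle) W.ι G (Scheme.homOfLE_ι S hle)
    haveI : IsAffineHom (Red.bc (S.homOfLE hle) (Red.bc W.ι G)).hom :=
      MorphismProperty.pullback_snd (P := @IsAffineHom) (Red.bc W.ι G).hom (S.homOfLE hle) inferInstance
    haveI : IsIso c.inv.left := inferInstanceAs (IsIso ((Over.forget _).map c.inv))
    rw [← Over.w c.inv]
    infer_instance
  obtain ⟨x, hx, hxt⟩ : (W.ι ''ᵁ U).ι t ∈ W.ι '' (U : Set W.toScheme) := t.2
  obtain ⟨τ, hτ⟩ := Groth.L08.Borel.exists_pt_lift_etale e (Red.geomPt t ≫ (W.ι ''ᵁ U).ι) (⟨x, hx⟩ : U.toScheme) (by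
    rw [Scheme.Hom.comp_apply (Red.geomPt t), Groth.L08.Borel.geomPt_apply, ← hxt]
    rfl)
  refine (Groth.L25.RedOpen.reductive_bcComp_iff _ _ rfl).2 ?_
  exact (Groth.L25.RedOpen.reductive_bcComp_iff W.ι (τ ≫ U.ι) (by rw [Category.assoc]; exact hτ)).1
    ((Groth.L25.RedOpen.reductive_bcComp_iff U.ι τ rfl).1 (Groth.L08.MonoRed.isReductiveOver_geom h τ))

/-- affineness near a reductive fibre gives a reductive neighbourhood -/
theorem exists_reductive_of_affine [Smooth G.hom] (hconn : ∀ s : S, _root_.IsConnected (G.hom.base ⁻¹' {s})) (s : S)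
    (hs : Red.IsReductiveOver (AlgebraicClosure (S.residueField s)) (Red.geomFibre s G)) (W : S.Opens) (hsW : s ∈ W)
    (hW : IsAffineHom (Red.bc W.ι G).hom) : ∃ U : S.Opens, s ∈ U ∧ Red.IsReductive (Red.bc U.ι G) := by
  haveI := hW
  haveI : Smooth (Red.bc W.ι G).hom := inferInstanceAs (Smooth (pullback.snd G.hom W.ι))
  obtain ⟨U, hsU, hU⟩ := Groth.L25.RedOpen.exists_affine_reductive (G := Red.bc W.ι G)
    (Groth.L25.Extension.isConnected_fibre_bc W.ι G hconn) ⟨s, hsW⟩ (reductive_geomFibre_bc W.ι rfl hs)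
  exact ⟨W.ι ''ᵁ U, ⟨⟨s, hsW⟩, hsU, rfl⟩, isReductive_image W U hU hW inferInstance⟩

theorem isAffineHom_of_noetherian_local' (R : CommRingCat.{u}) [IsLocalRing R] [IsNoetherianRing R]
    {H : Over (Spec R)} [GrpObj H] [Smooth H.hom] [QuasiCompact H.hom] [IsSeparated H.hom]
    (hconn : ∀ t : Spec R, _root_.IsConnected (H.hom.base ⁻¹' {t}))
    (haff : ∀ t : Spec R, IsAffine (pullback H.hom ((Spec R).fromSpecResidueField t)))
    (hs : Red.IsReductiveOver (AlgebraicClosure ((Spec R).residueField (closedPoint R)))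
      (Red.geomFibre (S := Spec R) (closedPoint R) H)) : IsAffineHom H.hom :=
  isAffineHom_of_noetherian_local (R := R) hconn haff _ rfl hs

/-- **a reductive fibre has a reductive neighbourhood, over a locally Noetherian base** -/
theorem exists_reductive_nhd_noetherian [IsLocallyNoetherian S] [Smooth G.hom] [QuasiCompact G.hom]
    (hconn : ∀ s : S, _root_.IsConnected (G.hom.base ⁻¹' {s}))
    (haff : ∀ s : S, IsAffine (pullback G.hom (S.fromSpecResidueField s))) (s : S)
    (hs : Red.IsReductiveOver (AlgebraicClosure (S.residueField s)) (Red.geomFibre s G)) :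
    ∃ U : S.Opens, s ∈ U ∧ Red.IsReductive (Red.bc U.ι G) := by
  haveI := isSeparated_of_connected_fibres hconn
  let σ := S.fromSpecStalk s
  haveI : Smooth (Red.bc σ G).hom := inferInstanceAs (Smooth (pullback.snd G.hom σ))
  haveI : QuasiCompact (Red.bc σ G).hom := inferInstanceAs (QuasiCompact (pullback.snd G.hom σ))
  haveI : IsSeparated (Red.bc σ G).hom := inferInstanceAs (IsSeparated (pullback.snd G.hom σ))
  haveI : IsLocalRing (S.presheaf.stalk s) := S.toLocallyRingedSpace.isLocalRing s
  obtain ⟨W, hsW, hW⟩ := exists_affine_nhd_of_stalk s (isAffineHom_of_noetherian_local' (S.presheaf.stalk s)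
    (Groth.L25.Extension.isConnected_fibre_bc σ G hconn) (affine_fibres_bc haff σ)
    (reductive_geomFibre_bc σ Scheme.fromSpecStalk_closedPoint hs))
  exact exists_reductive_of_affine hconn s hs W hsW hW

end Groth.L25.AffRed
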