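import Groth.Agent.L25.AffRed.NormalCover
import Groth.Agent.L20.Chevalley.Reduction
import Groth.Agent.L23.Chow.SchemeSurj
import Groth.Agent.L27.EtGlue.Complete
import Groth.Agent.L22.IntegralImage
import Groth.Agent.S0568

/-!
# Reductive fibres have reductive neighbourhoods over Noetherian bases
-/

set_option autoImplicit false
set_option linter.unusedSectionVars false
set_option linter.style.haveILetI false
set_option backward.isDefEq.respectTransparency.types false
set_option maxHeartbeats 1000000

universe u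

open CategoryTheory CategoryTheory.Limits MonoidalCategory CartesianMonoidalCategory MonObj GrpObj AlgebraicGeometry
open IsLocalRing (closedPoint)

attribute [-instance] CategoryTheory.Hom.commGroup
noncomputable section

namespace Groth.L25.AffRed

/-- reductive geometric fibres along base change -/
theorem reductive_geomFibre_bc {S P : Scheme.{u}} {G : Over S} [GrpObj G] (f : P ⟶ S) {t : P} {s : S} (h : f t = s)
    (hs : Red.IsReductiveOver (AlgebraicClosure (S.residueField s)) (Red.geomFibre s G)) :
    Red.IsReductiveOver (AlgebraicClosure (P.residueField t)) (Red.geomFibre t (Red.bc f G)) :=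
  (Groth.L25.RedOpen.reductive_bcComp_iff f _ rfl).2 (Groth.L25.RedOpen.isReductiveOver_of_geomFibre _ (by
    rw [Scheme.Hom.comp_apply, Groth.L08.Borel.geomPt_apply, h]) hs)

/-- the closed point goes to the closed point under a surjection -/
theorem specMap_closedPoint_of_surjective {R R' : Type u} [CommRing R] [IsLocalRing R] [CommRing R'] [IsLocalRing R']
    (f : R →+* R') (hf : Function.Surjective f) :
    Spec.map (CommRingCat.ofHom f) (closedPoint R') = closedPoint R := by
  haveI : IsLocalHom f := IsLocalHom.of_surjective f hf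
  exact IsLocalRing.comap_closedPoint f

variable {R : Type u} [CommRing R] [IsLocalRing R] {G : Over (Spec (CommRingCat.of R))} [GrpObj G] [Smooth G.hom]
  [QuasiCompact G.hom] [IsSeparated G.hom]

/-- affineness over a Nagata local ring -/
theorem isAffine_of_nagata (hR : CAlg.IsNagata R)
    (hconn : ∀ s : ↥(Spec (CommRingCat.of R)), _root_.IsConnected (G.hom.base ⁻¹' {s}))
    (haff : ∀ s : ↥(Spec (CommRingCat.of R)), IsAffine (pullback G.hom ((Spec (CommRingCat.of R)).fromSpecResidueField s)))
    (s₀ : ↥(Spec (CommRingCat.of R))) (hs₀ : s₀ = closedPoint R)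
    (hs : Red.IsReductiveOver (AlgebraicClosure ((Spec (CommRingCat.of R)).residueField s₀)) (Red.geomFibre s₀ G)) :
    IsAffine G.left := by
  haveI : IsNoetherianRing R := hR.1
  let J : Type u := minimalPrimes R
  haveI : Finite J := (minimalPrimes.finite_of_isNoetherianRing R).to_subtype
  haveI hprime : ∀ p : J, (p.1 : Ideal R).IsPrime := fun p => p.2.1.1
  haveI hloc : ∀ p : J, IsLocalRing (R ⧸ p.1) := fun p =>
    IsLocalRing.of_surjective' (Ideal.Quotient.mk p.1) Ideal.Quotient.mk_surjective
  let ι' : ∀ p : J, Spec (CommRingCat.of (R ⧸ p.1)) ⟶ Spec (CommRingCat.of R) := fun p =>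
    Spec.map (CommRingCat.ofHom (Ideal.Quotient.mk p.1))
  haveI : ∀ p : J, Smooth (Red.bc (ι' p) G).hom := fun p => MorphismProperty.pullback_snd _ _ ‹Smooth G.hom›
  haveI : ∀ p : J, IsSeparated (Red.bc (ι' p) G).hom := fun p =>
    MorphismProperty.pullback_snd _ _ ‹IsSeparated G.hom›
  haveI : ∀ p : J, QuasiCompact (Red.bc (ι' p) G).hom := fun p =>
    MorphismProperty.pullback_snd _ _ ‹QuasiCompact G.hom›
  choose B hBr hBa hBfin hBinj hBaff using fun p : J =>
    exists_affine_cover (R ⧸ p.1) (G := Red.bc (ι' p) G) (hR.2 p.1)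
      (Groth.L25.Extension.isConnected_fibre_bc (ι' p) G hconn) (affine_fibres_bc haff (ι' p))
      (closedPoint (R ⧸ p.1)) rfl (reductive_geomFibre_bc (ι' p)
        ((specMap_closedPoint_of_surjective _ Ideal.Quotient.mk_surjective).trans hs₀.symm) hs)
  let g : ∀ p : J, Spec (CommRingCat.of (B p)) ⟶ Spec (CommRingCat.of (R ⧸ p.1)) := fun p =>
    Spec.map (CommRingCat.ofHom (algebraMap (R ⧸ p.1) (B p)))
  let W : J → Scheme.{u} := fun p => (Red.bc (g p) (Red.bc (ι' p) G)).left
  let c : ∀ p : J, W p ⟶ G.left := fun p =>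
    pullback.fst (Red.bc (ι' p) G).hom (g p) ≫ pullback.fst G.hom (ι' p)
  haveI : ∀ p : J, IsFinite (g p) := fun p => (IsFinite.SpecMap_iff _).2 (RingHom.finite_algebraMap.2 (hBfin p))
  haveI : ∀ p : J, IsClosedImmersion (ι' p) := fun p =>
    IsClosedImmersion.spec_of_surjective _ Ideal.Quotient.mk_surjective
  haveI : ∀ p : J, IsFinite (c p) := fun p => by
    haveI : IsFinite (pullback.fst (Red.bc (ι' p) G).hom (g p)) := MorphismProperty.pullback_fst _ _ inferInstance
    haveI : IsFinite (pullback.fst G.hom (ι' p)) := MorphismProperty.pullback_fst _ _ inferInstance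
    infer_instance
  haveI : IsFinite (Sigma.desc c) := Groth.L23.Chow.isFinite_sigmaDesc c
  haveI : ∀ p : J, IsAffine (W p) := hBaff
  haveI : Surjective (Sigma.desc c) := ⟨fun x => by
    obtain ⟨P, hP, hle⟩ := Ideal.exists_minimalPrimes_le (I := ⊥) (J := (G.hom x).asIdeal) bot_le
    let p : J := ⟨P, hP⟩
    obtain ⟨y, hy⟩ : G.hom x ∈ Set.range (ι' p) := by
      have h1 : Set.range (ι' p) = PrimeSpectrum.zeroLocus (RingHom.ker (Ideal.Quotient.mk p.1) : Set R) :=
        range_comap_of_surjective _ _ Ideal.Quotient.mk_surjective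
      rw [h1, Ideal.mk_ker]
      exact hle
    haveI : FaithfulSMul (R ⧸ p.1) (B p) := (faithfulSMul_iff_algebraMap_injective _ _).2 (hBinj p)
    haveI : Algebra.IsIntegral (R ⧸ p.1) (B p) := Algebra.IsIntegral.of_finite _ _
    obtain ⟨Q, -, hQ, hQy⟩ := Ideal.exists_ideal_over_prime_of_isIntegral y.asIdeal (⊥ : Ideal (B p)) (by
      intro a ha
      rw [Ideal.mem_comap, Ideal.mem_bot] at ha
      rw [(map_eq_zero_iff _ (hBinj p)).1 ha]
      exact zero_mem _)
    let z : Spec (CommRingCat.of (B p)) := ⟨Q, hQ⟩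
    have hz : g p z = y := PrimeSpectrum.ext hQy
    obtain ⟨x₁, hx₁, hx₁'⟩ := Scheme.Pullback.exists_preimage_pullback (f := G.hom) (g := ι' p) x y hy.symm
    obtain ⟨x₂, hx₂, -⟩ := Scheme.Pullback.exists_preimage_pullback (f := (Red.bc (ι' p) G).hom) (g := g p) x₁ z
      (hx₁'.trans hz.symm)
    refine ⟨Sigma.ι W p x₂, ?_⟩
    rw [← Scheme.Hom.comp_apply, Sigma.ι_desc]
    show (pullback.fst (Red.bc (ι' p) G).hom (g p) ≫ pullback.fst G.hom (ι' p)) x₂ = x
    rw [Scheme.Hom.comp_apply, hx₂, hx₁]⟩
  exact Groth.L20.Chevalley.isAffine_of_surjective_universallyClosed (Sigma.desc c)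

/-- **affineness over a Noetherian local ring** -/
theorem isAffineHom_of_noetherian_local [IsNoetherianRing R]
    (hconn : ∀ s : ↥(Spec (CommRingCat.of R)), _root_.IsConnected (G.hom.base ⁻¹' {s}))
    (haff : ∀ s : ↥(Spec (CommRingCat.of R)), IsAffine (pullback G.hom ((Spec (CommRingCat.of R)).fromSpecResidueField s)))
    (s₀ : ↥(Spec (CommRingCat.of R))) (hs₀ : s₀ = closedPoint R)
    (hs : Red.IsReductiveOver (AlgebraicClosure ((Spec (CommRingCat.of R)).residueField s₀)) (Red.geomFibre s₀ G)) :
    IsAffineHom G.hom := by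
  haveI : CompactSpace G.left := QuasiCompact.compactSpace_of_compactSpace G.hom
  haveI : QuasiSeparatedSpace G.left := quasiSeparatedSpace_of_quasiSeparated G.hom
  let C := AdicCompletion (IsLocalRing.maximalIdeal R) R
  haveI : IsNoetherianRing C :=
    Groth.L01.AdicNoeth.isNoetherianRing_adicCompletion _ (IsLocalRing.maximalIdeal R).fg_of_isNoetherianRing
  have hff := Groth.L27.EtGlue.faithfullyFlat_completion R
  have hCN : CAlg.IsNagata C := Groth.Agent.S0568.result C
  let t₁ : Spec (CommRingCat.of C) ⟶ Spec (CommRingCat.of R) := Spec.map (CommRingCat.ofHom (algebraMap R C))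
  haveI : Flat t₁ := (HasRingHomProperty.Spec_iff (P := @Flat)).2 hff.flat
  have ht₁ : t₁ (closedPoint C) = s₀ := by
    rw [hs₀]
    haveI : IsLocalHom (algebraMap R C) := inferInstance
    exact IsLocalRing.comap_closedPoint (algebraMap R C)
  haveI : IsAffine G.left := Groth.L22.IntImage.isAffine_of_pointwise G.hom fun s => by
    obtain ⟨z, hz⟩ := (RingHom.FaithfullyFlat.iff_flat_and_comap_surjective.1 hff).2 s
    refine ⟨Spec (CommRingCat.of C), t₁, inferInstance, inferInstance, ⟨z, hz⟩, ?_⟩
    let G' := Red.bc t₁ G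
    haveI : Smooth G'.hom := MorphismProperty.pullback_snd _ _ ‹Smooth G.hom›
    haveI : IsSeparated G'.hom := MorphismProperty.pullback_snd _ _ ‹IsSeparated G.hom›
    haveI : QuasiCompact G'.hom := MorphismProperty.pullback_snd _ _ ‹QuasiCompact G.hom›
    exact isAffine_of_nagata (G := G') hCN (Groth.L25.Extension.isConnected_fibre_bc t₁ G hconn)
      (affine_fibres_bc haff t₁) (closedPoint C) rfl (reductive_geomFibre_bc t₁ ht₁ hs)
  infer_instance

end Groth.L25.AffRed
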