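import Groth.Agent.L25.AffRed.SemisimpleLocal
import Groth.Agent.L25.RedOpen.Semisimple
import Groth.Agent.L08.ActSepConn
import Groth.Agent.L08.GrpQC
import Groth.Agent.L19.Limit.ProperNearPoint
import Groth.Agent.L02.ConsP.PairDescends

/-!
# A semisimple fibre has a semisimple neighbourhood
-/

set_option autoImplicit false
set_option linter.unusedSectionVars false
set_option linter.style.haveILetI false
set_option backward.isDefEq.respectTransparency.types false
set_option maxHeartbeats 1000000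

universe u

open CategoryTheory CategoryTheory.Limits MonoidalCategory CartesianMonoidalCategory MonObj GrpObj AlgebraicGeometry
open IsLocalRing (closedPoint)

attribute [-instance] CategoryTheory.Hom.commGroup
noncomputable section

namespace Groth.L25.AffRed

variable {S : Scheme.{u}} {G : Over S} [GrpObj G]

/-- smooth groups with connected fibres are separated -/
theorem isSeparated_of_connected_fibres [Smooth G.hom]
    (hconn : ∀ s : S, _root_.IsConnected (G.hom.base ⁻¹' {s})) : IsSeparated G.hom :=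
  Groth.L08.ActSep.isSeparated_of_connected hconn _ (Groth.L08.ActSep.surjective_leftMul G)

/-- affineness spreads from the local ring -/
theorem exists_affine_nhd_of_stalk [Smooth G.hom] [QuasiCompact G.hom] [IsSeparated G.hom] (s : S)
    (h : IsAffineHom (Red.bc (S.fromSpecStalk s) G).hom) :
    ∃ W : S.Opens, s ∈ W ∧ IsAffineHom (Red.bc W.ι G).hom := by
  let σ := S.fromSpecStalk s
  have hq : Groth.L19.Limit.qcqsfp G.hom := ⟨⟨inferInstance, inferInstance⟩, inferInstance⟩
  obtain ⟨W, hsW, hW⟩ := Groth.L19.Limit.exists_nhd_pb G.hom (𝟙 S) s _root_.L02.ConsP.descends_isAffineHom' hq (by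
    have h1 : pullback.fst (𝟙 S) (S.fromSpecStalk s) = pullback.snd (𝟙 S) (S.fromSpecStalk s) ≫ σ := by
      rw [← pullback.condition, Category.comp_id]
    refine (Groth.L19.Limit.pb_iff_of_isPullback (IsPullback.of_hasPullback G.hom _)).1 ?_
    have h2 : IsPullback (pullback.map G.hom (pullback.fst (𝟙 S) σ) G.hom σ (𝟙 _) (pullback.snd (𝟙 S) σ) (𝟙 _)
        (by simp) (by rw [Category.comp_id]; exact h1))
        (pullback.snd G.hom (pullback.fst (𝟙 S) σ)) (Red.bc σ G).hom (pullback.snd (𝟙 S) σ) := by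
      refine IsPullback.of_right ?_ (pullback.lift_snd _ _ _) (IsPullback.of_hasPullback G.hom σ)
      rw [pullback.lift_fst, Category.comp_id, ← h1]
      exact IsPullback.of_hasPullback _ _
    exact MorphismProperty.of_isPullback (P := @IsAffineHom) h2 h)
  exact ⟨(𝟙 S) ⁻¹ᵁ W, hsW,
    (Groth.L19.Limit.pb_iff_of_isPullback (IsPullback.of_hasPullback G.hom _)).2 hW⟩

theorem isAffineHom_of_semisimple_closedFibre' (R : CommRingCat.{u}) [IsLocalRing R] (H : Over (Spec R)) [GrpObj H]
    [Smooth H.hom] [QuasiCompact H.hom] [IsSeparated H.hom]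
    (hconn : ∀ t : Spec R, _root_.IsConnected (H.hom.base ⁻¹' {t}))
    {K : Type u} [Field K] [IsAlgClosed K] (b : Spec (CommRingCat.of K) ⟶ Spec R)
    (hb : b (closedPoint K) = closedPoint R) (hss : Red.IsSemisimpleOver K (Red.bc b H))
    (hs : Red.IsReductiveOver (AlgebraicClosure ((Spec R).residueField (closedPoint R)))
      (Red.geomFibre (S := Spec R) (closedPoint R) H)) : IsAffineHom H.hom :=
  isAffineHom_of_semisimple_closedFibre (A := R) (G := H) hconn b hb hss _ rfl hs

/-- **a semisimple geometric fibre has a semisimple neighbourhood** -/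
theorem exists_semisimple_nhd [Smooth G.hom] [QuasiCompact G.hom]
    (hconn : ∀ s : S, _root_.IsConnected (G.hom.base ⁻¹' {s})) (s : S)
    (hs : Red.IsSemisimpleOver (AlgebraicClosure (S.residueField s)) (Red.geomFibre s G)) :
    ∃ U : S.Opens, s ∈ U ∧ Red.IsSemisimple (Red.bc U.ι G) := by
  haveI := isSeparated_of_connected_fibres hconn
  let σ₀ := S.fromSpecStalk s
  haveI : Smooth (Red.bc σ₀ G).hom := inferInstanceAs (Smooth (pullback.snd G.hom σ₀))
  haveI : QuasiCompact (Red.bc σ₀ G).hom := inferInstanceAs (QuasiCompact (pullback.snd G.hom σ₀))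
  haveI : IsSeparated (Red.bc σ₀ G).hom := inferInstanceAs (IsSeparated (pullback.snd G.hom σ₀))
  haveI hloc : IsLocalRing (S.presheaf.stalk s) := S.toLocallyRingedSpace.isLocalRing s
  haveI : IsLocalRing (CommRingCat.of (S.presheaf.stalk s)) := hloc
  let K := AlgebraicClosure (S.residueField s)
  let b : Spec (CommRingCat.of K) ⟶ Spec (S.presheaf.stalk s) :=
    Spec.map (CommRingCat.ofHom (algebraMap (S.residueField s) K)) ≫ Spec.map (S.residue s)
  have hb : b ≫ σ₀ = Red.geomPt s := Category.assoc _ _ _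
  have hclosed : b (closedPoint K) = closedPoint (S.presheaf.stalk s) := by
    refine (S.fromSpecStalk s).isEmbedding.injective ?_
    rw [← Scheme.Hom.comp_apply, Scheme.fromSpecStalk_closedPoint]
    exact (congrArg (fun f => f.base (closedPoint K)) hb).trans (Groth.L08.Borel.geomPt_apply s _)
  haveI : IsAffineHom (Red.bc σ₀ G).hom := by
    refine isAffineHom_of_semisimple_closedFibre' (S.presheaf.stalk s) (Red.bc σ₀ G)
      (Groth.L25.Extension.isConnected_fibre_bc σ₀ G hconn) b hclosed ?_ ?_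
    · haveI : IsMonHom (ActBC.bcCompIso b σ₀ G hb).symm.hom :=
        inferInstanceAs (IsMonHom (ActBC.bcCompIso b σ₀ G hb).inv)
      exact Groth.L25.RedOpen.isSemisimpleOver_of_iso (ActBC.bcCompIso b σ₀ G hb).symm hs
    · exact (Groth.L25.RedOpen.reductive_bcComp_iff σ₀ _ rfl).2
        (Groth.L25.RedOpen.isReductiveOver_of_geomFibre _ (by
          rw [Scheme.Hom.comp_apply, Groth.L08.Borel.geomPt_apply]
          exact Scheme.fromSpecStalk_closedPoint) hs.1)
  obtain ⟨W, hsW, hW⟩ := exists_affine_nhd_of_stalk s ‹_›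
  let G₁ := Red.bc W.ι G
  haveI : IsAffineHom G₁.hom := hW
  haveI : Smooth G₁.hom := inferInstanceAs (Smooth (pullback.snd G.hom W.ι))
  have hconn₁ := Groth.L25.Extension.isConnected_fibre_bc W.ι G hconn
  obtain ⟨U', hsU', hred⟩ := Groth.L25.RedOpen.exists_affine_reductive (G := G₁) hconn₁ ⟨s, hsW⟩
    ((Groth.L25.RedOpen.reductive_bcComp_iff W.ι _ rfl).2 (Groth.L25.RedOpen.isReductiveOver_of_geomFibre _ (by
      rw [Scheme.Hom.comp_apply, Groth.L08.Borel.geomPt_apply]; rfl) hs.1))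
  let e' : U'.toScheme ⟶ S := U'.ι ≫ W.ι
  obtain ⟨σ, hσ⟩ := Groth.L08.Borel.exists_geomPt_lift e' (t := s) ⟨⟨⟨s, hsW⟩, hsU'⟩, rfl⟩
  let i : Red.bc σ (Red.bc U'.ι G₁) ≅ Red.geomFibre s G :=
    ActBC.bcCompIso σ U'.ι G₁ rfl ≪≫ ActBC.bcCompIso (σ ≫ U'.ι) W.ι G (by rw [Category.assoc]; exact hσ)
  haveI : IsMonHom i.symm.hom := inferInstanceAs (IsMonHom
    ((ActBC.bcCompIso (σ ≫ U'.ι) W.ι G (by rw [Category.assoc]; exact hσ)).inv ≫
      (ActBC.bcCompIso σ U'.ι G₁ rfl).inv))
  obtain ⟨U'', hsU'', hU''⟩ := Groth.L25.RedOpen.exists_nhd_semisimple hred σ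
    (Groth.L25.RedOpen.isSemisimpleOver_of_iso i.symm hs)
  let e : U''.toScheme ⟶ S := U''.ι ≫ U'.ι ≫ W.ι
  refine ⟨e.opensRange, ⟨⟨σ (closedPoint _), hsU''⟩, ?_⟩, ?_, inferInstanceAs (Smooth (pullback.snd G.hom _)), fun t => ?_⟩
  · show (U'.ι ≫ W.ι) (σ (closedPoint _)) = s
    rw [← Scheme.Hom.comp_apply, hσ, Groth.L08.Borel.geomPt_apply]
  · have hle : e.opensRange ≤ W := by
      rintro _ ⟨x, rfl⟩
      exact (U'.ι (U''.ι x)).2
    let c := ActBC.bcCompIso (S.homOfLE hle) W.ι G (Scheme.homOfLE_ι S hle)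
    haveI : IsAffineHom (Red.bc (S.homOfLE hle) G₁).hom :=
      MorphismProperty.pullback_snd (P := @IsAffineHom) G₁.hom (S.homOfLE hle) inferInstance
    haveI : IsIso c.inv.left := inferInstanceAs (IsIso ((Over.forget _).map c.inv))
    rw [← Over.w c.inv]
    infer_instance
  · obtain ⟨x, hx⟩ : e.opensRange.ι t ∈ Set.range e.base := t.2
    obtain ⟨τ, hτ⟩ := Groth.L08.Borel.exists_pt_lift_etale e (Red.geomPt t ≫ e.opensRange.ι) x (by
      rw [hx, Scheme.Hom.comp_apply, Groth.L08.Borel.geomPt_apply])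
    let j : Red.bc (τ ≫ U''.ι) (Red.bc U'.ι G₁) ≅ Red.geomFibre t (Red.bc e.opensRange.ι G) :=
      ActBC.bcCompIso (τ ≫ U''.ι) U'.ι G₁ rfl ≪≫ ActBC.bcCompIso ((τ ≫ U''.ι) ≫ U'.ι) W.ι G
        (by simp only [e, Category.assoc] at hτ ⊢; exact hτ) ≪≫
        (ActBC.bcCompIso (Red.geomPt t) e.opensRange.ι G rfl).symm
    haveI : IsMonHom j.hom := inferInstanceAs (IsMonHom ((ActBC.bcCompIso (τ ≫ U''.ι) U'.ι G₁ rfl).hom ≫
      (ActBC.bcCompIso ((τ ≫ U''.ι) ≫ U'.ι) W.ι G
        (by simp only [e, Category.assoc] at hτ ⊢; exact hτ)).hom ≫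
        (ActBC.bcCompIso (Red.geomPt t) e.opensRange.ι G rfl).inv))
    exact Groth.L25.RedOpen.isSemisimpleOver_of_iso j (hU'' _ (τ ≫ U''.ι) (by
      rw [Scheme.Hom.comp_apply]; exact (τ (closedPoint _)).2))

/-- affineness is local on the base -/
theorem isAffineHom_of_forall_nhd (h : ∀ s : S, ∃ U : S.Opens, s ∈ U ∧ IsAffineHom (Red.bc U.ι G).hom) :
    IsAffineHom G.hom := by
  choose U hsU hU using h
  refine IsZariskiLocalAtTarget.of_iSup_eq_top (P := @IsAffineHom) U
    (top_le_iff.1 fun s _ => TopologicalSpace.Opens.mem_iSup.2 ⟨s, hsU s⟩) fun s => ?_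
  haveI : IsAffineHom (pullback.snd G.hom (U s).ι) := hU s
  rw [show G.hom ∣_ U s = (pullbackRestrictIsoRestrict G.hom (U s)).inv ≫ pullback.snd _ _ from
    (Iso.eq_inv_comp _).2 (pullbackRestrictIsoRestrict_hom_morphismRestrict G.hom (U s))]
  infer_instance

end Groth.L25.AffRed
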