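import Groth.Agent.L25.AffRed.LocalAffine
import Groth.Agent.L25.AffRed.Chars
import Groth.Agent.L25.AffRed.Mk
import Groth.Agent.L25.AffRed.Spread
import Groth.Agent.L25.Extend.Main
import Groth.Agent.L05.NeronFinite.Dedekind
import Groth.Agent.L25.RedOpen.Apply
import Groth.Prelude.Def_Found
import Mathlib.RingTheory.DedekindDomain.IntegralClosure

/-!
# Groups with reductive closed fibre become affine over a finite cover of an N-2 local domain
-/

set_option autoImplicit false
set_option linter.unusedSectionVars false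
set_option linter.style.haveILetI false
set_option backward.isDefEq.respectTransparency.types false
set_option maxHeartbeats 1000000

universe u

open CategoryTheory CategoryTheory.Limits MonoidalCategory CartesianMonoidalCategory MonObj GrpObj AlgebraicGeometry
open Groth.L25.LimHom (cmp cmp_fst isMonHom_cmp isMonHom_cmp_inv mk_eq map_eq_iff)
open Groth.L25.SplitSub (bcDS isMonHom_bcDS)
open IsLocalRing (closedPoint)

attribute [-instance] CategoryTheory.Hom.commGroup
noncomputable section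

namespace Groth.L25.AffRed

/-- extending a homomorphism gives a homomorphism -/
theorem isMonHom_mk {A B C : Scheme.{u}} {b : C ⟶ B} {a : B ⟶ A} {h : C ⟶ A} (hc : b ≫ a = h) {X Y : Over A}
    [GrpObj X] [GrpObj Y] (v : Red.bc a X ⟶ Red.bc a Y) [IsMonHom v] : IsMonHom (LimHom.mk hc v) := by
  rw [mk_eq]
  haveI := isMonHom_cmp hc Y
  haveI := isMonHom_cmp_inv hc X
  haveI : IsMonHom ((Over.pullback b).map v) := Groth.L25.MonoClosed.isMonHom_pullbackMap b v
  infer_instance

/-- the product of affine schemes over the base is affine -/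
theorem isAffineHom_tensor {S : Scheme.{u}} (X Y : Over S) [IsAffineHom X.hom] [IsAffineHom Y.hom] :
    IsAffineHom (X ⊗ Y).hom := by
  haveI : IsAffineHom (pullback.fst X.hom Y.hom) :=
    MorphismProperty.pullback_fst (P := @IsAffineHom) _ _ inferInstance
  exact inferInstanceAs (IsAffineHom (pullback.fst X.hom Y.hom ≫ X.hom))

theorem lfp_tensor {S : Scheme.{u}} (X Y : Over S) [LocallyOfFinitePresentation X.hom]
    [LocallyOfFinitePresentation Y.hom] : LocallyOfFinitePresentation (X ⊗ Y).hom := by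
  haveI : LocallyOfFinitePresentation (pullback.fst X.hom Y.hom) :=
    MorphismProperty.pullback_fst (P := @LocallyOfFinitePresentation) _ _ inferInstance
  exact inferInstanceAs (LocallyOfFinitePresentation (pullback.fst X.hom Y.hom ≫ X.hom))

/-- the central tori killed by a homomorphism refining the adjoint representation are trivial -/
theorem killed_fst {S P : Scheme.{u}} (b : P ⟶ S) {G X Y : Over S} [GrpObj X] [GrpObj Y] (a : G ⟶ X) (c : G ⟶ Y)
    {T : Over P} (i : T ⟶ Red.bc b G) (h : i ≫ (Over.pullback b).map (lift a c) = 1) :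
    i ≫ (Over.pullback b).map a = 1 ∧ i ≫ (Over.pullback b).map c = 1 := by
  haveI : IsMonHom ((Over.pullback b).map (fst X Y)) := Groth.L25.MonoClosed.isMonHom_pullbackMap b _
  haveI : IsMonHom ((Over.pullback b).map (snd X Y)) := Groth.L25.MonoClosed.isMonHom_pullbackMap b _
  have h1 := congrArg (· ≫ (Over.pullback b).map (fst X Y)) h
  have h2 := congrArg (· ≫ (Over.pullback b).map (snd X Y)) h
  simp only [Category.assoc, ← Functor.map_comp, lift_fst, lift_snd, MonObj.one_comp] at h1 h2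
  exact ⟨h1, h2⟩

/-- the field point factors through the point it hits -/
theorem exists_residue_factor {X : Scheme.{u}} {K : Type u} [Field K] (f : Spec (CommRingCat.of K) ⟶ X) {x : X}
    (h : f (closedPoint K) = x) :
    ∃ e : Spec (CommRingCat.of K) ⟶ Spec (X.residueField x), e ≫ X.fromSpecResidueField x = f := by
  subst h
  exact ⟨_, Scheme.descResidueField_stalkClosedPointTo_fromSpecResidueField K X f⟩

theorem exists_stalk_factor {X : Scheme.{u}} {K : Type u} [Field K] (f : Spec (CommRingCat.of K) ⟶ X) {x : X}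
    (h : f (closedPoint K) ⤳ x) :
    ∃ ψ : X.presheaf.stalk x →+* K, Spec.map (CommRingCat.ofHom ψ) ≫ X.fromSpecStalk x = f := by
  refine ⟨(X.presheaf.stalkSpecializes h ≫ Scheme.stalkClosedPointTo f).hom, ?_⟩
  show Spec.map (X.presheaf.stalkSpecializes h ≫ Scheme.stalkClosedPointTo f) ≫ _ = f
  rw [Spec.map_comp, Category.assoc, Scheme.SpecMap_stalkSpecializes_fromSpecStalk,
    Scheme.Spec_stalkClosedPointTo_fromSpecStalk]

/-- the comparison points over a domain with given fraction field -/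
theorem exists_generic_points {B L Ω : Type u} [CommRing B] [IsDomain B] [Field L] [Algebra B L] [IsFractionRing B L]
    [Field Ω] (σ : L →+* Ω) :
    ∃ (wq : Spec ((Spec (CommRingCat.of B)).residueField (genericPoint (Spec (CommRingCat.of B)))) ⟶
        Spec (CommRingCat.of L))
      (e : Spec (CommRingCat.of Ω) ⟶
        Spec ((Spec (CommRingCat.of B)).residueField (genericPoint (Spec (CommRingCat.of B))))),
      wq ≫ Spec.map (CommRingCat.ofHom (algebraMap B L)) =
          (Spec (CommRingCat.of B)).fromSpecResidueField (genericPoint (Spec (CommRingCat.of B))) ∧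
        e ≫ (Spec (CommRingCat.of B)).fromSpecResidueField (genericPoint (Spec (CommRingCat.of B))) =
          Spec.map (CommRingCat.ofHom σ) ≫ Spec.map (CommRingCat.ofHom (algebraMap B L)) ∧
        e ≫ wq = Spec.map (CommRingCat.ofHom σ) ∧
        (Spec.map (CommRingCat.ofHom σ) ≫ Spec.map (CommRingCat.ofHom (algebraMap B L))) (closedPoint Ω) =
          genericPoint (Spec (CommRingCat.of B)) := by
  let SB := Spec (CommRingCat.of B)
  let η₀ : SB := genericPoint SB
  let q := SB.fromSpecResidueField η₀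
  have hgp : η₀.asIdeal = ⊥ := by
    show (genericPoint SB).asIdeal = ⊥
    rw [genericPoint_eq_bot_of_affine]
    rfl
  obtain ⟨ψq, hψq⟩ := Spec.map_surjective q
  have hψinj : Function.Injective ψq := by
    rw [injective_iff_map_eq_zero]
    intro b hb
    have h1 : (Spec.map ψq) (closedPoint _) = η₀ := by
      rw [hψq]; exact Scheme.fromSpecResidueField_apply _ _
    have h3 : b ∈ η₀.asIdeal := by
      rw [← h1]
      show ψq b ∈ (closedPoint _).asIdeal
      rw [hb]
      exact zero_mem _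
    rwa [hgp] at h3
  let l : L →+* SB.residueField η₀ := IsFractionRing.lift (g := ψq.hom) hψinj
  let ιL : Spec (CommRingCat.of L) ⟶ SB := Spec.map (CommRingCat.ofHom (algebraMap B L))
  let wq : Spec (SB.residueField η₀) ⟶ Spec (CommRingCat.of L) := Spec.map (CommRingCat.ofHom l)
  have hwι : wq ≫ ιL = q := by
    rw [← hψq, ← Spec.map_comp]
    congr 1
    refine CommRingCat.hom_ext (RingHom.ext fun a => ?_)
    show l (algebraMap B L a) = ψq.hom a
    exact IsFractionRing.lift_algebraMap (K := L) (g := ψq.hom) hψinj a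
  have hξη : (Spec.map (CommRingCat.ofHom σ) ≫ ιL) (closedPoint Ω) = η₀ := by
    refine PrimeSpectrum.ext ?_
    rw [hgp]
    show Ideal.comap (algebraMap B L) (Ideal.comap σ (closedPoint Ω).asIdeal) = ⊥
    rw [show (closedPoint Ω).asIdeal = ⊥ from (Ideal.eq_bot_or_top _).resolve_right (closedPoint Ω).2.ne_top,
      Ideal.comap_bot_of_injective _ σ.injective, Ideal.comap_bot_of_injective _ (IsFractionRing.injective B L)]
  obtain ⟨e, he⟩ := exists_residue_factor _ hξη
  refine ⟨wq, e, hwι, he, ?_, hξη⟩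
  obtain ⟨φ, hφ⟩ := Spec.map_surjective (e ≫ wq)
  have h1 : CommRingCat.ofHom (algebraMap B L) ≫ φ =
      CommRingCat.ofHom (algebraMap B L) ≫ CommRingCat.ofHom σ := Spec.map_injective (by
    rw [Spec.map_comp, Spec.map_comp, hφ, Category.assoc, hwι, he])
  rw [← hφ]
  exact congrArg Spec.map (CommRingCat.hom_ext (IsLocalization.ringHom_ext (nonZeroDivisors B)
    (congrArg CommRingCat.Hom.hom h1)))

/-- central tori killed by `f` are trivial -/
def SeparatesCentralTori {k : Type u} [Field k] {G Y : Over (Spec (CommRingCat.of k))} [GrpObj G] [GrpObj Y]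
    (f : G ⟶ Y) : Prop :=
  ∀ (T : Over (Spec (CommRingCat.of k))) [GrpObj T] (i : T ⟶ G) [IsMonHom i] [IsClosedImmersion i.left],
    Red.IsTorus T → (∀ (X : Over (Spec (CommRingCat.of k))) (t : X ⟶ T) (g : X ⟶ G),
      (t ≫ i) * g = g * (t ≫ i)) → i ≫ f = 1 → Red.IsTrivialGrp T

theorem isMonHom_conj_cmp {D B S : Scheme.{u}} {jD : D ⟶ B} {j : B ⟶ S} {ξ : D ⟶ S} (hD : jD ≫ j = ξ)
    {X Y : Over S} [GrpObj X] [GrpObj Y] (f₀ : Red.bc ξ X ⟶ Red.bc ξ Y) [IsMonHom f₀] :
    IsMonHom ((cmp hD X).hom ≫ f₀ ≫ (cmp hD Y).inv) := by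
  haveI := isMonHom_cmp hD X
  haveI := isMonHom_cmp_inv hD Y
  infer_instance

/-- a descended homomorphism extends to the original one -/
theorem exists_mk_of_descends {D C B S : Scheme.{u}} {jD : D ⟶ B} {j : B ⟶ S} {ξ : D ⟶ S} (hD : jD ≫ j = ξ)
    {X Y : Over S} [GrpObj X] [GrpObj Y] (f₀ : Red.bc ξ X ⟶ Red.bc ξ Y) {σ : D ⟶ C} {θ : C ⟶ B}
    (h : DescendsHom σ θ ((cmp hD X).hom ≫ f₀ ≫ (cmp hD Y).inv)) (hi : σ ≫ θ = jD) :
    ∃ vL : Red.bc (θ ≫ j) X ⟶ Red.bc (θ ≫ j) Y, IsMonHom vL ∧
      ∀ hσ : σ ≫ θ ≫ j = ξ, LimHom.mk hσ vL = f₀ := by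
  obtain ⟨v, hv, hvw⟩ := h
  haveI := hv
  have hL' : θ ≫ j = θ ≫ j := rfl
  haveI := isMonHom_cmp_inv hL' X
  haveI := isMonHom_cmp hL' Y
  refine ⟨(cmp hL' X).inv ≫ v ≫ (cmp hL' Y).hom, inferInstance, fun hσ => ?_⟩
  rw [mk_conj hL' hi hσ hD, mk_eq hi, hvw hi]
  simp only [Category.assoc, Iso.inv_hom_id_assoc, Iso.inv_hom_id, Category.comp_id]

/-- separating characters over a finite extension -/
theorem exists_char_data {K Ω : Type u} [Field K] [Field Ω] [IsAlgClosed Ω] [Algebra K Ω] [Algebra.IsAlgebraic K Ω]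
    {S : Scheme.{u}} {G : Over S} [GrpObj G] [Smooth G.hom] [QuasiCompact G.hom] [IsSeparated G.hom]
    (jK : Spec (CommRingCat.of K) ⟶ S) {ξ : Spec (CommRingCat.of Ω) ⟶ S}
    (hD : Spec.map (CommRingCat.ofHom (algebraMap K Ω)) ≫ jK = ξ) (hGξ : IsAffine (Red.bc ξ G).left) :
    ∃ (m : ℕ) (L : IntermediateField K Ω) (_ : FiniteDimensional K L)
      (vL : Red.bc (Spec.map (CommRingCat.ofHom (algebraMap K L)) ≫ jK) G ⟶
        Red.bc (Spec.map (CommRingCat.ofHom (algebraMap K L)) ≫ jK) (Red.DS S (Fin m → ℤ))) (_ : IsMonHom vL),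
      ∀ hσ : Spec.map (CommRingCat.ofHom L.val.toRingHom) ≫ Spec.map (CommRingCat.ofHom (algebraMap K L)) ≫ jK = ξ,
        SeparatesCentralTori (LimHom.mk hσ vL) := by
  haveI := hGξ
  haveI : LocallyOfFiniteType (Red.bc ξ G).hom := inferInstanceAs (LocallyOfFiniteType (pullback.snd G.hom ξ))
  obtain ⟨m, f, hf, hchars⟩ := exists_chars (G := Red.bc ξ G)
  haveI := hf
  let M := Fin m → ℤ
  let Y : Over S := Red.DS S M
  haveI : Smooth Y.hom := Groth.L25.SplitSub.smooth_DS S m
  haveI := isMonHom_bcDS (N := M) ξ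
  let f₀ : Red.bc ξ G ⟶ Red.bc ξ Y := f ≫ (bcDS ξ).inv
  haveI : IsMonHom f₀ := inferInstanceAs (IsMonHom (f ≫ (bcDS ξ).inv))
  have hf₀ : SeparatesCentralTori f₀ := fun T _ i _ _ hT hc hk => hchars T i hT hc (by
    rw [show f = f₀ ≫ (bcDS ξ).hom by simp only [f₀, Category.assoc, Iso.inv_hom_id, Category.comp_id],
      ← Category.assoc, hk, MonObj.one_comp])
  let X : Over (Spec (CommRingCat.of K)) := Red.bc jK G
  let Yk : Over (Spec (CommRingCat.of K)) := Red.bc jK Y
  haveI : QuasiCompact X.hom := inferInstanceAs (QuasiCompact (pullback.snd G.hom jK))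
  haveI : IsSeparated X.hom := inferInstanceAs (IsSeparated (pullback.snd G.hom jK))
  haveI : LocallyOfFinitePresentation Yk.hom := inferInstanceAs (LocallyOfFinitePresentation (pullback.snd Y.hom jK))
  haveI := isMonHom_conj_cmp hD f₀
  obtain ⟨L, hL, hdesc⟩ := exists_finite_hom (K := K) (Ω := Ω) X Yk ((cmp hD G).hom ≫ f₀ ≫ (cmp hD Y).inv)
  obtain ⟨vL, hvm, hvL⟩ := exists_mk_of_descends hD f₀ hdesc (Spec.map_comp _ _).symm
  exact ⟨m, L, hL, vL, hvm, fun hσ => (hvL hσ).symm ▸ hf₀⟩

/-- characters of the generic fibre extend over a normal base -/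
theorem exists_extended_chars {S S' : Scheme.{u}} [IsIntegral S'] [IsLocallyNoetherian S'] (fA : S' ⟶ S)
    (hS : Pi1.IsNormalScheme S') {G : Over S} [GrpObj G] [Smooth G.hom]
    (hconn : ∀ s : S', _root_.IsConnected ((Red.bc fA G).hom.base ⁻¹' {s})) {m : ℕ}
    {L Ω : Scheme.{u}} {jL : L ⟶ S} {ιL : L ⟶ S'} (hι : ιL ≫ fA = jL)
    {wq : Spec (S'.residueField (genericPoint S')) ⟶ L} (hw : wq ≫ ιL = S'.fromSpecResidueField (genericPoint S'))
    {σ : Ω ⟶ L} {e : Ω ⟶ Spec (S'.residueField (genericPoint S'))} (hew : e ≫ wq = σ)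
    {ξ : Ω ⟶ S} {ξB : Ω ⟶ S'} (he : e ≫ S'.fromSpecResidueField (genericPoint S') = ξB) (hξB : ξB ≫ fA = ξ)
    (hσ : σ ≫ jL = ξ) (vL : Red.bc jL G ⟶ Red.bc jL (Red.DS S (Fin m → ℤ))) [IsMonHom vL] :
    ∃ χ : Red.bc fA G ⟶ Red.bc fA (Red.DS S (Fin m → ℤ)), IsMonHom χ ∧ LimHom.mk hξB χ = LimHom.mk hσ vL := by
  let Y := Red.DS S (Fin m → ℤ)
  let q := S'.fromSpecResidueField (genericPoint S')
  have hwq : wq ≫ jL = q ≫ fA := by rw [← hι, ← Category.assoc, hw]
  haveI := isMonHom_mk hwq vL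
  haveI := isMonHom_cmp (rfl : q ≫ fA = q ≫ fA) G
  haveI := isMonHom_cmp_inv (rfl : q ≫ fA = q ≫ fA) Y
  haveI : Smooth (Red.bc fA G).hom := inferInstanceAs (Smooth (pullback.snd G.hom fA))
  let uη : Groth.L25.Extend.Hη (Red.bc fA G) ⟶ Red.bc q (Red.bc fA Y) :=
    (cmp rfl G).hom ≫ LimHom.mk hwq vL ≫ (cmp rfl Y).inv
  haveI : IsMonHom uη := inferInstanceAs (IsMonHom ((cmp rfl G).hom ≫ LimHom.mk hwq vL ≫ (cmp rfl Y).inv))
  obtain ⟨χ, hχm, hχ⟩ := Groth.L25.Extend.exists_extension (Red.bc fA G) (Red.bc fA Y)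
    (Groth.L25.RedOpen.connectedSpace_fibre hconn) hS
    (Groth.L25.Locus.isMultTypeFT_of_isTorus (Groth.L25.Locus.isTorus_bc (Groth.L01.Unip.isTorus_DS S m) fA)) uη
  refine ⟨χ, hχm, ?_⟩
  have hχq : LimHom.mk (rfl : q ≫ fA = q ≫ fA) χ = LimHom.mk hwq vL := by
    rw [mk_eq, hχ]
    simp only [uη, Category.assoc, Iso.inv_hom_id_assoc, Iso.inv_hom_id, Category.comp_id]
  have he2 : e ≫ q ≫ fA = ξ := by rw [reassoc_of% he, hξB]
  rw [← mk_mk rfl he2 he hξB χ, hχq, mk_mk hwq he2 hew hσ vL]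

/-- **affineness from separating characters** -/
theorem isAffineHom_bc_of_chars {A : Type u} [CommRing A] [IsLocalRing A] {G : Over (Spec (CommRingCat.of A))}
    [GrpObj G] [Smooth G.hom] [QuasiCompact G.hom] [IsSeparated G.hom]
    (hconn : ∀ s : ↥(Spec (CommRingCat.of A)), _root_.IsConnected (G.hom.base ⁻¹' {s}))
    (haff : ∀ s : ↥(Spec (CommRingCat.of A)), IsAffine (pullback G.hom ((Spec (CommRingCat.of A)).fromSpecResidueField s)))
    (s₀ : ↥(Spec (CommRingCat.of A)))
    (hs : Red.IsReductiveOver (AlgebraicClosure ((Spec (CommRingCat.of A)).residueField s₀)) (Red.geomFibre s₀ G))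
    {S' : Scheme.{u}} (fA : S' ⟶ Spec (CommRingCat.of A)) {Ω : Type u} [Field Ω] [IsAlgClosed Ω]
    {ξ : Spec (CommRingCat.of Ω) ⟶ Spec (CommRingCat.of A)} (hGξ : Red.IsReductiveOver Ω (Red.bc ξ G))
    {ξB : Spec (CommRingCat.of Ω) ⟶ S'} (hξB : ξB ≫ fA = ξ) {Y : Over (Spec (CommRingCat.of A))} [GrpObj Y]
    [IsAffineHom Y.hom] [LocallyOfFinitePresentation Y.hom] (χ : Red.bc fA G ⟶ Red.bc fA Y) [IsMonHom χ]
    (hsep : SeparatesCentralTori (LimHom.mk hξB χ))
    (hpts : ∀ p : S', ∃ t : S', p ⤳ t ∧ fA t = s₀ ∧ ξB (closedPoint Ω) ⤳ t) :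
    IsAffineHom (Red.bc fA G).hom := by
  let G' := Red.bc fA G
  let Y' := Red.bc fA Y
  haveI : Smooth G'.hom := inferInstanceAs (Smooth (pullback.snd G.hom fA))
  haveI : IsSeparated G'.hom := inferInstanceAs (IsSeparated (pullback.snd G.hom fA))
  haveI : QuasiCompact G'.hom := inferInstanceAs (QuasiCompact (pullback.snd G.hom fA))
  have hconn' := Groth.L25.Extension.isConnected_fibre_bc fA G hconn
  have haff' := affine_fibres_bc haff fA
  obtain ⟨C⟩ := exists_chart G
  let a : G' ⟶ Red.bc fA (GLA C.d A) := (Over.pullback fA).map (adjoint C)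
  haveI : IsMonHom a := Groth.L25.MonoClosed.isMonHom_pullbackMap fA (adjoint C)
  haveI : IsAffineHom (Red.bc fA (GLA C.d A)).hom :=
    MorphismProperty.pullback_snd (P := @IsAffineHom) _ fA inferInstance
  haveI : LocallyOfFinitePresentation (Red.bc fA (GLA C.d A)).hom :=
    inferInstanceAs (LocallyOfFinitePresentation (pullback.snd (GLA C.d A).hom fA))
  haveI : IsAffineHom Y'.hom := MorphismProperty.pullback_snd (P := @IsAffineHom) _ fA inferInstance
  haveI : LocallyOfFinitePresentation Y'.hom := inferInstanceAs (LocallyOfFinitePresentation (pullback.snd Y.hom fA))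
  let Hb : Over S' := Red.bc fA (GLA C.d A) ⊗ Y'
  haveI : IsAffineHom Hb.hom := isAffineHom_tensor _ _
  haveI : LocallyOfFinitePresentation Hb.hom := lfp_tensor _ _
  let u : G' ⟶ Hb := lift a χ
  haveI : IsMonHom u := inferInstanceAs (IsMonHom (lift a χ))
  have hcentral : ∀ (k : Type u) [Field k] [IsAlgClosed k] (b : Spec (CommRingCat.of k) ⟶ S'),
      Red.IsReductiveOver k (Red.bc b G') → ∀ (T : Over (Spec (CommRingCat.of k))) [GrpObj T] (i : T ⟶ Red.bc b G')
        [IsMonHom i] [IsClosedImmersion i.left], Red.IsTorus T → i ≫ (Over.pullback b).map u = 1 →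
          ∀ (X : Over (Spec (CommRingCat.of k))) (t : X ⟶ T) (g : X ⟶ Red.bc b G'),
            (t ≫ i) * g = g * (t ≫ i) := by
    intro k _ _ b hb T _ i _ _ hT hk X t g
    let c := ActBC.bcCompIso b fA G (d := b ≫ fA) rfl
    haveI : IsMonHom c.hom := inferInstanceAs (IsMonHom (ActBC.bcCompIso b fA G (d := b ≫ fA) rfl).hom)
    haveI : IsIso c.hom.left := inferInstanceAs (IsIso ((Over.forget _).map c.hom))
    haveI : IsClosedImmersion (i ≫ c.hom).left := inferInstanceAs (IsClosedImmersion (i.left ≫ c.hom.left))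
    have hkill := killed_map_map b fA (d := b ≫ fA) rfl (adjoint C) i (killed_fst b a χ i hk).1
    have h := central_of_killed C (b ≫ fA) (i ≫ c.hom)
      ((Groth.L25.RedOpen.reductive_bcComp_iff fA b rfl).1 hb) hT hkill X t (g ≫ c.hom)
    rw [← cancel_mono c.hom, MonObj.mul_comp, MonObj.mul_comp]
    simpa only [Category.assoc] using h
  -- finiteness at the generic point
  have hGB : Red.IsReductiveOver Ω (Red.bc ξB G') := (Groth.L25.RedOpen.reductive_bcComp_iff fA ξB hξB).2 hGξ
  haveI : IsMonHom ((Over.pullback ξB).map u) := Groth.L25.MonoClosed.isMonHom_pullbackMap ξB u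
  haveI : LocallyOfFiniteType (Red.bc ξB Hb).hom := inferInstanceAs (LocallyOfFiniteType (pullback.snd Hb.hom ξB))
  haveI hfin : IsFinite ((Over.pullback ξB).map u).left :=
    isFinite_of_killed_tori hGB ((Over.pullback ξB).map u) fun T _ i _ _ hT hk => by
      haveI := isMonHom_cmp hξB G
      let c := (cmp hξB G).hom
      haveI : IsIso c.left := inferInstanceAs (IsIso ((Over.forget _).map (cmp hξB G).hom))
      haveI : IsClosedImmersion (i ≫ c).left := inferInstanceAs (IsClosedImmersion (i.left ≫ c.left))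
      haveI : IsMonHom (i ≫ c) := inferInstanceAs (IsMonHom (i ≫ (cmp hξB G).hom))
      have hk₀ : (i ≫ c) ≫ LimHom.mk hξB χ = 1 := by
        rw [mk_eq]
        simp only [c, Category.assoc, Iso.hom_inv_id_assoc]
        rw [← Category.assoc, (killed_fst ξB a χ i hk).2]
        haveI := isMonHom_cmp hξB Y
        exact MonObj.one_comp _
      refine hsep T (i ≫ c) hT (fun X t g => ?_) hk₀
      have h := hcentral Ω ξB hGB T i hT hk X t (g ≫ (cmp hξB G).inv)
      haveI : IsMonHom c := inferInstanceAs (IsMonHom (cmp hξB G).hom)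
      have h' := congrArg (· ≫ c) h
      simp only [MonObj.mul_comp, Category.assoc, c, Iso.inv_hom_id, Category.comp_id] at h'
      exact h'
  refine isAffineHom_of_forall_nhd fun p => ?_
  obtain ⟨t, hpt, hft, hgen⟩ := hpts p
  obtain ⟨ψ, hψ⟩ := exists_stalk_factor ξB (x := t) hgen
  haveI : IsLocalRing (S'.presheaf.stalk t) := S'.toLocallyRingedSpace.isLocalRing t
  haveI : IsFinite ((Over.pullback (Spec.map (CommRingCat.ofHom ψ) ≫ S'.fromSpecStalk t)).map u).left := by
    rw [hψ]; exact hfin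
  obtain ⟨W, htW, hW⟩ := exists_affine_nhd_of_stalk t (isAffineHom_of_generic_finite hconn' haff' u hcentral _
    (S'.fromSpecStalk t) ψ Scheme.fromSpecStalk_closedPoint ((Groth.L25.RedOpen.reductive_bcComp_iff fA _ rfl).2
      (Groth.L25.RedOpen.isReductiveOver_of_geomFibre _ (by
        rw [Scheme.Hom.comp_apply, Groth.L08.Borel.geomPt_apply, hft]) hs)))
  exact ⟨W, hpt.mem_open W.2 htW, hW⟩

variable (A : Type u) [CommRing A] [IsDomain A] [IsNoetherianRing A] [IsLocalRing A]
  {G : Over (Spec (CommRingCat.of A))} [GrpObj G] [Smooth G.hom] [QuasiCompact G.hom] [IsSeparated G.hom]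

/-- **a finite cover of an N-2 local domain over which the group is affine** -/
theorem exists_affine_cover (hA : CAlg.IsN2 A)
    (hconn : ∀ s : ↥(Spec (CommRingCat.of A)), _root_.IsConnected (G.hom.base ⁻¹' {s}))
    (haff : ∀ s : ↥(Spec (CommRingCat.of A)), IsAffine (pullback G.hom ((Spec (CommRingCat.of A)).fromSpecResidueField s)))
    (s₀ : ↥(Spec (CommRingCat.of A))) (hs₀ : s₀ = closedPoint A)
    (hs : Red.IsReductiveOver (AlgebraicClosure ((Spec (CommRingCat.of A)).residueField s₀)) (Red.geomFibre s₀ G)) :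
    ∃ (B : Type u) (_ : CommRing B) (_ : Algebra A B), Module.Finite A B ∧ Function.Injective (algebraMap A B) ∧
      IsAffine (Red.bc (Spec.map (CommRingCat.ofHom (algebraMap A B))) G).left := by
  let K := FractionRing A
  let Ω := AlgebraicClosure K
  let S := Spec (CommRingCat.of A)
  let jK : Spec (CommRingCat.of K) ⟶ S := Spec.map (CommRingCat.ofHom (algebraMap A K))
  let ξ : Spec (CommRingCat.of Ω) ⟶ S := Spec.map (CommRingCat.ofHom (algebraMap K Ω)) ≫ jK
  have hξ : Spec.map (CommRingCat.ofHom ((algebraMap K Ω).comp (algebraMap A K))) ≫ 𝟙 S = ξ := by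
    rw [Category.comp_id, CommRingCat.ofHom_comp, Spec.map_comp]
  have hGξ : Red.IsReductiveOver Ω (Red.bc ξ G) := by
    rw [← hξ]
    exact isReductiveOver_of_local hconn haff (CommRingCat.of A) (𝟙 S) _ hs₀.symm hs
  obtain ⟨m, L, hL, vL, hvm, hvL⟩ := exists_char_data (G := G) jK (ξ := ξ) rfl hGξ.1
  haveI := hL; haveI := hvm
  let B := integralClosure A L
  haveI : Module.Finite A B := hA L hL
  haveI : IsNoetherianRing B := IsNoetherianRing.of_finite A B
  haveI : IsFractionRing B L := integralClosure.isFractionRing_of_finite_extension K L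
  haveI : IsIntegrallyClosed B := integralClosure.isIntegrallyClosedOfFiniteExtension K
  let fA : Spec (CommRingCat.of B) ⟶ S := Spec.map (CommRingCat.ofHom (algebraMap A B))
  have hinjAL : Function.Injective (algebraMap A L) := by
    rw [IsScalarTower.algebraMap_eq A K L]
    exact (algebraMap K L).injective.comp (IsFractionRing.injective A K)
  refine ⟨B, inferInstance, inferInstance, inferInstance, fun x y hxy => hinjAL (congrArg Subtype.val hxy), ?_⟩
  have hS : Pi1.IsNormalScheme (Spec (CommRingCat.of B)) := Groth.L05.NeronFinite.isNormalScheme_spec fun p _ =>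
    ⟨IsLocalization.isDomain_of_atPrime (Localization.AtPrime p) p,
      isIntegrallyClosed_of_isLocalization _ p.primeCompl p.primeCompl_le_nonZeroDivisors⟩
  obtain ⟨wq, e, hwι, he, hew, hgen⟩ := exists_generic_points (B := B) (L := L) (Ω := Ω) L.val.toRingHom
  have hι : Spec.map (CommRingCat.ofHom (algebraMap B L)) ≫ fA =
      Spec.map (CommRingCat.ofHom (algebraMap K L)) ≫ jK := by
    show Spec.map _ ≫ Spec.map _ = Spec.map _ ≫ Spec.map _
    rw [← Spec.map_comp, ← Spec.map_comp]
    rfl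
  have hσ : Spec.map (CommRingCat.ofHom L.val.toRingHom) ≫ Spec.map (CommRingCat.ofHom (algebraMap K L)) ≫ jK = ξ := by
    rw [← Category.assoc, ← Spec.map_comp]
    rfl
  have hξB : (Spec.map (CommRingCat.ofHom L.val.toRingHom) ≫ Spec.map (CommRingCat.ofHom (algebraMap B L))) ≫ fA = ξ := by
    rw [Category.assoc, hι, hσ]
  obtain ⟨χ, hχm, hχ⟩ := exists_extended_chars fA hS (Groth.L25.Extension.isConnected_fibre_bc fA G hconn) hι hwι
    hew he hξB hσ vL
  haveI := hχm
  haveI : IsAffineHom (Red.DS S (Fin m → ℤ)).hom := Groth.L25.Central.isAffineHom_of_multTypeFT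
    (Groth.L25.Locus.isMultTypeFT_of_isTorus (Groth.L01.Unip.isTorus_DS S m))
  haveI : Smooth (Red.DS S (Fin m → ℤ)).hom := Groth.L25.SplitSub.smooth_DS S m
  haveI : IsFinite fA := (IsFinite.SpecMap_iff _).2 (RingHom.finite_algebraMap.2 inferInstance)
  haveI := isAffineHom_bc_of_chars hconn haff s₀ hs fA hGξ hξB χ (hχ ▸ hvL hσ) fun p => by
    obtain ⟨M, hM, hle⟩ := Ideal.exists_le_maximal p.asIdeal p.2.ne_top
    let t : Spec (CommRingCat.of B) := ⟨M, hM.isPrime⟩
    refine ⟨t, (PrimeSpectrum.le_iff_specializes p t).1 hle, ?_, by rw [hgen]; exact genericPoint_specializes t⟩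
    have h1 : IsClosed ({fA t} : Set S) := by
      have htc : IsClosed ({t} : Set (Spec (CommRingCat.of B))) := (PrimeSpectrum.isClosed_singleton_iff_isMaximal t).2 hM
      have := fA.isClosedMap _ htc
      rwa [Set.image_singleton] at this
    rw [hs₀]
    exact (h1.stableUnderSpecialization (IsLocalRing.specializes_closedPoint (R := A) (fA t)) rfl).symm
  exact isAffine_of_isAffineHom (Red.bc fA G).hom

end Groth.L25.AffRed
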