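import Groth.Agent.L24.Boot.QuotRep
import Groth.Agent.L24.Alg.SourceFppf
import Groth.Agent.L24.St.LocPFppf
import Groth.Agent.L23.LqfRep
import Groth.Agent.L23.FppfSmooth
import Groth.Agent.L23.AlgSpace
import Groth.Agent.L23.FieldSpace
import Groth.Agent.L09.FreeQuot.Separation
import Groth.Agent.L27.TopInv.Sections
import Groth.Agent.L24.QuotAff.Main

/-!
# Quotients by clopen equivalence relations are separated étale schemes
-/

set_option autoImplicit false
set_option backward.isDefEq.respectTransparency false
set_option backward.isDefEq.respectTransparency.types false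
set_option linter.style.haveILetI false

universe u

open CategoryTheory CategoryTheory.Limits AlgebraicGeometry Opposite AlgSp

noncomputable section

namespace Groth.L25.AffRed

open Groth.L23

variable {S : Scheme.{u}}

/-- properties of the relation pass to the diagonal of its quotient sheaf -/
theorem repWith_diag_quot {R U : Over S} {Q : Sp S} {s t : R ⟶ U} {π : (yon S).obj U ⟶ Q} [Epi π]
    (hQ : IsAlgSpace Q) (sq : IsPullback ((yon S).map t) ((yon S).map s) π π)
    [Flat s.left] [LocallyOfFinitePresentation s.left] [Surjective s.left]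
    (P : MorphismProperty Scheme.{u}) [P.IsStableUnderBaseChange]
    [P.IsLocalAtTarget Scheme.fppfPrecoverage] (h : P (Limits.prod.lift t s).left) :
    RepWith P (Limits.diag Q) := by
  haveI : Sheaf.IsLocallySurjective π := (Sheaf.isLocallySurjective_iff_epi' _ π).2 ‹_›
  haveI := isLocalAtTarget_fppf (@Flat.{u})
  haveI := isLocalAtTarget_fppf (@LocallyOfFinitePresentation.{u})
  haveI := isLocalAtTarget_fppf (@Surjective.{u})
  have hπr : Representable π := hQ.representable_from_yon π
  have h₁ : RepWith @Flat π := repWith_of_locallySurjective hπr sq (repWith_map ‹Flat s.left›)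
  have h₂ : RepWith @LocallyOfFinitePresentation π :=
    repWith_of_locallySurjective hπr sq (repWith_map ‹LocallyOfFinitePresentation s.left›)
  have h₃ : RepWith @Surjective π := repWith_of_locallySurjective hπr sq (repWith_map ‹Surjective s.left›)
  haveI : Sheaf.IsLocallySurjective (Limits.prod.map π π) := isLocallySurjective_of_repWith _
    (prop_prod_map (RepWith @Flat) h₁ h₁) (prop_prod_map (RepWith @LocallyOfFinitePresentation) h₂ h₂)
    (prop_prod_map (RepWith @Surjective) h₃ h₃)
  refine repWith_of_locallySurjective hQ.diag (isPullback_diag sq) ?_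
  rw [show prod.lift ((yon S).map t) ((yon S).map s) =
    (yon S).map (prod.lift t s) ≫ prodComparison (yon S) U U by ext <;> simp [← Functor.map_comp]]
  haveI : P.RespectsIso := MorphismProperty.IsStableUnderBaseChange.respectsIso
  exact (MorphismProperty.cancel_right_of_respectsIso (RepWith P) _ _).2 ((repWith_yon_map_iff _ _).2 h)

/-- morphisms to the base sheaf are separated exactly when the space is separated -/
theorem isSeparatedMor_base_iff (X : Sp S) (g : X ⟶ (yon S).obj (Over.mk (𝟙 S))) :
    IsSeparatedMor g ↔ IsSeparatedSp X := by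
  have hT : IsTerminal ((yon S).obj (Over.mk (𝟙 S))) := IsTerminal.isTerminalObj (yon S) _ Over.mkIdTerminal
  let θ : pullback g g ⟶ X ⨯ X := prod.lift (pullback.fst g g) (pullback.snd g g)
  have : IsIso θ :=
    ⟨pullback.lift prod.fst prod.snd (hT.hom_ext _ _), by apply pullback.hom_ext <;> simp [θ], by
      ext <;> simp [θ]⟩
  show RepWith _ _ ↔ RepWith _ _
  rw [show Limits.diag X = pullback.diagonal g ≫ θ by ext <;> simp [θ]]
  exact (MorphismProperty.cancel_right_of_respectsIso (RepWith @IsClosedImmersion) _ θ).symm

/-- étale charts of a space with open diagonal, covered by a smooth scheme, are étale over the base -/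
theorem etale_chart {U V : Over S} {Q : Sp S} {π : (yon S).obj U ⟶ Q} (hQ : IsAlgSpace Q) [Smooth U.hom]
    (h₁ : RepWith @Flat π) (h₂ : RepWith @LocallyOfFinitePresentation π) (h₃ : RepWith @Surjective π)
    (hd : RepWith @IsOpenImmersion (Limits.diag Q)) (η : (yon S).obj V ⟶ Q) (hη : RepWith @Etale η) :
    Etale V.hom := by
  obtain ⟨P, pV, pU, sqP⟩ := exists_isPullback_of_representable hη.1 π
  haveI : Flat pV.left := repWith_prop h₁ sqP.flip
  haveI : LocallyOfFinitePresentation pV.left := repWith_prop h₂ sqP.flip
  haveI : Surjective pV.left := repWith_prop h₃ sqP.flip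
  haveI : Etale pU.left := repWith_prop hη sqP
  have hPs : Smooth (pV.left ≫ V.hom) := by
    rw [Over.w pV, ← Over.w pU]; infer_instance
  haveI : Smooth V.hom := Groth.L23.FppfSmooth.smooth_of_fppf_comp pV.left V.hom hPs
  obtain ⟨W, a, b, sqW⟩ := exists_isPullback_of_representable hη.1 η
  haveI : Etale a.left := repWith_prop hη sqW.flip
  have hlift : RepWith @IsOpenImmersion (prod.lift ((yon S).map a) ((yon S).map b)) :=
    repWith_of_isPullback (isPullback_diag sqW) hd
  rw [show prod.lift ((yon S).map a) ((yon S).map b) =
    (yon S).map (prod.lift a b) ≫ prodComparison (yon S) V V by ext <;> simp [← Functor.map_comp]] at hlift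
  haveI : IsOpenImmersion (prod.lift a b).left :=
    (repWith_yon_map_iff _ _).1 ((MorphismProperty.cancel_right_of_respectsIso (RepWith @IsOpenImmersion) _ _).1 hlift)
  obtain ⟨σ, hσ⟩ := (yon S).map_surjective (sqW.lift (𝟙 _) (𝟙 _) rfl)
  have hσa : σ ≫ a = 𝟙 V := (yon S).map_injective (by rw [Functor.map_comp, hσ, sqW.lift_fst, CategoryTheory.Functor.map_id])
  have hσb : σ ≫ b = 𝟙 V := (yon S).map_injective (by rw [Functor.map_comp, hσ, sqW.lift_snd, CategoryTheory.Functor.map_id])
  haveI : IsOpenImmersion σ.left := Groth.L27.TopInv.isOpenImmersion_section a.left σ.left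
    (by rw [← Over.comp_left, hσa, Over.id_left])
  have hdiag : pullback.diagonal V.hom = (σ.left ≫ (prod.lift a b).left) ≫ (Over.prodLeftIsoPullback V V).hom := by
    apply pullback.hom_ext
    · rw [pullback.diagonal_fst, Category.assoc, Category.assoc, Over.prodLeftIsoPullback_hom_fst,
        ← Over.comp_left, ← Over.comp_left, prod.lift_fst, hσa, Over.id_left]
    · rw [pullback.diagonal_snd, Category.assoc, Category.assoc, Over.prodLeftIsoPullback_hom_snd,
        ← Over.comp_left, ← Over.comp_left, prod.lift_snd, hσb, Over.id_left]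
  haveI : IsOpenImmersion (pullback.diagonal V.hom) := by rw [hdiag]; infer_instance
  exact Etale.of_formallyUnramified_of_flat V.hom

end Groth.L25.AffRed
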