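import Groth.Agent.L25.AffRed.Lift
import Groth.Agent.L25.TrivLocus
import Groth.Agent.L19.SpecSub.IsogenyProps
import Groth.Agent.L08.Borel.CommTorus
import Groth.Agent.S14754

/-!
# Central tori of the closed fibre killed by a generically finite homomorphism are trivial

Over a valuation ring with algebraically closed fraction field: a torus of the closed fibre of a reductive group
comes from a cocharacter of a split maximal torus; if a homomorphism kills it and is finite on the generic fibre,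
the cocharacter is zero.
-/

set_option autoImplicit false
set_option linter.unusedSectionVars false
set_option linter.style.haveILetI false
set_option backward.isDefEq.respectTransparency.types false
set_option maxHeartbeats 1000000

universe u

open CategoryTheory CategoryTheory.Limits MonoidalCategory CartesianMonoidalCategory MonObj GrpObj AlgebraicGeometry
open Groth.L08.MonoRed (baseMap closedMap bcHom_comp)
open Groth.L25.SplitSub (bcDS bcHom isMonHom_bcHom)
open IsLocalRing (closedPoint)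

attribute [-instance] CategoryTheory.Hom.commGroup
noncomputable section

namespace Groth.L25.AffRed

/-- the group is isomorphic to its base change along the identity -/
theorem exists_iso_bc_id {S : Scheme.{u}} (G : Over S) [GrpObj G] :
    ∃ e : Red.bc (𝟙 S) G ≅ G, IsMonHom e.hom :=
  ⟨(Over.pullbackId (X := S)).app G,
    ((Functor.mapGrpNatIso (Over.pullbackId (X := S))).app (Grp.mk G)).hom.hom.isMonHom_hom⟩

theorem bcHom_comp_map {S P : Scheme.{u}} (g : P ⟶ S) {M : Type} [AddCommGroup M] {G H : Over S}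
    (i : Red.DS S M ⟶ G) (u : G ⟶ H) : bcHom g (i ≫ u) = bcHom g i ≫ (Over.pullback g).map u := by
  simp only [bcHom, Functor.map_comp, Category.assoc]

/-- a torus is trivial when a monomorphism out of it is trivial -/
theorem isTrivialGrp_of_eq_one {S : Scheme.{u}} {T G : Over S} [GrpObj T] [GrpObj G] (i : T ⟶ G) [Mono i.left]
    (h : i = 1) : Red.IsTrivialGrp T := by
  have h1 : i.left = T.hom ≫ η[G].left := by
    rw [h]
    show (toUnit T).left ≫ _ = _
    congr 1
  haveI : Mono (T.hom ≫ η[G].left) := h1 ▸ inferInstance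
  haveI : Mono T.hom := mono_of_mono T.hom η[G].left
  haveI : IsSplitEpi T.hom := ⟨⟨η[T].left, Over.w η[T]⟩⟩
  exact isIso_of_mono_of_isSplitEpi T.hom

variable {V : Type u} [CommRing V] [IsDomain V] [ValuationRing V] {Ω : Type u} [Field Ω] [IsAlgClosed Ω]
  [Algebra V Ω] [IsFractionRing V Ω] {G H : Over (Spec (CommRingCat.of V))} [GrpObj G] [GrpObj H]
  [IsAffineHom H.hom] [LocallyOfFinitePresentation H.hom]

/-- **central tori of the closed fibre killed by a generically finite homomorphism are trivial** -/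
theorem isTrivialGrp_of_killed_closed (hG : Red.IsReductive G) (u : G ⟶ H) [IsMonHom u]
    [IsFinite ((Over.pullback (baseMap V Ω)).map u).left]
    {T : Over (Spec (CommRingCat.of (IsLocalRing.ResidueField V)))} [GrpObj T]
    (iT : T ⟶ Red.bc (closedMap V) G) [IsMonHom iT] [IsClosedImmersion iT.left] (hT : Red.IsTorus T)
    (hcent : ∀ (X : Over _) (t : X ⟶ T) (g : X ⟶ Red.bc (closedMap V) G), (t ≫ iT) * g = g * (t ≫ iT))
    (hkill : iT ≫ (Over.pullback (closedMap V)).map u = 1) : Red.IsTrivialGrp T := by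
  haveI := hG.1; haveI := hG.2.1
  haveI : IsSeparated H.hom := inferInstance
  haveI : QuasiCompact H.hom := inferInstance
  haveI : HenselianLocalRing V := Groth.L27.NormalSepClosed.henselianLocalRing (R := V) Ω
  haveI : IsAlgClosed (IsLocalRing.ResidueField V) := Groth.L08.MonoRed.isAlgClosed_residue (V := V) (K := Ω)
  let S₀ := Spec (CommRingCat.of V)
  let κ := closedMap V
  let ξ := baseMap V Ω
  obtain ⟨e₀, he₀⟩ := exists_iso_bc_id G
  haveI := he₀
  obtain ⟨r, i', hi'⟩ := Groth.L08.MonoRed.exists_split_torus hG (𝟙 S₀)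
  let i : Red.DS S₀ (Fin r → ℤ) ⟶ G := i' ≫ e₀.hom
  haveI : Smooth (Red.bc (𝟙 S₀) G).hom := inferInstanceAs (Smooth (pullback.snd G.hom (𝟙 S₀)))
  have hi : Red.IsMaximalTorus i := Groth.L25.RedOpen.isMaximalTorus_comp_iso e₀ hi'
  haveI := hi.1; haveI := hi.2.1
  -- the maximal torus of the closed fibre contains the torus
  have hmk := Groth.L08.MonoRed.isMaxTorus_bcHom i hi κ
  haveI := hmk.1; haveI := hmk.2.1
  have hcen := Groth.L08.TorusWeights.selfCentral_of_reductiveOver
    (Groth.L08.MonoRed.isReductiveOver_geom hG κ) hmk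
  obtain ⟨ψ, hψ⟩ := (hcen.2.2 T iT).2 fun X x t => (hcent X x (t ≫ bcHom κ i))
  haveI : IsMonHom (ψ ≫ bcHom κ i) := hψ.symm ▸ inferInstance
  haveI : IsMonHom ψ := Groth.L08.TorusWeights.isMonHom_of_mono ψ (bcHom κ i) (ψ ≫ bcHom κ i) rfl
  obtain ⟨d, ⟨E⟩⟩ := Groth.L08.Borel.exists_split_rank hT
  let e := E.inv.hom.hom
  haveI : IsMonHom e := E.inv.hom.isMonHom_hom
  obtain ⟨θ, hθ⟩ := Groth.Agent.S14754.exists_DSmap (e ≫ ψ)
  -- the cocharacter over the base
  haveI : IsMonHom (Red.DSmap S₀ θ) := Groth.L25.TorusTorsion.isMonHom_DSmap _ _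
  let l : Red.DS S₀ (Fin d → ℤ) ⟶ G := Red.DSmap S₀ θ ≫ i
  haveI : IsMonHom l := inferInstanceAs (IsMonHom (_ ≫ _))
  haveI : IsMonHom (l ≫ u) := inferInstance
  have hlk : bcHom κ l = e ≫ iT := by
    rw [← hψ, ← Category.assoc, hθ]
    exact bcHom_comp κ θ i
  have hk : (Over.pullback κ).map (l ≫ u) = 1 := by
    rw [← Groth.L25.SplitSub.bcDS_hom_bcHom, bcHom_comp_map, hlk, Category.assoc, hkill, MonObj.comp_one,
      MonObj.comp_one]
  obtain ⟨U, -, hU, -⟩ := Groth.L25.TrivLocus.main
    (Groth.L25.Locus.isMultTypeFT_of_isTorus (Groth.L01.Unip.isTorus_DS S₀ d))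
    (Or.inr ⟨‹LocallyOfFinitePresentation H.hom›, inferInstance, inferInstance⟩) (l ≫ u)
  have hcU : closedPoint V ∈ U := by
    have h1 := (Groth.L25.TrivLocus.triv_iff_map (l ≫ u) κ).2 hk
    rw [Groth.L25.TrivLocus.triv_field_iff] at h1
    have h2 := (hU _).2 ((Groth.L25.TrivLocus.triv_iff_map _ _).1 h1)
    rwa [show κ (closedPoint (IsLocalRing.ResidueField V)) = closedPoint V from
      Groth.L08.MonoRed.apply_closedPoint _] at h2
  have hgen : (Over.pullback ξ).map (l ≫ u) = 1 := by
    refine (Groth.L25.TrivLocus.triv_iff_map _ _).1 ((Groth.L25.TrivLocus.triv_field_iff _ _).2 ?_)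
    refine (Groth.L25.TrivLocus.triv_iff_map _ _).2 ((hU _).1 ?_)
    exact Groth.L08.MonoRed.mem_of_closedPoint hcU _
  -- the cocharacter is zero
  haveI := isMonHom_bcHom ξ l
  haveI := isMonHom_bcHom ξ i
  haveI : IsMonHom ((Over.pullback ξ).map u) := Groth.L25.MonoClosed.isMonHom_pullbackMap ξ u
  haveI : Smooth (Red.bc ξ G).hom := inferInstanceAs (Smooth (pullback.snd G.hom ξ))
  haveI : IsAffineHom (Red.bc ξ G).hom := MorphismProperty.pullback_snd (P := @IsAffineHom) G.hom ξ inferInstance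
  obtain ⟨hTa, hTs, hTc, -, -⟩ := Groth.L08.Borel.torus_props
    (k := Ω) (Groth.L01.Unip.isTorus_DS (Spec (CommRingCat.of Ω)) d)
  haveI := hTs; haveI := hTc
  haveI : IsReduced (Red.DS (Spec (CommRingCat.of Ω)) (Fin d → ℤ)).left :=
    Groth.Agent.AV.isReduced_of_smooth_field (k := Ω) (Red.DS (Spec (CommRingCat.of Ω)) (Fin d → ℤ)).hom
  have hm : bcHom ξ l = 1 := Groth.L19.SpecSub.eq_one_of_finite ((Over.pullback ξ).map u) (bcHom ξ l)
    (fun a => by rw [Category.assoc, ← bcHom_comp_map, bcHom, hgen, MonObj.comp_one, MonObj.comp_one])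
    1 (MonObj.one_comp _)
  haveI : Mono (bcHom ξ i) := (Groth.L08.MonoRed.isMaxTorus_bcHom i hi ξ).2.1
  have hz : θ = 0 := by
    refine Groth.Agent.S14754.DSmap_injective (k := Ω) ?_
    rw [Groth.Agent.S14754.DSmap_zero, ← cancel_mono (bcHom ξ i), MonObj.one_comp, ← bcHom_comp]
    exact hm
  haveI : IsMonHom (bcHom κ i) := hmk.1
  refine isTrivialGrp_of_eq_one iT ?_
  haveI : IsIso e := ⟨E.hom.hom.hom, congr($(E.inv_hom_id).hom.hom), congr($(E.hom_inv_id).hom.hom)⟩
  rw [← cancel_epi e, MonObj.comp_one, ← hψ, ← Category.assoc, hθ, hz, Groth.Agent.S14754.DSmap_zero,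
    MonObj.one_comp]

end Groth.L25.AffRed
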